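/-
Extraspecial 2-subgroups normal in the centralizer of their central involution: the symmetry lemma.
-/
import Cfsg.Agent.Lib.ExtraspecialTwo
import Cfsg.Agent.Lib.Basic

set_option autoImplicit false

namespace CfsgLargeExtra

open Cfsg
open scoped commutatorElement

variable {G : Type*} [Group G]

/-- An extraspecial 2-subgroup with central involution `z`, self-centralizing, normalised by the centralizer of `z`. -/
structure ES (Q : Subgroup G) (z : G) : Prop where
  mem : z ∈ Q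
  ne : z ≠ 1
  comm : ∀ q ∈ Q, q * z = z * q
  sq : ∀ q ∈ Q, q * q = 1 ∨ q * q = z
  cen : ∀ c : G, (∀ q ∈ Q, c * q = q * c) → c = 1 ∨ c = z
  nor : ∀ c : G, c * z = z * c → ∀ q ∈ Q, c * q * c⁻¹ ∈ Q

/-- The conjugate subgroup. -/
def cj (g : G) (Q : Subgroup G) : Subgroup G := Q.map (MulAut.conj g).toMonoidHom

theorem mem_cj {g : G} {Q : Subgroup G} {x : G} : x ∈ cj g Q ↔ g⁻¹ * x * g ∈ Q := by
  constructor
  · rintro ⟨q, hq, rfl⟩
    simpa [mul_assoc] using hq
  · intro h
    exact ⟨_, h, by simp [mul_assoc]⟩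

theorem conj_mem_cj {g : G} {Q : Subgroup G} {q : G} (h : q ∈ Q) : g * q * g⁻¹ ∈ cj g Q :=
  ⟨q, h, by simp⟩

variable {Q : Subgroup G} {z : G}

theorem ES.zz (h : ES Q z) : z * z = 1 := by
  rcases h.sq z h.mem with e | e
  · exact e
  · exact absurd (mul_eq_left.mp e) h.ne

theorem ES.toExt (h : ES Q z) : CfsgLib.ExtraTwo.Ext2 Q ⟨z, h.mem⟩ := by
  refine ⟨fun e => h.ne (congrArg Subtype.val e), fun q => ⟨fun hq => ?_, ?_⟩, fun q => ?_⟩
  · rcases h.cen q fun r hr => (congrArg Subtype.val (Subgroup.mem_center_iff.mp hq ⟨r, hr⟩)).symm with e | e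
    · exact Or.inl (Subtype.ext e)
    · exact Or.inr (Subtype.ext e)
  · rintro (rfl | rfl)
    · exact one_mem _
    · exact Subgroup.mem_center_iff.mpr fun r => Subtype.ext (h.comm r r.2)
  · rcases h.sq q q.2 with e | e
    · exact Or.inl (Subtype.ext e)
    · exact Or.inr (Subtype.ext e)

theorem ES.commutator_cases (h : ES Q z) {a b : G} (ha : a ∈ Q) (hb : b ∈ Q) : ⁅a, b⁆ = 1 ∨ ⁅a, b⁆ = z := by
  rcases h.toExt.comm_cases ⟨a, ha⟩ ⟨b, hb⟩ with e | e
  · left; simpa [commutatorElement_def] using congrArg Subtype.val e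
  · right; simpa [commutatorElement_def] using congrArg Subtype.val e

theorem ES.conj_cases (h : ES Q z) {a b : G} (ha : a ∈ Q) (hb : b ∈ Q) :
    a * b * a⁻¹ = b ∨ a * b * a⁻¹ = b * z := by
  rcases h.commutator_cases ha hb with e | e
  · left
    rw [commutatorElement_def, mul_inv_eq_one] at e
    exact e
  · right
    rw [commutatorElement_def, mul_inv_eq_iff_eq_mul] at e
    rw [e, h.comm b hb]

theorem ES.inv_cases (h : ES Q z) {a : G} (ha : a ∈ Q) : a⁻¹ = a ∨ a⁻¹ = a * z := by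
  rcases h.sq a ha with e | e
  · exact Or.inl (inv_eq_of_mul_eq_one_right e)
  · right
    refine inv_eq_of_mul_eq_one_right ?_
    rw [← mul_assoc, e, h.zz]

theorem ES.cj (h : ES Q z) (g : G) : ES (CfsgLargeExtra.cj g Q) (g * z * g⁻¹) := by
  refine ⟨conj_mem_cj h.mem, fun e => h.ne (conj_eq_one_iff.mp e), ?_, ?_, fun c hc => ?_, fun c hc q hq => ?_⟩
  · rintro _ ⟨q, hq, rfl⟩
    show MulAut.conj g q * MulAut.conj g z = MulAut.conj g z * MulAut.conj g q
    rw [← map_mul, ← map_mul, h.comm q hq]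
  · rintro _ ⟨q, hq, rfl⟩
    show MulAut.conj g q * MulAut.conj g q = 1 ∨ MulAut.conj g q * MulAut.conj g q = MulAut.conj g z
    rw [← map_mul]
    rcases h.sq q hq with e | e <;> rw [e]
    · exact Or.inl (map_one _)
    · exact Or.inr rfl
  · rcases h.cen (g⁻¹ * c * g) fun q hq => by
        have := congrArg (fun y => g⁻¹ * y * g) (hc _ (conj_mem_cj (g := g) hq))
        simpa [mul_assoc] using this with e | e
    · left; simpa [mul_assoc, inv_mul_eq_iff_eq_mul, mul_eq_left] using e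
    · right; rw [← e]; group
  · have hc' : g⁻¹ * c * g * z = z * (g⁻¹ * c * g) := by
      have := congrArg (fun y => g⁻¹ * y * g) hc
      simpa [mul_assoc] using this
    rw [mem_cj] at hq ⊢
    have := h.nor _ hc' _ hq
    simpa [mul_assoc] using this

theorem ES.cj_eq_self (h : ES Q z) {c : G} (hc : c * z = z * c) : CfsgLargeExtra.cj c Q = Q := by
  ext x
  rw [mem_cj]
  have hc' : c⁻¹ * z = z * c⁻¹ := by rw [inv_mul_eq_iff_eq_mul, ← mul_assoc, hc, mul_inv_cancel_right]
  refine ⟨fun hx => ?_, fun hx => ?_⟩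
  · have := h.nor c hc _ hx
    simpa [mul_assoc] using this
  · have := h.nor c⁻¹ hc' _ hx
    simpa [mul_assoc] using this

theorem ES.cj_congr (h : ES Q z) {g k : G} (hgk : g * z * g⁻¹ = k * z * k⁻¹) :
    CfsgLargeExtra.cj g Q = CfsgLargeExtra.cj k Q := by
  have hc : (k⁻¹ * g) * z = z * (k⁻¹ * g) := by
    calc k⁻¹ * g * z = k⁻¹ * (g * z * g⁻¹) * g := by group
      _ = k⁻¹ * (k * z * k⁻¹) * g := by rw [hgk]
      _ = z * (k⁻¹ * g) := by group
  ext x
  rw [mem_cj, mem_cj]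
  conv_rhs => rw [← h.cj_eq_self hc, mem_cj]
  simp [mul_assoc]

variable [Finite G]

/-- The centralizer in `Q` of the centralizer of a noncentral involution `x`. -/
theorem ES.double_cent (h : ES Q z) (S : Subgroup G) (hS : S ≤ Q) (hzS : z ∈ S) {a : G} (ha : a ∈ Q)
    (hcomm : ∀ p ∈ Q, (∀ s ∈ S, s * p = p * s) → a * p = p * a) : a ∈ S := by
  classical
  set S' : Subgroup Q := S.subgroupOf Q
  have hz' : (⟨z, h.mem⟩ : Q) ∈ S' := hzS
  set T : Subgroup Q := Subgroup.centralizer (S' : Set Q)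
  have h1 := h.toExt.card_mul_card_centralizer (A := S') hz'
  have hzT : (⟨z, h.mem⟩ : Q) ∈ T := Subgroup.mem_centralizer_iff.mpr fun s _ => Subtype.ext (h.comm s s.2)
  have h2 := h.toExt.card_mul_card_centralizer (A := T) hzT
  have hle : S' ≤ Subgroup.centralizer (T : Set Q) := fun s hs =>
    Subgroup.mem_centralizer_iff.mpr fun t ht => (Subgroup.mem_centralizer_iff.mp ht s hs).symm
  have heq : S' = Subgroup.centralizer (T : Set Q) := by
    refine Subgroup.eq_of_le_of_card_ge hle ?_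
    rw [mul_comm] at h1
    exact le_of_eq (Nat.eq_of_mul_eq_mul_left (Nat.card_pos (α := T)) (h2.trans h1.symm))
  have : (⟨a, ha⟩ : Q) ∈ S' := by
    rw [heq, Subgroup.mem_centralizer_iff]
    intro t ht
    refine Subtype.ext (hcomm t t.2 fun s hs => ?_).symm
    exact congrArg Subtype.val (Subgroup.mem_centralizer_iff.mp ht ⟨s, hS hs⟩ hs)
  exact this

omit [Finite G] in
/-- The four-element set generated by two commuting involutions. -/
def fourGroup (a b : G) (ha : a * a = 1) (hb : b * b = 1) (hab : a * b = b * a) : Subgroup G where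
  carrier := {x | x = 1 ∨ x = a ∨ x = b ∨ x = a * b}
  one_mem' := Or.inl rfl
  mul_mem' := by
    have h1 : ∀ t, a * (a * t) = t := fun t => by rw [← mul_assoc, ha, one_mul]
    have h2 : ∀ t, b * (b * t) = t := fun t => by rw [← mul_assoc, hb, one_mul]
    have h3 : ∀ t, b * (a * t) = a * (b * t) := fun t => by rw [← mul_assoc, ← hab, mul_assoc]
    rintro x y (rfl | rfl | rfl | rfl) (rfl | rfl | rfl | rfl) <;>
      simp [mul_assoc, ha, hb, h1, h2, h3, hab.symm]
  inv_mem' := by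
    rintro x (rfl | rfl | rfl | rfl)
    · exact Or.inl inv_one
    · exact Or.inr (Or.inl (inv_eq_of_mul_eq_one_right ha))
    · exact Or.inr (Or.inr (Or.inl (inv_eq_of_mul_eq_one_right hb)))
    · refine Or.inr (Or.inr (Or.inr ?_))
      rw [mul_inv_rev, inv_eq_of_mul_eq_one_right ha, inv_eq_of_mul_eq_one_right hb, hab]

theorem ES.mem_four (h : ES Q z) {x : G} (hx : x ∈ Q) (hxx : x * x = 1) {a : G} (ha : a ∈ Q)
    (hcomm : ∀ p ∈ Q, p * x = x * p → a * p = p * a) : a = 1 ∨ a = z ∨ a = x ∨ a = z * x := by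
  have := h.double_cent (fourGroup z x h.zz hxx (h.comm x hx).symm) (by
      rintro y (rfl | rfl | rfl | rfl)
      exacts [one_mem _, h.mem, hx, mul_mem h.mem hx]) (Or.inr (Or.inl rfl)) ha
    (fun p hp hc => hcomm p hp (hc x (Or.inr (Or.inr (Or.inl rfl)))).symm)
  exact this

/-- Symmetry: a conjugate of `z` in `Q` has a subgroup containing `z`. -/
theorem ES.symm_mem (h : ES Q z) {g : G} (hx : g * z * g⁻¹ ∈ Q)
    (hP : g * z * g⁻¹ ≠ z → ∃ p ∈ Q, ∃ p' ∈ Q, p * (g * z * g⁻¹) = g * z * g⁻¹ * p ∧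
      p' * (g * z * g⁻¹) = g * z * g⁻¹ * p' ∧ p * p' ≠ p' * p) :
    z ∈ CfsgLargeExtra.cj g Q := by
  set x := g * z * g⁻¹ with hxdef
  have h' : ES (CfsgLargeExtra.cj g Q) x := h.cj g
  set Q' := CfsgLargeExtra.cj g Q with hQ'
  by_cases hxz : x = z
  · rw [← hxz]; exact h'.mem
  by_contra hzQ'
  have hxx : x * x = 1 := h'.zz
  have hxzc : x * z = z * x := h.comm x hx
  have hnor : ∀ c : G, c * x = x * c → ∀ w ∈ Q', c * w * c⁻¹ ∈ Q' := h'.nor
  -- no element of `Q'` moves `z` to `z * x`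
  have hnoy : ∀ y ∈ Q', y * z * y⁻¹ ≠ z * x := by
    intro y hy he
    obtain ⟨q, hq, hqx⟩ : ∃ q ∈ Q, q * x * q⁻¹ = x * z := by
      by_contra hall
      push Not at hall
      rcases h.cen x fun q hq => by
          rcases h.conj_cases hq hx with e | e
          · exact (mul_inv_eq_iff_eq_mul.mp e).symm
          · exact absurd e (hall q hq) with e | e
      · exact absurd (conj_eq_one_iff.mp e) h.ne
      · exact hxz e
    have hk : (q * y) * z * (q * y)⁻¹ = g * z * g⁻¹ := by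
      rw [← hxdef, show q * y * z * (q * y)⁻¹ = q * (y * z * y⁻¹) * q⁻¹ by group, he,
        show q * (z * x) * q⁻¹ = (q * z * q⁻¹) * (q * x * q⁻¹) by group, hqx, h.comm q hq,
        mul_inv_cancel_right, hxzc, ← mul_assoc, h.zz, one_mul]
    have hmem : (q * y) * x * (q * y)⁻¹ ∈ Q' := by
      rw [hQ', ← h.cj_congr hk]; exact conj_mem_cj hx
    rw [show q * y * x * (q * y)⁻¹ = q * (y * x * y⁻¹) * q⁻¹ by group, h'.comm y hy, mul_inv_cancel_right,
      hqx] at hmem
    exact hzQ' ((Subgroup.mul_mem_cancel_left _ h'.mem).mp hmem)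
  have hfix : ∀ y ∈ Q', (y * z * y⁻¹ * z⁻¹ = 1 ∨ y * z * y⁻¹ * z⁻¹ = x) → y * z = z * y := by
    intro y hy he
    rcases he with e | e
    · exact mul_inv_eq_iff_eq_mul.mp (mul_inv_eq_one.mp e)
    · rw [mul_inv_eq_iff_eq_mul, hxzc] at e
      exact absurd e (hnoy y hy)
  -- elements common to `Q` and `Q'`
  have hA : ∀ a ∈ Q, a ∈ Q' → a = 1 ∨ a = x := by
    intro a ha ha'
    have hax := h'.comm a ha'
    have := h.mem_four hx hxx ha fun p hp hpx => by
      rcases h.conj_cases hp ha with e | e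
      · exact (mul_inv_eq_iff_eq_mul.mp e).symm
      · exfalso
        apply hzQ'
        have hm := hnor p hpx a ha'
        rw [e] at hm
        exact (Subgroup.mul_mem_cancel_left _ ha').mp hm
    rcases this with e | e | e | e
    · exact Or.inl e
    · exact absurd (e ▸ ha') hzQ'
    · exact Or.inr e
    · exact absurd ((Subgroup.mul_mem_cancel_right _ h'.mem).mp (e ▸ ha')) hzQ'
  -- elements of `Q` centralizing `x` centralize `C_{Q'}(z)` modulo `x`
  have hD : ∀ d ∈ Q', d * z = z * d → ∀ p ∈ Q, p * x = x * p → p * d * p⁻¹ = d ∨ p * d * p⁻¹ = x * d := by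
    intro d hd hdz p hp hpx
    have h1 : p * d * p⁻¹ * d⁻¹ ∈ Q' := mul_mem (hnor p hpx d hd) (inv_mem hd)
    have h2 : p * d * p⁻¹ * d⁻¹ ∈ Q := by
      rw [show p * d * p⁻¹ * d⁻¹ = p * (d * p⁻¹ * d⁻¹) by group]
      exact mul_mem hp (h.nor d hdz _ (inv_mem hp))
    rcases hA _ h2 h1 with e | e
    · exact Or.inl (mul_inv_eq_one.mp e)
    · exact Or.inr (mul_inv_eq_iff_eq_mul.mp e)
  have hzx : z * x = x * z := hxzc.symm
  -- `[w, P]` lies in `C_{Q'}(z)`
  have hW : ∀ w ∈ Q', ∀ p ∈ Q, p * x = x * p →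
      p * w * p⁻¹ * w⁻¹ ∈ Q' ∧ p * w * p⁻¹ * w⁻¹ * z = z * (p * w * p⁻¹ * w⁻¹) := by
    intro w hw p hp hpx
    set v := p * w * p⁻¹ * w⁻¹ with hv
    have hvQ : v ∈ Q' := mul_mem (hnor p hpx w hw) (inv_mem hw)
    refine ⟨hvQ, ?_⟩
    set u := z * w * z⁻¹ * w⁻¹ with hu
    have huQ : u ∈ Q' := mul_mem (hnor z hzx w hw) (inv_mem hw)
    have hzu : z * u * z⁻¹ = u⁻¹ := by
      rw [hu, inv_eq_of_mul_eq_one_right h.zz]
      simp only [mul_inv_rev, inv_inv, inv_eq_of_mul_eq_one_right h.zz]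
      rw [show z * (z * w * z * w⁻¹) * z = (z * z) * w * z * w⁻¹ * z by group, h.zz, one_mul]
      simp [mul_assoc]
    have hucomm : u * z = z * u := by
      rcases h'.inv_cases huQ with e | e
      · rw [e] at hzu; exact (mul_inv_eq_iff_eq_mul.mp hzu).symm
      · refine hfix u huQ (Or.inr ?_)
        rw [e] at hzu
        rw [show u * z * u⁻¹ * z⁻¹ = u * (z * u⁻¹ * z⁻¹) by group,
          show z * u⁻¹ * z⁻¹ = (z * u * z⁻¹)⁻¹ by group, hzu, mul_inv_rev, ← mul_assoc,
          inv_eq_of_mul_eq_one_right hxx, h'.comm u huQ, mul_inv_cancel_right]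
    have hpz : p * z = z * p := h.comm p hp
    have key : z * v * z⁻¹ = (p * u * p⁻¹) * v * u⁻¹ := by
      rw [hv, hu]
      have e1 : z * p = p * z := hpz.symm
      calc z * (p * w * p⁻¹ * w⁻¹) * z⁻¹ = (z * p) * w * (z * p)⁻¹ * (z * w⁻¹ * z⁻¹) := by group
        _ = (p * z) * w * (p * z)⁻¹ * (z * w⁻¹ * z⁻¹) := by rw [e1]
        _ = _ := by group
    have h2 : z * v * z⁻¹ = v ∨ z * v * z⁻¹ = x * v := by
      have huv : u * v * u⁻¹ = v ∨ u * v * u⁻¹ = x * v := by
        rcases h'.conj_cases huQ hvQ with e | e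
        · exact Or.inl e
        · right; rw [e, h'.comm v hvQ]
      rcases hD u huQ hucomm p hp hpx with e | e <;> rw [key, e]
      · exact huv
      · rw [show x * u * v * u⁻¹ = x * (u * v * u⁻¹) by group]
        rcases huv with e' | e' <;> rw [e']
        · exact Or.inr rfl
        · left; rw [← mul_assoc, hxx, one_mul]
    refine hfix v hvQ ?_
    rcases h2 with e | e
    · left
      rw [mul_inv_eq_iff_eq_mul] at e
      rw [← e, mul_inv_cancel_right, mul_inv_cancel]
    · right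
      rw [show v * z * v⁻¹ * z⁻¹ = v * (z * v⁻¹ * z⁻¹) by
          rw [inv_eq_of_mul_eq_one_right h.zz]; group,
        show z * v⁻¹ * z⁻¹ = (z * v * z⁻¹)⁻¹ by group, e, mul_inv_rev, ← mul_assoc, mul_inv_cancel, one_mul,
        inv_eq_of_mul_eq_one_right hxx]
  obtain ⟨p, hp, p', hp', hpx, hp'x, hne⟩ := hP hxz
  have hpp : p * p' = z * (p' * p) := by
    rcases h.commutator_cases hp hp' with e | e
    · rw [commutatorElement_eq_one_iff_mul_comm] at e; exact absurd e hne
    · rw [← e, commutatorElement_def]; group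
  -- `z` acts trivially on `Q'` modulo `x`
  have hall : ∀ w ∈ Q', z * ((p' * p) * w * (p' * p)⁻¹) * z⁻¹ = (p' * p) * w * (p' * p)⁻¹ ∨
      z * ((p' * p) * w * (p' * p)⁻¹) * z⁻¹ = x * ((p' * p) * w * (p' * p)⁻¹) := by
    intro w hw
    obtain ⟨ha, haz⟩ := hW w hw p hp hpx
    obtain ⟨hb, hbz⟩ := hW w hw p' hp' hp'x
    set a := p * w * p⁻¹ * w⁻¹ with hadef
    set b := p' * w * p'⁻¹ * w⁻¹ with hbdef
    have hxa : ∀ t ∈ Q', x * t = t * x := fun t ht => (h'.comm t ht).symm
    have e1 : (p * p') * w * (p * p')⁻¹ = (p * b * p⁻¹) * a * w := by rw [hadef, hbdef]; group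
    have e2 : (p' * p) * w * (p' * p)⁻¹ = (p' * a * p'⁻¹) * b * w := by rw [hadef, hbdef]; group
    have e3 : z * ((p' * p) * w * (p' * p)⁻¹) * z⁻¹ = (p * p') * w * (p * p')⁻¹ := by rw [hpp]; group
    rw [e3, e1, e2]
    have hab : b * a = a * b ∨ b * a = x * (a * b) := by
      rcases h'.conj_cases hb ha with e | e
      · exact Or.inl (mul_inv_eq_iff_eq_mul.mp e)
      · right
        rw [mul_inv_eq_iff_eq_mul] at e
        rw [e, mul_assoc, hxa b hb, ← mul_assoc, h'.comm _ (mul_mem ha hb)]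
    have hA2 : ∀ t : G, x * (x * t) = t := fun t => by rw [← mul_assoc, hxx, one_mul]
    rcases hD b hb hbz p hp hpx with u1 | u1 <;> rcases hD a ha haz p' hp' hp'x with u2 | u2 <;>
      rcases hab with u3 | u3 <;> rw [u1, u2] <;> simp only [mul_assoc] <;>
      first
        | (left; rw [← mul_assoc b, u3]; simp only [mul_assoc, hA2]; done)
        | (right; rw [← mul_assoc b, u3]; simp only [mul_assoc, hA2]; done)
  have hcent : z = 1 ∨ z = x := by
    refine h'.cen z fun w hw => ?_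
    have hpp' : (p' * p) * x = x * (p' * p) := by
      rw [mul_assoc, hpx, ← mul_assoc, hp'x, mul_assoc]
    have hw' : (p' * p)⁻¹ * w * (p' * p) ∈ Q' := by
      have := hnor (p' * p)⁻¹ (by rw [inv_mul_eq_iff_eq_mul, ← mul_assoc, hpp', mul_inv_cancel_right]) w hw
      simpa [mul_assoc] using this
    have := hall _ hw'
    rw [show (p' * p) * ((p' * p)⁻¹ * w * (p' * p)) * (p' * p)⁻¹ = w by group] at this
    refine (hfix w hw ?_).symm
    rcases this with e | e
    · left
      rw [mul_inv_eq_iff_eq_mul] at e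
      rw [← e, mul_inv_cancel_right, mul_inv_cancel]
    · right
      rw [show w * z * w⁻¹ * z⁻¹ = w * (z * w⁻¹ * z⁻¹) by
          rw [inv_eq_of_mul_eq_one_right h.zz]; group,
        show z * w⁻¹ * z⁻¹ = (z * w * z⁻¹)⁻¹ by group, e, mul_inv_rev, ← mul_assoc, mul_inv_cancel, one_mul,
        inv_eq_of_mul_eq_one_right hxx]
  rcases hcent with e | e
  · exact h.ne e
  · exact hxz e.symm

end CfsgLargeExtra
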