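/-
Large extraspecial subgroups: consequences of the symmetry lemma.
-/
import Cfsg.Agent.Lib.LargeExtra.Basic
import Cfsg.Agent.Lib.ThreeTrans.Strong
import Cfsg.Prelude.Def_MonsterType

set_option autoImplicit false

namespace CfsgLargeExtra

open Cfsg

variable {G : Type*} [Group G]

theorem mem_cent_singleton {z c : G} : c ∈ Subgroup.centralizer ({z} : Set G) ↔ c * z = z * c :=
  Subgroup.mem_centralizer_singleton_iff

theorem apply_of_odd {α : Type*} [MulAction G α] {a : G} {x : α} {k : ℕ} (hodd : Odd (orderOf a))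
    (h : a ^ (2 ^ k) • x = x) : a • x = x := by
  obtain ⟨n, hn⟩ := exists_pow_eq_self_of_coprime (n := 2 ^ k) (x := a)
    (Nat.Coprime.pow_left k (Nat.coprime_two_left.mpr hodd))
  have : a ^ (2 ^ k) ∈ MulAction.stabilizer G x := h
  have := pow_mem this n
  rw [hn] at this
  exact this

variable [Finite G] {Q : Subgroup G} {z : G}

omit [Finite G] in
theorem ES.conj_z (h : ES Q z) {a q : G} (haz : a * z = z * a) (hq : q ∈ Q) :
    a * (q * z) * a⁻¹ = a * q * a⁻¹ * z ∧ a * q * a⁻¹ ∈ Q := by
  refine ⟨?_, h.nor a haz q hq⟩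
  rw [show a * (q * z) * a⁻¹ = a * q * a⁻¹ * (a * z * a⁻¹) by group, haz, mul_inv_cancel_right]

/-- The centralizer of `z` is a 2-group when `Q` has order eight and a noncentral involution. -/
theorem ES.eq_of_odd (h : ES Q z) (h8 : Nat.card Q ≤ 8) {x : G} (hx : x ∈ Q) (hxx : x * x = 1)
    (hxz : x ≠ z) (hx1 : x ≠ 1) {a : G} (haz : a * z = z * a) (hodd : Odd (orderOf a)) : a = 1 := by
  classical
  obtain ⟨y, hy, hxy⟩ : ∃ y ∈ Q, x * y ≠ y * x := by
    by_contra hall
    push Not at hall
    rcases h.cen x hall with e | e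
    exacts [hx1 e, hxz e]
  -- every element commuting with `x` lies in the four group
  have hfour : ∀ p ∈ Q, p * x = x * p → p = 1 ∨ p = z ∨ p = x ∨ p = z * x := by
    let C : Subgroup G := Q ⊓ Subgroup.centralizer ({x} : Set G)
    let V := fourGroup z x h.zz hxx (h.comm x hx).symm
    have hVC : V ≤ C := by
      rintro v (rfl | rfl | rfl | rfl)
      · exact one_mem _
      · exact ⟨h.mem, mem_cent_singleton.mpr (h.comm x hx).symm⟩
      · exact ⟨hx, mem_cent_singleton.mpr rfl⟩
      · exact mul_mem ⟨h.mem, mem_cent_singleton.mpr (h.comm x hx).symm⟩ ⟨hx, mem_cent_singleton.mpr rfl⟩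
    have hV : 4 ≤ Nat.card V := by
      have hinj : Function.Injective (fun i : Fin 4 => (⟨![1, z, x, z * x] i, by
          fin_cases i
          exacts [Or.inl rfl, Or.inr (Or.inl rfl), Or.inr (Or.inr (Or.inl rfl)), Or.inr (Or.inr (Or.inr rfl))]⟩ : V)) := by
        intro i j hij
        have hij' := congrArg Subtype.val hij
        have e1 : z ≠ z * x := fun e => hx1 (mul_eq_left.mp e.symm)
        have e2 : x ≠ z * x := fun e => h.ne (mul_eq_right.mp e.symm)
        have e3 : (1 : G) ≠ z * x := fun e => hxz (by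
          have := congrArg (fun t => z * t) e
          simpa [← mul_assoc, h.zz] using this.symm)
        fin_cases i <;> fin_cases j <;>
          first
            | rfl
            | exact absurd hij' h.ne.symm
            | exact absurd hij' h.ne
            | exact absurd hij' hx1.symm
            | exact absurd hij' hx1
            | exact absurd hij' hxz.symm
            | exact absurd hij' hxz
            | exact absurd hij' e1
            | exact absurd hij'.symm e1
            | exact absurd hij' e2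
            | exact absurd hij'.symm e2
            | exact absurd hij' e3
            | exact absurd hij'.symm e3
      simpa using Nat.card_le_card_of_injective _ hinj
    have hyC : y ∉ C := fun hc => hxy (mem_cent_singleton.mp hc.2).symm
    have hC : Nat.card C ≤ 4 := by
      have hdvd := Subgroup.card_dvd_of_le (inf_le_left : C ≤ Q)
      rcases hdvd with ⟨m, hm⟩
      rcases m with _ | _ | m
      · rw [mul_zero] at hm; exact absurd hm (Nat.card_pos (α := Q)).ne'
      · have e : C = Q := Subgroup.eq_of_le_of_card_ge (inf_le_left : C ≤ Q) (by rw [hm, zero_add, mul_one])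
        exact absurd (by rw [e]; exact hy) hyC
      · nlinarith [Nat.card_pos (α := C)]
    have heq : V = C := Subgroup.eq_of_le_of_card_ge hVC (hC.trans hV)
    intro p hp hpx
    have : p ∈ V := by rw [heq]; exact ⟨hp, mem_cent_singleton.mpr hpx⟩
    exact this
  have cls : ∀ t ∈ Q, t * t = 1 → t ≠ 1 → t ≠ z → t = x ∨ t = x * z ∨ t * x ≠ x * t := by
    intro t ht _ ht1 htz
    by_cases hc : t * x = x * t
    · rcases hfour t ht hc with e | e | e | e
      · exact absurd e ht1
      · exact absurd e htz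
      · exact Or.inl e
      · exact Or.inr (Or.inl (e.trans (h.comm x hx).symm))
    · exact Or.inr (Or.inr hc)
  -- fixing `x` up to `z` gives fixing
  let c : G →* MulAut G := MulAut.conj
  have hca : ∀ (b t : G), c b t = b * t * b⁻¹ := fun _ _ => rfl
  have hinv : ∀ t ∈ Q, t * t = 1 → a * t * a⁻¹ ∈ Q ∧ a * t * a⁻¹ * (a * t * a⁻¹) = 1 := by
    intro t ht htt
    refine ⟨h.nor a haz t ht, ?_⟩
    rw [show a * t * a⁻¹ * (a * t * a⁻¹) = a * (t * t) * a⁻¹ by group, htt]; group
  have hxfix : a * x * a⁻¹ = x := by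
    -- the fourth power of `a` fixes `x`
    obtain ⟨h1Q, h1i⟩ := hinv x hx hxx
    obtain ⟨h2Q, h2i⟩ := hinv _ h1Q h1i
    have h1ne : a * x * a⁻¹ ≠ 1 := fun e => hx1 (conj_eq_one_iff.mp e)
    have h1nz : a * x * a⁻¹ ≠ z := fun e => hxz (by
      rw [mul_inv_eq_iff_eq_mul, ← haz] at e; exact mul_left_cancel e)
    have h2ne : a * (a * x * a⁻¹) * a⁻¹ ≠ 1 := fun e => h1ne (conj_eq_one_iff.mp e)
    have h2nz : a * (a * x * a⁻¹) * a⁻¹ ≠ z := fun e => h1nz (by
      have e' := mul_inv_eq_iff_eq_mul.mp e
      rw [← haz] at e'; exact mul_left_cancel e')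
    have key2 : a ^ 2 * x * (a ^ 2)⁻¹ = a * (a * x * a⁻¹) * a⁻¹ := by rw [pow_two]; group
    have hsq : a ^ 4 * x * (a ^ 4)⁻¹ = x := by
      have step : a ^ 2 * x * (a ^ 2)⁻¹ = x ∨ a ^ 2 * x * (a ^ 2)⁻¹ = x * z := by
        rcases cls _ h1Q h1i h1ne h1nz with e | e | e
        · left; rw [key2, e, e]
        · left
          rw [key2, e, (h.conj_z haz hx).1, e, mul_assoc, h.zz, mul_one]
        · rcases cls _ h2Q h2i h2ne h2nz with e' | e' | e'
          · left; rw [key2, e']
          · right; rw [key2, e']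
          · -- three noncentral classes cannot occur
            exfalso
            set t := a * x * a⁻¹
            set s := a * t * a⁻¹
            have hts : t * s * x = x * (t * s) := by
              have := (h.toExt.mul_comm_iff (g₁ := ⟨t, h1Q⟩) (g₂ := ⟨s, h2Q⟩) (a := ⟨x, hx⟩)).mpr
                ⟨fun u => absurd (congrArg Subtype.val u) e, fun u => absurd (congrArg Subtype.val u) e'⟩
              exact congrArg Subtype.val this
            rcases hfour _ (mul_mem h1Q h2Q) hts with u | u | u | u
            · have hst : s = t := by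
                have := inv_eq_of_mul_eq_one_right u
                rw [inv_eq_of_mul_eq_one_right h1i] at this
                exact this.symm
              have : t = x := by
                have h' : a * t * a⁻¹ = a * x * a⁻¹ := hst
                simpa using h'
              exact e (by rw [this])
            · have hst : s = t * z := by
                rw [← u, ← mul_assoc, h1i, one_mul]
              have h' : a * t * a⁻¹ = a * (x * z) * a⁻¹ := by rw [(h.conj_z haz hx).1]; exact hst
              have : t = x * z := mul_left_cancel (mul_right_cancel h')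
              exact e (by rw [this, mul_assoc, ← h.comm x hx, ← mul_assoc])
            · have hst : s = t * x := by
                rw [← u, ← mul_assoc, h1i, one_mul]
              rw [hst] at h2i
              refine e ?_
              have := inv_eq_of_mul_eq_one_right h2i
              rw [mul_inv_rev, inv_eq_of_mul_eq_one_right hxx, inv_eq_of_mul_eq_one_right h1i] at this
              exact this.symm
            · have hst : s = t * (z * x) := by
                rw [← u, ← mul_assoc, h1i, one_mul]
              rw [hst] at h2i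
              refine e ?_
              have hzt : t * z = z * t := h.comm t h1Q
              have hh : t * x * (t * x) = 1 := by
                calc t * x * (t * x) = z * z * (t * x * (t * x)) := by rw [h.zz, one_mul]
                  _ = t * (z * x) * (t * (z * x)) := by
                    rw [show t * (z * x) = z * (t * x) by rw [← mul_assoc, hzt, mul_assoc]]
                    have hc : z * (t * x) = t * x * z := (h.comm _ (mul_mem h1Q hx)).symm
                    rw [show z * (t * x) * (z * (t * x)) = z * ((t * x * z) * (t * x)) by group, ← hc]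
                    group
                  _ = 1 := h2i
              have := inv_eq_of_mul_eq_one_right hh
              rw [mul_inv_rev, inv_eq_of_mul_eq_one_right hxx, inv_eq_of_mul_eq_one_right h1i] at this
              exact this.symm
      rcases step with e | e
      · rw [show a ^ 4 * x * (a ^ 4)⁻¹ = a ^ 2 * (a ^ 2 * x * (a ^ 2)⁻¹) * (a ^ 2)⁻¹ by group, e, e]
      · have haz2 : a ^ 2 * z = z * a ^ 2 := ((show Commute a z from haz).pow_left 2).eq
        rw [show a ^ 4 * x * (a ^ 4)⁻¹ = a ^ 2 * (a ^ 2 * x * (a ^ 2)⁻¹) * (a ^ 2)⁻¹ by group, e,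
          (h.conj_z haz2 hx).1, e, mul_assoc, h.zz, mul_one]
    have := apply_of_odd (G := ConjAct G) (α := G) (a := ConjAct.toConjAct a) (x := x) (k := 2)
      (by rwa [MulEquiv.orderOf_eq]) (by rw [← map_pow, ConjAct.toConjAct_smul]; exact hsq)
    rwa [ConjAct.toConjAct_smul] at this
  -- hence `a` centralizes `Q`
  have hall : ∀ q ∈ Q, a * q = q * a := by
    intro q hq
    refine (mul_inv_eq_iff_eq_mul.mp ?_)
    by_cases hqx : q * x = x * q
    · rcases hfour q hq hqx with e | e | e | e <;> rw [e]
      · group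
      · rw [haz, mul_inv_cancel_right]
      · exact hxfix
      · rw [show a * (z * x) * a⁻¹ = a * z * a⁻¹ * (a * x * a⁻¹) by group, haz, mul_inv_cancel_right, hxfix]
    · -- `a q a⁻¹` is in the coset of `q` by the four group
      have hq' : a * q * a⁻¹ ∈ Q := h.nor a haz q hq
      have hnc : ¬ (a * q * a⁻¹ * x = x * (a * q * a⁻¹)) := fun e => hqx (by
        have h' : a * (q * x) * a⁻¹ = a * (x * q) * a⁻¹ := by
          calc a * (q * x) * a⁻¹ = a * q * a⁻¹ * (a * x * a⁻¹) := by group
            _ = a * x * a⁻¹ * (a * q * a⁻¹) := by rw [hxfix]; exact e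
            _ = a * (x * q) * a⁻¹ := by group
        exact mul_left_cancel (mul_right_cancel h'))
      have hcom : (q⁻¹ * (a * q * a⁻¹)) * x = x * (q⁻¹ * (a * q * a⁻¹)) := by
        have := (h.toExt.mul_comm_iff (g₁ := ⟨q⁻¹, inv_mem hq⟩) (g₂ := ⟨_, hq'⟩) (a := ⟨x, hx⟩)).mpr
          ⟨fun u => absurd (congrArg Subtype.val u) (fun u' => hqx (by
            have := congrArg (fun y => q * y * q) u'
            simpa [mul_assoc] using this.symm)), fun u => absurd (congrArg Subtype.val u) hnc⟩
        exact congrArg Subtype.val this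
      have hmem := hfour _ (mul_mem (inv_mem hq) hq') hcom
      have hfixw : ∀ w : G, (w = 1 ∨ w = z ∨ w = x ∨ w = z * x) → a * w * a⁻¹ = w ∧ w * w = 1 := by
        rintro w (rfl | rfl | rfl | rfl)
        · exact ⟨by group, one_mul 1⟩
        · exact ⟨by rw [haz, mul_inv_cancel_right], h.zz⟩
        · exact ⟨hxfix, hxx⟩
        · refine ⟨by rw [show a * (z * x) * a⁻¹ = a * z * a⁻¹ * (a * x * a⁻¹) by group, haz, mul_inv_cancel_right, hxfix], ?_⟩
          rw [show z * x * (z * x) = z * (x * z) * x by group, h.comm x hx, ← mul_assoc, h.zz, one_mul, hxx]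
      set w := q⁻¹ * (a * q * a⁻¹) with hw
      obtain ⟨hwf, hww⟩ := hfixw w hmem
      have e1 : a * q * a⁻¹ = q * w := by rw [hw, mul_inv_cancel_left]
      have hsq : a ^ 2 * q * (a ^ 2)⁻¹ = q := by
        rw [pow_two, show a * a * q * (a * a)⁻¹ = a * (a * q * a⁻¹) * a⁻¹ by group, e1,
          show a * (q * w) * a⁻¹ = a * q * a⁻¹ * (a * w * a⁻¹) by group, e1, hwf, mul_assoc, hww, mul_one]
      have := apply_of_odd (G := ConjAct G) (α := G) (a := ConjAct.toConjAct a) (x := q) (k := 1)
        (by rwa [MulEquiv.orderOf_eq]) (by rw [← map_pow, ConjAct.toConjAct_smul]; simpa using hsq)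
      rwa [ConjAct.toConjAct_smul] at this
  rcases h.cen a hall with e | e
  · exact e
  · exfalso
    rw [e, orderOf_eq_prime (p := 2) (by rw [pow_two, h.zz]) h.ne] at hodd
    exact absurd hodd (by decide)

/-- A large enough `Q` has noncommuting elements centralizing a noncentral involution. -/
theorem ES.exists_pair (h : ES Q z) (h8 : 8 < Nat.card Q) {x : G} (hx : x ∈ Q) (hxx : x * x = 1) :
    ∃ p ∈ Q, ∃ p' ∈ Q, p * x = x * p ∧ p' * x = x * p' ∧ p * p' ≠ p' * p := by
  classical
  by_contra hall
  push Not at hall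
  let V : Subgroup G := fourGroup z x h.zz hxx (h.comm x hx).symm
  have hVQ : V ≤ Q := by
    rintro y (rfl | rfl | rfl | rfl)
    exacts [one_mem _, h.mem, hx, mul_mem h.mem hx]
  have hz' : (⟨z, h.mem⟩ : Q) ∈ V.subgroupOf Q := Or.inr (Or.inl rfl)
  have h1 := h.toExt.card_mul_card_centralizer (A := V.subgroupOf Q) hz'
  have hV4 : Nat.card V ≤ 4 := by
    have hs : Function.Surjective (fun i : Fin 4 => (⟨![1, z, x, z * x] i, by
        fin_cases i
        exacts [Or.inl rfl, Or.inr (Or.inl rfl), Or.inr (Or.inr (Or.inl rfl)), Or.inr (Or.inr (Or.inr rfl))]⟩ : V)) := by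
      rintro ⟨y, hy⟩
      rcases hy with rfl | rfl | rfl | rfl
      exacts [⟨0, rfl⟩, ⟨1, rfl⟩, ⟨2, rfl⟩, ⟨3, rfl⟩]
    simpa using Nat.card_le_card_of_surjective _ hs
  have hle : Subgroup.centralizer ((V.subgroupOf Q : Subgroup Q) : Set Q) ≤ V.subgroupOf Q := by
    intro p hp
    have hpx : (p : G) * x = x * p :=
      (congrArg Subtype.val (Subgroup.mem_centralizer_iff.mp hp ⟨x, hx⟩ (Or.inr (Or.inr (Or.inl rfl))))).symm
    exact h.mem_four hx hxx p.2 fun q hq hqx => hall p p.2 q hq hpx hqx
  have h2 := Subgroup.card_le_of_le hle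
  have h3 : Nat.card (V.subgroupOf Q) ≤ 4 := by
    rw [Nat.card_congr (Subgroup.subgroupOfEquivOfLe hVQ).toEquiv]; exact hV4
  nlinarith

/-- No nontrivial odd subgroup is normalised by `Q`, given an involution with `z` in the core of its centralizer. -/
theorem ES.no_odd (h : ES Q z) {b : G} (hbQ : b ∈ Q) (hb : b * b = 1) (hb1 : b ≠ 1) (hbz : b ≠ z)
    {N : Subgroup G} (hN2 : IsPGroup 2 N) (hzN : z ∈ N) (hNn : ∀ c : G, c * b = b * c → ∀ n ∈ N, c * n * c⁻¹ ∈ N)
    (K : Subgroup G) (hK : Odd (Nat.card K)) (hQK : Q ≤ Subgroup.normalizer (K : Set G)) : K = ⊥ := by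
  have hcop : ∀ (A : Subgroup G), IsPGroup 2 A → ∀ y, y ∈ K → y ∈ A → y = 1 := by
    intro A hA y hyK hyA
    obtain ⟨k, hk⟩ := IsPGroup.iff_orderOf.mp hA ⟨y, hyA⟩
    rw [Subgroup.orderOf_mk] at hk
    have h1 := orderOf_dvd_natCard (⟨y, hyK⟩ : K)
    rw [Subgroup.orderOf_mk, hk] at h1
    have hk0 : k = 0 := by
      by_contra h
      exact Nat.not_even_iff_odd.mpr hK (even_iff_two_dvd.mpr ((dvd_pow_self 2 h).trans h1))
    rw [hk0, pow_zero, orderOf_eq_one_iff] at hk
    exact hk
  have hconj : ∀ q ∈ Q, ∀ y ∈ K, q * y * q⁻¹ ∈ K := fun q hq y hy =>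
    (Subgroup.mem_normalizer_iff.mp (hQK hq) y).mp hy
  have hQ2 : IsPGroup 2 Q := h.toExt.isPGroup
  have hfixz : ∀ y ∈ K, z * y * z⁻¹ = y → y = 1 := by
    intro y hy he
    have hyz : y * z = z * y := (mul_inv_eq_iff_eq_mul.mp he).symm
    have hcen : ∀ q ∈ Q, y * q = q * y := by
      intro q hq
      have h1 : q * y⁻¹ * q⁻¹ * y ∈ K := mul_mem (hconj q hq _ (inv_mem hy)) hy
      have h2 : q * y⁻¹ * q⁻¹ * y ∈ Q := by
        have hy' : y⁻¹ * z = z * y⁻¹ := ((show Commute y z from hyz).inv_left).eq
        have := h.nor _ hy' q⁻¹ (inv_mem hq)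
        rw [inv_inv] at this
        rw [show q * y⁻¹ * q⁻¹ * y = q * (y⁻¹ * q⁻¹ * y) by group]
        exact mul_mem hq this
      have := hcop Q hQ2 _ h1 h2
      rw [mul_eq_one_iff_eq_inv, mul_inv_eq_iff_eq_mul] at this
      calc y * q = y * (q * y⁻¹) * y := by group
        _ = y * (y⁻¹ * q) * y := by rw [this]
        _ = q * y := by group
    rcases h.cen y hcen with e | e
    · exact e
    · exact hcop Q hQ2 y hy (e ▸ h.mem)
  have hfix : ∀ {b' : G} {N' : Subgroup G}, IsPGroup 2 N' → z ∈ N' →
      (∀ c : G, c * b' = b' * c → ∀ n ∈ N', c * n * c⁻¹ ∈ N') → ∀ y ∈ K, b' * y * b'⁻¹ = y → y = 1 := by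
    intro b' N' hN' hz' hn' y hy he
    have hyb : y * b' = b' * y := (mul_inv_eq_iff_eq_mul.mp he).symm
    refine hfixz y hy ?_
    have h1 : z * y * z⁻¹ * y⁻¹ ∈ K := mul_mem (hconj z h.mem y hy) (inv_mem hy)
    have h2 : z * y * z⁻¹ * y⁻¹ ∈ N' := by
      rw [show z * y * z⁻¹ * y⁻¹ = z * (y * z⁻¹ * y⁻¹) by group]
      exact mul_mem hz' (hn' y hyb _ (inv_mem hz'))
    exact mul_inv_eq_one.mp (hcop N' hN' _ h1 h2)
  obtain ⟨q, hq, hqb⟩ : ∃ q ∈ Q, q * b * q⁻¹ = b * z := by
    by_contra hall
    push Not at hall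
    rcases h.cen b fun q hq => by
        rcases h.conj_cases hq hbQ with e | e
        · exact (mul_inv_eq_iff_eq_mul.mp e).symm
        · exact absurd e (hall q hq) with e | e
    exacts [hb1 e, hbz e]
  have hfix2 : ∀ y ∈ K, (b * z) * y * (b * z)⁻¹ = y → y = 1 := by
    refine hfix (b' := b * z) (N' := CfsgLargeExtra.cj q N) (hN2.map _) ?_ ?_
    · rw [mem_cj, show q⁻¹ * z * q = q⁻¹ * (z * q) by group, ← h.comm q hq, inv_mul_cancel_left]; exact hzN
    · intro c hc n hn
      rw [mem_cj] at hn ⊢
      have hc' : q⁻¹ * c * q * b = b * (q⁻¹ * c * q) := by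
        have := congrArg (fun y => q⁻¹ * y * q) hc
        rw [← hqb] at this
        simpa [mul_assoc] using this
      have := hNn _ hc' _ hn
      simpa [mul_assoc] using this
  -- both `z` and `b` invert `K`
  have inv_all : ∀ t ∈ Q, t * t = 1 → (∀ y ∈ K, t * y * t⁻¹ = y → y = 1) → ∀ y ∈ K, t * y * t⁻¹ = y⁻¹ := by
    intro t ht htt hff y hy
    let φ : K →* K :=
      { toFun := fun k => ⟨t * k * t⁻¹, hconj t ht k k.2⟩
        map_one' := Subtype.ext (by simp)
        map_mul' := fun a b => Subtype.ext (by simp [mul_assoc]) }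
    have hφ : MonoidHom.FixedPointFree φ := fun k hk => Subtype.ext (hff k k.2 (congrArg Subtype.val hk))
    have h2 := hφ.coe_eq_inv_of_involutive (fun k => Subtype.ext (by
      show t * (t * k * t⁻¹) * t⁻¹ = k
      rw [inv_eq_of_mul_eq_one_right htt, show t * (t * (k : G) * t) * t = (t * t) * k * (t * t) by group, htt, one_mul, mul_one]))
    exact congrArg Subtype.val (congrFun h2 ⟨y, hy⟩)
  have hzi := inv_all z h.mem h.zz hfixz
  have hbi := inv_all b hbQ hb (hfix hN2 hzN hNn)
  rw [Subgroup.eq_bot_iff_forall]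
  intro y hy
  refine hfix2 y hy ?_
  rw [show b * z * y * (b * z)⁻¹ = b * (z * y * z⁻¹) * b⁻¹ by group, hzi y hy, hbi _ (inv_mem hy), inv_inv]

end CfsgLargeExtra
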