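/-
The statements about cores of centralizers of conjugates of `z`, and criteria for largeness.
-/
import Cfsg.Agent.Lib.LargeExtra.Apps

set_option autoImplicit false

namespace CfsgLargeExtra

open Cfsg

variable {G : Type*} [Group G] [Finite G] {Q : Subgroup G} {z : G}

theorem ES.of_extraspecial (hE : IsExtraspecial 2 Q) (hz : ∀ y, y ∈ (Subgroup.center Q).map Q.subtype ↔ y = 1 ∨ y = z)
    (hzne : z ≠ 1) (hC : Subgroup.centralizer (Q : Set G) ≤ Q)
    (hN : ∀ c : G, c * z = z * c → ∀ q ∈ Q, c * q * c⁻¹ ∈ Q) : ES Q z := by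
  obtain ⟨z₀, hz₀⟩ := CfsgLib.ExtraTwo.ofExtraspecial hE
  have hz0 : ((z₀ : Q) : G) = z := by
    rcases (hz _).mp ⟨z₀, (hz₀.center_iff _).mpr (Or.inr rfl), rfl⟩ with e | e
    · exact absurd (Subtype.ext e) hz₀.ne
    · exact e
  subst hz0
  refine ⟨z₀.2, hzne, fun q hq => congrArg Subtype.val (hz₀.z_comm ⟨q, hq⟩).eq, fun q hq => ?_, fun c hc => ?_, hN⟩
  · rcases hz₀.sq ⟨q, hq⟩ with e | e
    · exact Or.inl (congrArg Subtype.val e)
    · exact Or.inr (congrArg Subtype.val e)
  · have hcQ : c ∈ Q := hC (Subgroup.mem_centralizer_iff.mpr fun q hq => (hc q hq).symm)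
    rcases (hz₀.center_iff ⟨c, hcQ⟩).mp (Subgroup.mem_center_iff.mpr fun q => Subtype.ext (hc q q.2).symm) with e | e
    · exact Or.inl (congrArg Subtype.val e)
    · exact Or.inr (congrArg Subtype.val e)

/-- The central involution of an extraspecial subgroup with the hypotheses used for largeness. -/
theorem ES.of_large (hE : IsExtraspecial 2 Q)
    (hL2 : Subgroup.centralizer (Q : Set G) = (Subgroup.center Q).map Q.subtype)
    (hL3 : Subgroup.centralizer (((Subgroup.center Q).map Q.subtype) : Set G) ≤ Subgroup.normalizer (Q : Set G)) :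
    ∃ z : G, ES Q z ∧ ∀ y, y ∈ (Subgroup.center Q).map Q.subtype ↔ y = 1 ∨ y = z := by
  obtain ⟨z, hz1, hzQ, hzmem⟩ := CfsgThreeTrans.center_map_eq Q hE.2
  refine ⟨z, ES.of_extraspecial hE hzmem hz1 (hL2.le.trans (Subgroup.map_subtype_le _)) ?_, hzmem⟩
  intro c hc q hq
  refine (Subgroup.mem_normalizer_iff.mp (hL3 ?_) q).mp hq
  refine Subgroup.mem_centralizer_iff.mpr fun y hy => ?_
  rcases (hzmem y).mp hy with rfl | rfl
  · simp
  · exact hc.symm

/-- The core of the centralizer of an element. -/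
def coreCent (x : G) : Subgroup G :=
  (pCore 2 ↥(Subgroup.centralizer ({x} : Set G))).map (Subgroup.centralizer ({x} : Set G)).subtype

omit [Finite G] in
theorem coreCent_normal {x c : G} (hc : c * x = x * c) {q : G} (hq : q ∈ coreCent x) : c * q * c⁻¹ ∈ coreCent x := by
  obtain ⟨q, hq, rfl⟩ := hq
  exact ⟨⟨c, mem_cent_singleton.mpr hc⟩ * q * ⟨c, mem_cent_singleton.mpr hc⟩⁻¹,
    (inferInstance : (pCore 2 ↥(Subgroup.centralizer ({x} : Set G))).Normal).conj_mem q hq _, rfl⟩

theorem isPGroup_coreCent (x : G) : IsPGroup 2 (coreCent x) := (CfsgLib.isPGroup_pCore 2).map _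

omit [Finite G] in
theorem le_coreCent {x : G} {N : Subgroup G} (hN : IsPGroup 2 N) (hle : ∀ n ∈ N, n * x = x * n)
    (hn : ∀ c : G, c * x = x * c → ∀ n ∈ N, c * n * c⁻¹ ∈ N) : N ≤ coreCent x := by
  have hle' : N ≤ Subgroup.centralizer ({x} : Set G) := fun n hn' => mem_cent_singleton.mpr (hle n hn')
  haveI : (N.subgroupOf (Subgroup.centralizer ({x} : Set G))).Normal :=
    ⟨fun n hn' c => hn c (mem_cent_singleton.mp c.2) n hn'⟩
  intro n hn'
  exact ⟨⟨n, hle' hn'⟩, CfsgLib.le_pCore (p := 2)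
    (hN.of_equiv (Subgroup.subgroupOfEquivOfLe hle').symm) (show (⟨n, hle' hn'⟩ : ↥(Subgroup.centralizer ({x} : Set G))) ∈ N.subgroupOf _ from hn'), rfl⟩

omit [Finite G] in
theorem coreCent_conj (g x : G) : coreCent (g * x * g⁻¹) = cj g (coreCent x) := by
  let C := Subgroup.centralizer ({x} : Set G)
  let C' := Subgroup.centralizer ({g * x * g⁻¹} : Set G)
  have hmem : ∀ c, c ∈ C ↔ g * c * g⁻¹ ∈ C' := by
    intro c
    rw [mem_cent_singleton, mem_cent_singleton]
    constructor
    · intro h; rw [show g * c * g⁻¹ * (g * x * g⁻¹) = g * (c * x) * g⁻¹ by group, h]; group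
    · intro h
      have := congrArg (fun y => g⁻¹ * y * g) h
      simpa [mul_assoc] using this
  let e : ↥C ≃* ↥C' :=
    { toFun := fun c => ⟨g * c * g⁻¹, (hmem c).mp c.2⟩
      invFun := fun c => ⟨g⁻¹ * c * g, (hmem _).mpr (by simpa [mul_assoc] using c.2)⟩
      left_inv := fun c => Subtype.ext (by simp [mul_assoc])
      right_inv := fun c => Subtype.ext (by simp [mul_assoc])
      map_mul' := fun a b => Subtype.ext (by simp [mul_assoc]) }
  rw [coreCent, coreCent, ← CfsgLib.pCore_map_equiv 2 e, cj, Subgroup.map_map, Subgroup.map_map]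
  rfl

/-- The hypotheses on `Q z` of the setting of cores. -/
theorem ES.of_setting (Q : G → Subgroup G) (hQ : ∀ x, Q x = coreCent x) (hz : orderOf z = 2)
    (hE : IsExtraspecial 2 (Q z)) (hC : Subgroup.centralizer ((Q z : Subgroup G) : Set G) ≤ Q z) : ES (Q z) z := by
  have hz1 : z ≠ 1 := fun e => by rw [e, orderOf_one] at hz; omega
  obtain ⟨w, hw1, hwQ, hwmem⟩ := CfsgThreeTrans.center_map_eq (Q z) hE.2
  have hcomm : ∀ q ∈ Q z, q * z = z * q := by
    intro q hq
    rw [hQ] at hq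
    obtain ⟨q, -, rfl⟩ := hq
    exact mem_cent_singleton.mp q.2
  have hzc : z ∈ Subgroup.centralizer ((Q z : Subgroup G) : Set G) := Subgroup.mem_centralizer_iff.mpr hcomm
  have hzw : z = w := by
    rcases (hwmem z).mp ⟨⟨z, hC hzc⟩, Subgroup.mem_center_iff.mpr fun q => Subtype.ext (hcomm q q.2), rfl⟩ with e | e
    · exact absurd e hz1
    · exact e
  subst hzw
  refine ES.of_extraspecial hE hwmem hz1 hC fun c hc q hq => ?_
  rw [hQ] at hq ⊢
  exact coreCent_normal hc hq

theorem core_symm (Q : G → Subgroup G) (hQ : ∀ x, Q x = coreCent x) (hz : orderOf z = 2)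
    (hE : IsExtraspecial 2 (Q z)) (hC : Subgroup.centralizer ((Q z : Subgroup G) : Set G) ≤ Q z)
    (g : G) (hx : g * z * g⁻¹ ∈ Q z) : z ∈ Q (g * z * g⁻¹) := by
  have h := ES.of_setting Q hQ hz hE hC
  set x := g * z * g⁻¹ with hxdef
  have hxx : x * x = 1 := (h.cj g).zz
  by_cases hxz : x = z
  · rw [hxz]; exact h.mem
  rw [hQ, hxdef, coreCent_conj, ← hQ]
  rcases le_or_gt (Nat.card (Q z)) 8 with h8 | h8
  · -- the centralizer of `z` is a 2-group, hence equal to `Q z`
    have hC2 : IsPGroup 2 (Subgroup.centralizer ({z} : Set G)) := by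
      rw [IsPGroup.iff_orderOf]
      intro c
      obtain ⟨k, m, hm, hcm⟩ := Nat.exists_eq_two_pow_mul_odd (orderOf_pos c).ne'
      refine ⟨k, ?_⟩
      have hcz : ((c : G) ^ (2 ^ k)) * z = z * (c : G) ^ (2 ^ k) :=
        ((show Commute (c : G) z from mem_cent_singleton.mp c.2).pow_left _).eq
      have hod : orderOf ((c : G) ^ (2 ^ k)) = m := by
        rw [orderOf_pow_of_dvd (x := (c : G)) (by positivity) (by rw [Subgroup.orderOf_coe, hcm]; exact dvd_mul_right _ _),
          Subgroup.orderOf_coe, hcm, Nat.mul_div_cancel_left _ (by positivity)]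
      have := h.eq_of_odd h8 hx hxx hxz (h.cj g).ne hcz (by rw [hod]; exact hm)
      rw [this, orderOf_one] at hod
      rw [hcm, ← hod, mul_one]
    have hall : ∀ c : G, c * z = z * c → c ∈ Q z := by
      intro c hc
      rw [hQ]
      exact le_coreCent (x := z) hC2 (fun n hn => mem_cent_singleton.mp hn)
        (fun a ha n hn => mul_mem (mul_mem (mem_cent_singleton.mpr ha) hn) (inv_mem (mem_cent_singleton.mpr ha)))
        (mem_cent_singleton.mpr hc)
    rw [mem_cj]
    refine hall _ ?_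
    have hxz' : z * x = x * z := (h.comm x hx).symm
    rw [show g⁻¹ * z * g * z = g⁻¹ * (z * x) * g by rw [hxdef]; group, hxz', hxdef]
    group
  · exact h.symm_mem hx fun _ => h.exists_pair h8 hx hxx

/-- The joint core is closed under products of orthogonal conjugates. -/
theorem core_mul (Q : G → Subgroup G) (hQ : ∀ x, Q x = coreCent x) (hz : orderOf z = 2)
    (hE : IsExtraspecial 2 (Q z)) (hC : Subgroup.centralizer ((Q z : Subgroup G) : Set G) ≤ Q z)
    {s t : G} (hs : ∃ g, g * z * g⁻¹ = s) (ht : ∃ g, g * z * g⁻¹ = t) (hts : t ∈ Q s) (hst : s ∈ Q t)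
    (hne : s ≠ t) {y : G} (hys : y ∈ Q s) (hyt : y ∈ Q t) : y ∈ Q (s * t) := by
  obtain ⟨g, rfl⟩ := hs
  obtain ⟨k, rfl⟩ := ht
  have h := (ES.of_setting Q hQ hz hE hC).cj g
  rw [show cj g (Q z) = Q (g * z * g⁻¹) by rw [hQ, hQ, coreCent_conj]] at h
  set s := g * z * g⁻¹
  set t := k * z * k⁻¹
  obtain ⟨q, hq, hqt⟩ : ∃ q ∈ Q s, q * t * q⁻¹ = t * s := by
    by_contra hall
    push Not at hall
    rcases h.cen t fun q hq => by
        rcases h.conj_cases hq hts with e | e
        · exact (mul_inv_eq_iff_eq_mul.mp e).symm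
        · exact absurd e (hall q hq) with e | e
    · exact ((ES.of_setting Q hQ hz hE hC).cj k).ne e
    · exact hne e.symm
  rw [← h.comm t hts] at *
  rw [← hqt, hQ, coreCent_conj, ← hQ, mem_cj]
  rcases h.conj_cases (inv_mem hq) hys with e | e <;> rw [inv_inv] at e <;> rw [e]
  · exact hyt
  · exact mul_mem hyt hst

/-- The criterion for largeness through an involution of `Q`. -/
theorem large_of_involution (hL1 : IsExtraspecial 2 Q)
    (hL2 : Subgroup.centralizer (Q : Set G) = (Subgroup.center Q).map Q.subtype)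
    (hL3 : Subgroup.centralizer (((Subgroup.center Q).map Q.subtype) : Set G) ≤ Subgroup.normalizer (Q : Set G))
    (b : G) (hbQ : b ∈ Q) (hbZ : b ∉ (Subgroup.center Q).map Q.subtype) (hb : orderOf b = 2)
    (hZ : (Subgroup.center Q).map Q.subtype ≤ coreCent b) : IsLargeExtraspecial Q := by
  refine ⟨hL1, hL2, hL3, fun K hK hQK => ?_⟩
  obtain ⟨z, h, hzmem⟩ := ES.of_large hL1 hL2 hL3
  have hbb : b * b = 1 := by rw [← pow_two, ← hb]; exact pow_orderOf_eq_one b
  exact h.no_odd hbQ hbb (fun e => hbZ (e ▸ one_mem _)) (fun e => hbZ (e ▸ (hzmem z).mpr (Or.inr rfl)))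
    (isPGroup_coreCent b) (hZ ((hzmem z).mpr (Or.inr rfl))) (fun c hc n hn => coreCent_normal hc hn) K hK hQK

end CfsgLargeExtra
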