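/-
A conjugate of the centre inside an extraspecial subgroup: the four group and largeness.
-/
import Cfsg.Agent.Lib.LargeExtra.Cores

set_option autoImplicit false

namespace CfsgLargeExtra

open Cfsg

variable {G : Type*} [Group G] [Finite G] {Q : Subgroup G} {z : G}

theorem ES.swap (h : ES Q z) {t : G} (ht : t ∈ Q) (htz : t ≠ z) (ht1 : t ≠ 1) :
    ∃ q ∈ Q, q * z * q⁻¹ = z ∧ q * t * q⁻¹ = t * z := by
  by_contra hall
  push Not at hall
  rcases h.cen t fun q hq => by
      rcases h.conj_cases hq ht with e | e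
      · exact (mul_inv_eq_iff_eq_mul.mp e).symm
      · exact absurd e (hall q hq (by rw [h.comm q hq, mul_inv_cancel_right])) with e | e
  exacts [ht1 e, htz e]

theorem four_index {x : G} (hzz : z * z = 1) (hxx : x * x = 1) (hzx : z * x = x * z) (hz1 : z ≠ 1) (hx1 : x ≠ 1)
    (hxz : x ≠ z) {q r : G} (hq1 : q * z * q⁻¹ = z) (hq2 : q * x * q⁻¹ = x * z) (hr1 : r * x * r⁻¹ = x)
    (hr2 : r * z * r⁻¹ = z * x) :
    (Subgroup.centralizer ((fourGroup z x hzz hxx hzx : Subgroup G) : Set G)).relIndex
      (Subgroup.normalizer ((fourGroup z x hzz hxx hzx : Subgroup G) : Set G)) = 6 := by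
  classical
  set V := fourGroup z x hzz hxx hzx with hV
  set N := Subgroup.normalizer (V : Set G)
  have hzV : z ∈ V := Or.inr (Or.inl rfl)
  have hxV : x ∈ V := Or.inr (Or.inr (Or.inl rfl))
  have hxzV : x * z ∈ V := mul_mem hxV hzV
  let Ω := {v : G // v ∈ V ∧ v ≠ 1}
  have hxz1 : x * z ≠ 1 := fun e => hxz (by
    have := inv_eq_of_mul_eq_one_right e
    rw [inv_eq_of_mul_eq_one_right hxx] at this
    exact this)
  let e0 : Fin 3 → Ω := ![⟨z, hzV, hz1⟩, ⟨x, hxV, hx1⟩, ⟨x * z, hxzV, hxz1⟩]
  have he0 : Function.Bijective e0 := by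
    refine ⟨fun i j hij => ?_, fun v => ?_⟩
    · have h1 : z ≠ x * z := fun e => hx1 (mul_eq_right.mp e.symm)
      have h2 : x ≠ x * z := fun e => hz1 (mul_eq_left.mp e.symm)
      have := congrArg Subtype.val hij
      fin_cases i <;> fin_cases j <;>
        first
          | rfl
          | exact absurd this hxz
          | exact absurd this.symm hxz
          | exact absurd this h1
          | exact absurd this.symm h1
          | exact absurd this h2
          | exact absurd this.symm h2
    · obtain ⟨v, hv, hv1⟩ := v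
      rcases hv with rfl | rfl | rfl | rfl
      · exact absurd rfl hv1
      · exact ⟨0, rfl⟩
      · exact ⟨1, rfl⟩
      · exact ⟨2, Subtype.ext hzx.symm⟩
  have hΩ : Nat.card Ω = 3 := by rw [← Nat.card_eq_of_bijective e0 he0, Nat.card_fin]
  letI : MulAction N Ω :=
    { smul := fun n v => ⟨n * v * (n : G)⁻¹, (Subgroup.mem_normalizer_iff.mp n.2 _).mp v.2.1,
        fun e => v.2.2 (conj_eq_one_iff.mp e)⟩
      one_smul := fun v => Subtype.ext (show ((1 : N) : G) * v * ((1 : N) : G)⁻¹ = v by simp)
      mul_smul := fun a b v => Subtype.ext (show ((a * b : N) : G) * v * ((a * b : N) : G)⁻¹ =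
        (a : G) * ((b : G) * v * (b : G)⁻¹) * (a : G)⁻¹ by simp [mul_assoc]) }
  let f : N →* Equiv.Perm Ω := MulAction.toPermHom N Ω
  have hker : f.ker = (Subgroup.centralizer (V : Set G)).subgroupOf N := by
    ext n
    rw [Subgroup.mem_subgroupOf, Subgroup.mem_centralizer_iff, MonoidHom.mem_ker]
    constructor
    · intro h v hv
      by_cases hv1 : v = 1
      · simp [hv1]
      · have := congrArg Subtype.val (Equiv.Perm.ext_iff.mp h ⟨v, hv, hv1⟩)
        exact (mul_inv_eq_iff_eq_mul.mp (show (n : G) * v * (n : G)⁻¹ = v from this)).symm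
    · intro h
      refine Equiv.Perm.ext fun v => Subtype.ext ?_
      show (n : G) * v * (n : G)⁻¹ = v
      rw [← h v v.2.1, mul_inv_cancel_right]
  have hnorm : ∀ c : G, (∀ v ∈ V, c * v * c⁻¹ ∈ V) → c ∈ N := fun c hc => by
    let φ : ↥V → ↥V := fun v => ⟨c * v * c⁻¹, hc v v.2⟩
    have hs := Finite.surjective_of_injective (f := φ) fun a b hab => Subtype.ext (by simpa [φ] using congrArg Subtype.val hab)
    rw [Subgroup.mem_normalizer_iff]
    refine fun v => ⟨hc v, fun hv => ?_⟩
    obtain ⟨w, hw⟩ := hs ⟨_, hv⟩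
    have : (w : G) = v := by simpa [φ] using congrArg Subtype.val hw
    exact this ▸ w.2
  have hqN : q ∈ N := hnorm q fun v hv => by
    rcases hv with rfl | rfl | rfl | rfl
    · simp
    · rw [hq1]; exact hzV
    · rw [hq2]; exact hxzV
    · rw [show q * (z * x) * q⁻¹ = q * z * q⁻¹ * (q * x * q⁻¹) by group, hq1, hq2]; exact mul_mem hzV hxzV
  have hrN : r ∈ N := hnorm r fun v hv => by
    rcases hv with rfl | rfl | rfl | rfl
    · simp
    · rw [hr2]; exact mul_mem hzV hxV
    · rw [hr1]; exact hxV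
    · rw [show r * (z * x) * r⁻¹ = r * z * r⁻¹ * (r * x * r⁻¹) by group, hr1, hr2]; exact mul_mem (mul_mem hzV hxV) hxV
  let A := f ⟨q, hqN⟩
  let B := f ⟨r, hrN⟩
  have hA0 : A (e0 0) = e0 0 := Subtype.ext hq1
  have hA1 : A (e0 1) = e0 2 := Subtype.ext hq2
  have hB1 : B (e0 1) = e0 1 := Subtype.ext hr1
  have hB0 : B (e0 0) = e0 2 := Subtype.ext (hr2.trans hzx)
  have hne : ∀ i j : Fin 3, i ≠ j → e0 i ≠ e0 j := fun i j hij e => hij (he0.1 e)
  have hinj : Function.Injective (![⟨1, one_mem _⟩, ⟨A, _, rfl⟩, ⟨B, _, rfl⟩, ⟨A * B, _, map_mul f _ _⟩] : Fin 4 → f.range) := by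
    intro i j hij
    have hA : A ≠ 1 := fun e => hne 1 2 (by decide) (by rw [← hA1, e]; rfl)
    have hB : B ≠ 1 := fun e => hne 0 2 (by decide) (by rw [← hB0, e]; rfl)
    have hAB : A ≠ B := fun e => hne 0 2 (by decide) (by rw [← hB0, ← e, hA0])
    have hA_AB : A ≠ A * B := fun e => hB (mul_eq_left.mp e.symm)
    have hB_AB : B ≠ A * B := fun e => hA (mul_eq_right.mp e.symm)
    have h1_AB : (1 : Equiv.Perm Ω) ≠ A * B := fun e => hne 1 2 (by decide) (by
      have := congrArg (fun p : Equiv.Perm Ω => p (e0 1)) e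
      simpa [hB1, hA1] using this)
    have := congrArg Subtype.val hij
    fin_cases i <;> fin_cases j <;>
      first
        | rfl
        | exact absurd this hA
        | exact absurd this.symm hA
        | exact absurd this hB
        | exact absurd this.symm hB
        | exact absurd this hAB
        | exact absurd this.symm hAB
        | exact absurd this hA_AB
        | exact absurd this.symm hA_AB
        | exact absurd this hB_AB
        | exact absurd this.symm hB_AB
        | exact absurd this h1_AB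
        | exact absurd this.symm h1_AB
  have h4 : 4 ≤ Nat.card f.range := by simpa using Nat.card_le_card_of_injective _ hinj
  have h6 : Nat.card f.range ∣ 6 := by
    have := Subgroup.card_subgroup_dvd_card f.range
    rwa [Nat.card_perm, hΩ] at this
  have : Nat.card f.range = 6 := by
    have h7 := Nat.le_of_dvd (by norm_num) h6
    have key : ∀ k, k ≤ 6 → 4 ≤ k → k ∣ 6 → k = 6 := by decide
    exact key _ h7 h4 h6
  rw [Subgroup.relIndex, ← hker, Subgroup.index_ker, this]

/-- A conjugate of the central involution inside a wide `Q`. -/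
theorem four_and_large (hL1 : IsExtraspecial 2 Q)
    (hL2 : Subgroup.centralizer (Q : Set G) = (Subgroup.center Q).map Q.subtype)
    (hL3 : Subgroup.centralizer (((Subgroup.center Q).map Q.subtype) : Set G) ≤ Subgroup.normalizer (Q : Set G))
    (h8 : 8 < Nat.card Q) (g : G) (hg : g ∉ Subgroup.normalizer (((Subgroup.center Q).map Q.subtype) : Set G))
    (hZg : ((Subgroup.center Q).map Q.subtype).map (MulAut.conj g).toMonoidHom ≤ Q) :
    (Subgroup.center Q).map Q.subtype ≤ Q.map (MulAut.conj g).toMonoidHom ∧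
      (Subgroup.centralizer ((((Subgroup.center Q).map Q.subtype) ⊔
          ((Subgroup.center Q).map Q.subtype).map (MulAut.conj g).toMonoidHom : Subgroup G) : Set G)).relIndex
        (Subgroup.normalizer ((((Subgroup.center Q).map Q.subtype) ⊔
          ((Subgroup.center Q).map Q.subtype).map (MulAut.conj g).toMonoidHom : Subgroup G) : Set G)) = 6 ∧
      IsLargeExtraspecial Q := by
  obtain ⟨z, h, hzmem⟩ := ES.of_large hL1 hL2 hL3
  set Z := (Subgroup.center Q).map Q.subtype
  set x := g * z * g⁻¹ with hxdef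
  have hzZ : z ∈ Z := (hzmem z).mpr (Or.inr rfl)
  have hxQ : x ∈ Q := hZg ⟨z, hzZ, rfl⟩
  have hxz : x ≠ z := by
    intro e
    refine hg (Subgroup.mem_normalizer_iff.mpr fun v => ?_)
    rw [hzmem, hzmem]
    refine ⟨?_, ?_⟩
    · rintro (rfl | rfl)
      · exact Or.inl (by group)
      · exact Or.inr e
    · rintro (e' | e')
      · exact Or.inl (conj_eq_one_iff.mp e')
      · exact Or.inr (mul_left_cancel (mul_right_cancel (e'.trans e.symm)))
  have h' := h.cj g
  have hxx : x * x = 1 := h'.zz
  have hsym := h.symm_mem hxQ fun _ => h.exists_pair h8 hxQ hxx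
  have hzx : z * x = x * z := (h.comm x hxQ).symm
  have hV : Z ⊔ Z.map (MulAut.conj g).toMonoidHom = fourGroup z x h.zz hxx hzx := by
    refine le_antisymm (sup_le ?_ ?_) ?_
    · intro v hv
      rcases (hzmem v).mp hv with rfl | rfl
      · exact one_mem _
      · exact Or.inr (Or.inl rfl)
    · rintro _ ⟨v, hv, rfl⟩
      rcases (hzmem v).mp hv with rfl | rfl
      · rw [map_one]; exact one_mem _
      · exact Or.inr (Or.inr (Or.inl rfl))
    · have hz' : z ∈ Z ⊔ Z.map (MulAut.conj g).toMonoidHom := Subgroup.mem_sup_left hzZ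
      have hx' : x ∈ Z ⊔ Z.map (MulAut.conj g).toMonoidHom := Subgroup.mem_sup_right ⟨z, hzZ, rfl⟩
      rintro v (rfl | rfl | rfl | rfl)
      exacts [one_mem _, hz', hx', mul_mem hz' hx']
  refine ⟨?_, ?_, ?_⟩
  · intro v hv
    rcases (hzmem v).mp hv with rfl | rfl
    · exact one_mem _
    · exact hsym
  · obtain ⟨q, -, hq1, hq2⟩ := h.swap hxQ hxz h'.ne
    obtain ⟨r, -, hr1, hr2⟩ := h'.swap hsym (Ne.symm hxz) h.ne
    rw [hV]
    exact four_index h.zz hxx hzx h.ne h'.ne hxz hq1 hq2 hr1 hr2
  · refine large_of_involution hL1 hL2 hL3 x hxQ (fun hx => ?_) (orderOf_eq_prime (by rw [pow_two, hxx]) h'.ne) ?_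
    · rcases (hzmem x).mp hx with e | e
      exacts [h'.ne e, hxz e]
    · intro v hv
      rcases (hzmem v).mp hv with rfl | rfl
      · exact one_mem _
      · exact le_coreCent h'.toExt.isPGroup h'.comm (fun c hc n hn => h'.nor c hc n hn) hsym

end CfsgLargeExtra
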