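/-
Two extraspecial subgroups whose central involutions lie in each other: the group they generate.
-/
import Cfsg.Agent.Lib.LargeExtra.Four

set_option autoImplicit false

namespace CfsgLargeExtra

open Cfsg
open scoped Pointwise commutatorElement

variable {G : Type*} [Group G]

theorem cj_cj (a b : G) (Q : Subgroup G) : cj a (cj b Q) = cj (a * b) Q := by
  ext y; simp [mem_cj, mul_assoc]

theorem mem_normalizer_of_le [Finite G] {H : Subgroup G} {c : G} (hc : ∀ v ∈ H, c * v * c⁻¹ ∈ H) :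
    c ∈ Subgroup.normalizer (H : Set G) := by
  let φ : ↥H → ↥H := fun v => ⟨c * v * c⁻¹, hc v v.2⟩
  have hs := Finite.surjective_of_injective (f := φ) fun a b hab => Subtype.ext (by simpa [φ] using congrArg Subtype.val hab)
  rw [Subgroup.mem_normalizer_iff]
  refine fun v => ⟨hc v, fun hv => ?_⟩
  obtain ⟨w, hw⟩ := hs ⟨_, hv⟩
  have : (w : G) = v := by simpa [φ] using congrArg Subtype.val hw
  exact this ▸ w.2

theorem mem_cent_pair {z x c : G} :
    c ∈ Subgroup.centralizer ((Subgroup.closure ({z, x} : Set G) : Subgroup G) : Set G) ↔ c * z = z * c ∧ c * x = x * c := by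
  rw [Subgroup.centralizer_closure, Subgroup.mem_centralizer_iff]
  exact ⟨fun h => ⟨(h z (by simp)).symm, (h x (by simp)).symm⟩, fun h v hv => by
    rcases hv with rfl | rfl
    exacts [h.1.symm, h.2.symm]⟩

theorem closure_pair_eq {z x : G} (hzz : z * z = 1) (hxx : x * x = 1) (hzx : z * x = x * z) :
    Subgroup.closure ({z, x} : Set G) = fourGroup z x hzz hxx hzx := by
  refine le_antisymm ((Subgroup.closure_le _).mpr ?_) ?_
  · rintro v (rfl | rfl)
    exacts [Or.inr (Or.inl rfl), Or.inr (Or.inr (Or.inl rfl))]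
  · have hz : z ∈ Subgroup.closure ({z, x} : Set G) := Subgroup.subset_closure (by simp)
    have hx : x ∈ Subgroup.closure ({z, x} : Set G) := Subgroup.subset_closure (by simp)
    rintro v (rfl | rfl | rfl | rfl)
    exacts [one_mem _, hz, hx, mul_mem hz hx]

/-- A group generated by two involutions with `aba = bab` has at most six elements. -/
theorem card_le_six {H : Type*} [Group H] (a b : H) (ha : a * a = 1) (hb : b * b = 1) (hab : a * b * a = b * a * b)
    (hgen : Subgroup.closure ({a, b} : Set H) = ⊤) : Nat.card H ≤ 6 := by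
  have h1 : ∀ t, a * (a * t) = t := fun t => by rw [← mul_assoc, ha, one_mul]
  have h2 : ∀ t, b * (b * t) = t := fun t => by rw [← mul_assoc, hb, one_mul]
  have hbab : b * (a * b) = a * (b * a) := by rw [← mul_assoc, ← hab, mul_assoc]
  have h3 : ∀ t, b * (a * (b * t)) = a * (b * (a * t)) := fun t => by
    rw [← mul_assoc a b, ← mul_assoc b, hbab, mul_assoc, mul_assoc]
  let L : Fin 6 → H := ![1, a, b, a * b, b * a, a * (b * a)]
  have key : ∀ y ∈ Subgroup.closure ({a, b} : Set H), y = 1 ∨ y = a ∨ y = b ∨ y = a * b ∨ y = b * a ∨ y = a * (b * a) := by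
    intro y hy
    induction hy using Subgroup.closure_induction_left with
    | one => exact Or.inl rfl
    | mul_left g hg y _ ih =>
      simp only [Set.mem_insert_iff, Set.mem_singleton_iff] at hg
      rcases hg with hg | hg <;> rw [hg] <;> rcases ih with e | e | e | e | e | e <;> rw [e] <;>
        simp [ha, hb, h1, h2, h3, hbab]
    | inv_mul_cancel g hg y _ ih =>
      simp only [Set.mem_insert_iff, Set.mem_singleton_iff] at hg
      have hgi : g⁻¹ = g := by rcases hg with hg | hg <;> rw [hg] <;> exact inv_eq_of_mul_eq_one_right (by assumption)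
      rw [hgi]
      rcases hg with hg | hg <;> rw [hg] <;> rcases ih with e | e | e | e | e | e <;> rw [e] <;>
        simp [ha, hb, h1, h2, h3, hbab]
  have hs : Function.Surjective L := by
    intro y
    rcases key y (hgen ▸ Subgroup.mem_top y) with rfl | rfl | rfl | rfl | rfl | rfl
    exacts [⟨0, rfl⟩, ⟨1, rfl⟩, ⟨2, rfl⟩, ⟨3, rfl⟩, ⟨4, rfl⟩, ⟨5, rfl⟩]
  simpa using Nat.card_le_card_of_surjective L hs

variable {Q Q' : Subgroup G} {z x : G}

/-- `Q` normalises `(Q' ∩ C(z))(Q ∩ C(x))`. -/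
theorem conj_mem_pair (h : ES Q z) (h' : ES Q' x) (hx : x ∈ Q) {q : G} (hq : q ∈ Q) {r : G}
    (hr : r ∈ (Q' ⊓ Subgroup.centralizer ({z} : Set G)) ⊔ (Q ⊓ Subgroup.centralizer ({x} : Set G))) :
    q * r * q⁻¹ ∈ (Q' ⊓ Subgroup.centralizer ({z} : Set G)) ⊔ (Q ⊓ Subgroup.centralizer ({x} : Set G)) := by
  set A := Q ⊓ Subgroup.centralizer ({x} : Set G)
  set B := Q' ⊓ Subgroup.centralizer ({z} : Set G)
  suffices B ⊔ A ≤ (B ⊔ A).comap (MulAut.conj q).toMonoidHom from this hr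
  refine sup_le ?_ ?_
  · intro b hb
    obtain ⟨hbQ', hbz⟩ := hb
    have hbz' := mem_cent_singleton.mp hbz
    have hbx : b * x = x * b := h'.comm b hbQ'
    show q * b * q⁻¹ ∈ B ⊔ A
    have hcQ : q * b * q⁻¹ * b⁻¹ ∈ Q := by
      rw [show q * b * q⁻¹ * b⁻¹ = q * (b * q⁻¹ * b⁻¹) by group]
      exact mul_mem hq (h.nor b hbz' _ (inv_mem hq))
    have hc' : q * b * q⁻¹ * x = x * (q * b * q⁻¹) := by
      have e : b * (q⁻¹ * x * q) = (q⁻¹ * x * q) * b := by
        have := h.conj_cases (inv_mem hq) hx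
        rw [inv_inv] at this
        rcases this with e | e <;> rw [e]
        · exact hbx
        · rw [← mul_assoc, hbx, mul_assoc, hbz', mul_assoc]
      have := congrArg (fun t => q * t * q⁻¹) e
      simpa [mul_assoc] using this
    have hc : q * b * q⁻¹ * b⁻¹ ∈ A := ⟨hcQ, mem_cent_singleton.mpr
      ((show Commute (q * b * q⁻¹) x from hc').mul_left (show Commute b x from hbx).inv_left).eq⟩
    rw [show q * b * q⁻¹ = q * b * q⁻¹ * b⁻¹ * b by group]
    exact mul_mem (Subgroup.mem_sup_right hc) (Subgroup.mem_sup_left ⟨hbQ', hbz⟩)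
  · intro a ha
    show q * a * q⁻¹ ∈ B ⊔ A
    refine Subgroup.mem_sup_right ?_
    rcases h.conj_cases hq ha.1 with e | e <;> rw [e]
    · exact ha
    · exact mul_mem ha ⟨h.mem, mem_cent_singleton.mpr (h.comm x hx).symm⟩

/-- An element commuting with `Q ∩ C(x)` lies in the four group. -/
theorem ES.cent_cent [Finite G] (h : ES Q z) (hx : x ∈ Q) (hxx : x * x = 1) (hxz : x ≠ z) (hx1 : x ≠ 1) {c : G}
    (hc : ∀ a ∈ Q, a * x = x * a → c * a = a * c) : c = 1 ∨ c = z ∨ c = x ∨ c = z * x := by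
  have hcz : c * z = z * c := hc z h.mem (h.comm x hx).symm
  have hcx : c * x = x * c := hc x hx rfl
  obtain ⟨q, hq, -, hqx⟩ := h.swap hx hxz hx1
  have hu : c * q * c⁻¹ * q⁻¹ ∈ Q := mul_mem (h.nor c hcz q hq) (inv_mem hq)
  have hua : ∀ a ∈ Q, a * x = x * a → c * q * c⁻¹ * q⁻¹ * a = a * (c * q * c⁻¹ * q⁻¹) := by
    intro a ha hax
    have h1 : q⁻¹ * a * q ∈ Q := mul_mem (mul_mem (inv_mem hq) ha) hq
    have h2 : q⁻¹ * a * q * x = x * (q⁻¹ * a * q) := by
      have := h.conj_cases (inv_mem hq) ha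
      rw [inv_inv] at this
      rcases this with e | e <;> rw [e]
      · exact hax
      · rw [mul_assoc, ← h.comm x hx, ← mul_assoc, hax, mul_assoc]
    have h3 := hc _ h1 h2
    have h4 := hc a ha hax
    calc c * q * c⁻¹ * q⁻¹ * a = c * q * c⁻¹ * (q⁻¹ * a * q) * q⁻¹ := by group
      _ = c * q * c⁻¹ * (q⁻¹ * a * q * c) * c⁻¹ * q⁻¹ := by group
      _ = c * q * c⁻¹ * (c * (q⁻¹ * a * q)) * c⁻¹ * q⁻¹ := by rw [h3]
      _ = c * a * q * c⁻¹ * q⁻¹ := by group
      _ = a * (c * q * c⁻¹ * q⁻¹) := by rw [h4]; group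
  have hall : ∀ c' : G, (∀ a ∈ Q, a * x = x * a → c' * a = a * c') → c' * q = q * c' → c' = 1 ∨ c' = z := by
    intro c' hc' hq'
    refine h.cen c' fun p hp => ?_
    rcases h.conj_cases hp hx with e | e
    · exact hc' p hp (mul_inv_eq_iff_eq_mul.mp e)
    · have hpq : (p * q) * x = x * (p * q) := by
        refine mul_inv_eq_iff_eq_mul.mp ?_
        rw [show p * q * x * (p * q)⁻¹ = p * (q * x * q⁻¹) * p⁻¹ by group, hqx,
          show p * (x * z) * p⁻¹ = (p * x * p⁻¹) * (p * z * p⁻¹) by group, e, h.comm p hp, mul_inv_cancel_right,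
          mul_assoc, h.zz, mul_one]
      have h5 := hc' _ (mul_mem hp hq) hpq
      rw [← mul_assoc, mul_assoc p q c', ← hq', ← mul_assoc] at h5
      exact mul_right_cancel h5
  rcases h.mem_four hx hxx hu fun a ha hax => (hua a ha hax).symm.symm with e | e | e | e
  · rcases hall c hc (mul_inv_eq_iff_eq_mul.mp (mul_inv_eq_one.mp e)) with e | e
    exacts [Or.inl e, Or.inr (Or.inl e)]
  · have hcx' : ∀ a ∈ Q, a * x = x * a → (c * x) * a = a * (c * x) := fun a ha hax => by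
      rw [mul_assoc, ← hax, ← mul_assoc, hc a ha hax, mul_assoc]
    have hxqx : x * q = q * (x * z) := by
      have : q * x = x * z * q := mul_inv_eq_iff_eq_mul.mp hqx
      rw [← mul_assoc, this, mul_assoc (x * z), h.comm q hq, ← mul_assoc (x * z), mul_assoc x, h.zz, mul_one]
    have hcq : c * q = z * q * c := by
      rw [mul_inv_eq_iff_eq_mul] at e
      exact mul_inv_eq_iff_eq_mul.mp e
    have hcxq : c * x * q = q * (c * x) := by
      rw [mul_assoc, hxqx, ← mul_assoc, hcq, ← h.comm q hq,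
        show q * z * c * (x * z) = q * ((z * c) * x * z) by group, ← hcz,
        show c * z * x * z = c * (z * x) * z by group, ← h.comm x hx,
        show c * (x * z) * z = c * x * (z * z) by group, h.zz, mul_one]
    have hxinv : x⁻¹ = x := inv_eq_of_mul_eq_one_right hxx
    rcases hall _ hcx' hcxq with e' | e'
    · exact Or.inr (Or.inr (Or.inl (by rw [mul_eq_one_iff_eq_inv, hxinv] at e'; exact e')))
    · exact Or.inr (Or.inr (Or.inr (by rw [← eq_mul_inv_iff_mul_eq, hxinv] at e'; exact e')))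
  all_goals
    exfalso
    have hq2 : c * (q * q) * c⁻¹ = q * q := by
      rcases h.sq q hq with e' | e' <;> rw [e']
      · simp
      · rw [hcz, mul_inv_cancel_right]
    have hcq : c * q * c⁻¹ = (c * q * c⁻¹ * q⁻¹) * q := by group
    rw [show c * (q * q) * c⁻¹ = (c * q * c⁻¹) * (c * q * c⁻¹) by group, hcq, e] at hq2
    have hqz : q * z = z * q := h.comm q hq
    have hxz' : x * z = z * x := h.comm x hx
    have hqx' : q * x = x * z * q := mul_inv_eq_iff_eq_mul.mp hqx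
  · rw [show x * q * (x * q) = x * (q * x) * q by group, hqx', ← mul_assoc, ← mul_assoc, hxx, one_mul,
      mul_assoc] at hq2
    exact h.ne (mul_eq_right.mp hq2)
  · rw [show z * x * q * (z * x * q) = z * x * (q * z) * x * q by group, hqz,
      show z * x * (z * q) * x * q = z * (x * z) * (q * x) * q by group, hxz', hqx', ← mul_assoc z, h.zz, one_mul,
      ← mul_assoc, ← mul_assoc, hxx, one_mul, mul_assoc] at hq2
    exact h.ne (mul_eq_right.mp hq2)

variable [Finite G]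

/-- Properties of `X = ⟨Q, Q'⟩` and `R = (Q' ∩ C(z))(Q ∩ C(x))` used for the four group `⟨z, x⟩`. -/
theorem pair_main (h : ES Q z) (g : G) (hQ' : Q' = cj g Q) (hx : g * z * g⁻¹ ∈ Q) (hxz : g * z * g⁻¹ ≠ z)
    (hzQ' : z ∈ Q') (V X R : Subgroup G) (hV : V = Subgroup.closure ({z, g * z * g⁻¹} : Set G))
    (hX : X = Q ⊔ Q')
    (hR : R = (Q' ⊓ Subgroup.centralizer ({z} : Set G)) ⊔ (Q ⊓ Subgroup.centralizer ({g * z * g⁻¹} : Set G))) :
    R = X ⊓ Subgroup.centralizer (V : Set G) ∧ R = (Cfsg.pCore 2 ↥X).map X.subtype ∧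
      (∃ hn : (R.subgroupOf X).Normal, Nonempty (↥X ⧸ R.subgroupOf X ≃* Equiv.Perm (Fin 3))) ∧
      Subgroup.normalizer (V : Set G) = X ⊔ (Subgroup.centralizer ({z} : Set G) ⊓ Subgroup.centralizer (V : Set G)) ∧
      (∀ y ∈ Subgroup.normalizer (V : Set G), ∀ t ∈ X, y * t * y⁻¹ ∈ X) ∧
      R ≤ Subgroup.centralizer ({z} : Set G) ⊓ Subgroup.centralizer (V : Set G) ∧
      (∀ t ∈ X, ∀ c ∈ Subgroup.centralizer ({z} : Set G) ⊓ Subgroup.centralizer (V : Set G), t * c * t⁻¹ * c⁻¹ ∈ R) ∧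
      X ⊓ (Subgroup.centralizer ({z} : Set G) ⊓ Subgroup.centralizer (V : Set G)) = R := by
  classical
  set x := g * z * g⁻¹ with hxdef
  have h' : ES Q' x := hQ' ▸ h.cj g
  have hxx : x * x = 1 := h'.zz
  have hzx : z * x = x * z := (h.comm x hx).symm
  subst hV
  set V := Subgroup.closure ({z, x} : Set G) with hVdef
  have hVfour : ∀ v, v ∈ V ↔ v = 1 ∨ v = z ∨ v = x ∨ v = z * x := fun v => by
    rw [hVdef, closure_pair_eq h.zz hxx hzx]; exact Iff.rfl
  have hzV : z ∈ V := Subgroup.subset_closure (by simp)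
  have hxV : x ∈ V := Subgroup.subset_closure (by simp)
  have hxzV : x * z ∈ V := mul_mem hxV hzV
  have hQX : Q ≤ X := hX ▸ le_sup_left
  have hQ'X : Q' ≤ X := hX ▸ le_sup_right
  obtain ⟨q0, hq0, hq0z, hq0x⟩ := h.swap hx hxz h'.ne
  obtain ⟨r0, hr0, hr0x, hr0z⟩ := h'.swap hzQ' (Ne.symm hxz) h.ne
  have hVz : Subgroup.centralizer ({z} : Set G) ⊓ Subgroup.centralizer (V : Set G) = Subgroup.centralizer (V : Set G) :=
    inf_eq_right.mpr fun c hc => mem_cent_singleton.mpr (mem_cent_pair.mp hc).1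
  rw [hVz]
  have hRC : R ≤ Subgroup.centralizer (V : Set G) := by
    rw [hR]
    refine sup_le ?_ ?_
    · rintro b ⟨hb, hbz⟩
      exact mem_cent_pair.mpr ⟨mem_cent_singleton.mp hbz, h'.comm b hb⟩
    · rintro a ⟨ha, hax⟩
      exact mem_cent_pair.mpr ⟨h.comm a ha, mem_cent_singleton.mp hax⟩
  have hRX : R ≤ X := by
    rw [hR]
    exact sup_le (inf_le_left.trans hQ'X) (inf_le_left.trans hQX)
  have hXN : X ≤ Subgroup.normalizer (R : Set G) := by
    rw [hX]
    refine sup_le (fun q hq => mem_normalizer_of_le fun r hr => ?_) (fun q hq => mem_normalizer_of_le fun r hr => ?_)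
    · rw [hR] at hr ⊢; exact conj_mem_pair h h' hx hq hr
    · rw [hR, sup_comm] at hr ⊢; exact conj_mem_pair h' h hzQ' hq hr
  haveI hRn : (R.subgroupOf X).Normal := ⟨fun r hr c => (Subgroup.mem_normalizer_iff.mp (hXN c.2) r).mp hr⟩
  -- conjugates of `Q` attached to the three involutions
  have hcjq : cj q0 Q' = cj r0 Q := by
    rw [hQ', cj_cj]
    refine h.cj_congr ?_
    rw [show q0 * g * z * (q0 * g)⁻¹ = q0 * x * q0⁻¹ by rw [hxdef]; group, hq0x, hr0z, hzx]
  have hcjX : ∀ {a : G} {P : Subgroup G}, a ∈ X → P ≤ X → cj a P ≤ X := by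
    intro a P ha hP t ht
    rw [mem_cj] at ht
    rw [show t = a * (a⁻¹ * t * a) * a⁻¹ by group]
    exact mul_mem (mul_mem ha (hP ht)) (inv_mem ha)
  have hcjV : ∀ k : G, k * z * k⁻¹ ∈ V → cj k Q ≤ X := by
    intro k hk
    rcases (hVfour _).mp hk with e | e | e | e
    · exact absurd (conj_eq_one_iff.mp e) h.ne
    · have : cj k Q = cj 1 Q := h.cj_congr (by rw [e]; simp)
      rw [this]; exact hcjX (one_mem _) hQX
    · rw [h.cj_congr (g := k) (k := g) e, ← hQ']; exact hQ'X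
    · rw [h.cj_congr (g := k) (k := r0) (e.trans hr0z.symm)]; exact hcjX (hQ'X hr0) hQX
  have hNX : ∀ y ∈ Subgroup.normalizer (V : Set G), ∀ t ∈ X, y * t * y⁻¹ ∈ X := by
    intro y hy t ht
    suffices X ≤ X.comap (MulAut.conj y).toMonoidHom from this ht
    nth_rw 1 [hX]
    refine sup_le (fun q hq => ?_) (fun q hq => ?_)
    · exact hcjV y ((Subgroup.mem_normalizer_iff.mp hy z).mp hzV) (conj_mem_cj hq)
    · refine hcjV (y * g) ?_ ?_
      · rw [show y * g * z * (y * g)⁻¹ = y * x * y⁻¹ by rw [hxdef]; group]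
        exact (Subgroup.mem_normalizer_iff.mp hy x).mp hxV
      · rw [← cj_cj, ← hQ']; exact conj_mem_cj hq
  -- the action on the three involutions
  let Ω := {v : G // v ∈ V ∧ v ≠ 1}
  have hxz1 : x * z ≠ 1 := fun e => hxz (by
    have := inv_eq_of_mul_eq_one_right e
    rw [inv_eq_of_mul_eq_one_right hxx] at this
    exact this)
  let e0 : Fin 3 → Ω := ![⟨z, hzV, h.ne⟩, ⟨x, hxV, h'.ne⟩, ⟨x * z, hxzV, hxz1⟩]
  have he0 : Function.Bijective e0 := by
    refine ⟨fun i j hij => ?_, fun v => ?_⟩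
    · have h1 : z ≠ x * z := fun e => h'.ne (mul_eq_right.mp e.symm)
      have h2 : x ≠ x * z := fun e => h.ne (mul_eq_left.mp e.symm)
      have := congrArg Subtype.val hij
      fin_cases i <;> fin_cases j <;>
        first
          | rfl
          | exact absurd this hxz
          | exact absurd this.symm hxz
          | exact absurd this h1
          | exact absurd this.symm h1
          | exact absurd this h2
          | exact absurd this.symm h2
    · obtain ⟨v, hv, hv1⟩ := v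
      rcases (hVfour v).mp hv with rfl | rfl | rfl | rfl
      · exact absurd rfl hv1
      · exact ⟨0, rfl⟩
      · exact ⟨1, rfl⟩
      · exact ⟨2, Subtype.ext hzx.symm⟩
  set N := Subgroup.normalizer (V : Set G) with hNdef
  letI : MulAction N Ω :=
    { smul := fun n v => ⟨n * v * (n : G)⁻¹, (Subgroup.mem_normalizer_iff.mp n.2 _).mp v.2.1,
        fun e => v.2.2 (conj_eq_one_iff.mp e)⟩
      one_smul := fun v => Subtype.ext (show ((1 : N) : G) * v * ((1 : N) : G)⁻¹ = v by simp)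
      mul_smul := fun a b v => Subtype.ext (show ((a * b : N) : G) * v * ((a * b : N) : G)⁻¹ =
        (a : G) * ((b : G) * v * (b : G)⁻¹) * (a : G)⁻¹ by simp [mul_assoc]) }
  let f : N →* Equiv.Perm (Fin 3) :=
    (Equiv.ofBijective e0 he0).symm.permCongrHom.toMonoidHom.comp (MulAction.toPermHom N Ω)
  have hf : ∀ (n : N) (i j : Fin 3), (n : G) * (e0 i : G) * (n : G)⁻¹ = e0 j → f n i = j := by
    intro n i j e
    show (Equiv.ofBijective e0 he0).symm (n • e0 i) = j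
    rw [show n • e0 i = e0 j from Subtype.ext e]
    exact Equiv.ofBijective_symm_apply_apply e0 he0 j
  have hker : ∀ n : N, f n = 1 ↔ (n : G) ∈ Subgroup.centralizer (V : Set G) := by
    intro n
    constructor
    · intro hn
      have hi : ∀ i, (n : G) * (e0 i : G) * (n : G)⁻¹ = e0 i := by
        intro i
        obtain ⟨j, hj⟩ := he0.2 (n • e0 i)
        have e : (n : G) * (e0 i : G) * (n : G)⁻¹ = e0 j := congrArg Subtype.val hj.symm
        have := hf n i j e
        rw [hn, Equiv.Perm.one_apply] at this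
        rw [e, this]
      exact mem_cent_pair.mpr ⟨mul_inv_eq_iff_eq_mul.mp (hi 0), mul_inv_eq_iff_eq_mul.mp (hi 1)⟩
    · intro hn
      obtain ⟨hnz, hnx⟩ := mem_cent_pair.mp hn
      refine Equiv.ext fun i => hf n i i ?_
      rw [mul_inv_eq_iff_eq_mul]
      fin_cases i
      · exact hnz
      · exact hnx
      · exact ((show Commute (n : G) x from hnx).mul_right hnz).eq
  have hqN : Q ≤ N := fun q hq => mem_normalizer_of_le fun v hv => by
    have hvQ : v ∈ Q := by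
      rcases (hVfour v).mp hv with rfl | rfl | rfl | rfl
      exacts [one_mem _, h.mem, hx, mul_mem h.mem hx]
    rcases h.conj_cases hq hvQ with e | e
    · rw [e]; exact hv
    · rw [e]; exact mul_mem hv hzV
  have hq'N : Q' ≤ N := fun q hq => mem_normalizer_of_le fun v hv => by
    have hvQ : v ∈ Q' := by
      rcases (hVfour v).mp hv with rfl | rfl | rfl | rfl
      exacts [one_mem _, hzQ', h'.mem, mul_mem hzQ' h'.mem]
    rcases h'.conj_cases hq hvQ with e | e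
    · rw [e]; exact hv
    · rw [e]; exact mul_mem hv hxV
  have hXV : X ≤ N := hX ▸ sup_le hqN hq'N
  have hCN : Subgroup.centralizer (V : Set G) ≤ N := fun c hc => mem_normalizer_of_le fun v hv => by
    rw [(Subgroup.mem_centralizer_iff.mp hc v hv).symm, mul_inv_cancel_right]; exact hv
  let fX : X →* Equiv.Perm (Fin 3) := f.comp (Subgroup.inclusion hXV)
  have key3 : ∀ σ : Equiv.Perm (Fin 3),
      (σ 0 = 0 → σ 1 = 2 → σ = Equiv.swap 1 2) ∧ (σ 1 = 1 → σ 0 = 2 → σ = Equiv.swap 0 2) := by decide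
  have hfq : fX ⟨q0, hQX hq0⟩ = Equiv.swap 1 2 :=
    (key3 _).1 (hf _ 0 0 hq0z) (hf _ 1 2 hq0x)
  have hfr : fX ⟨r0, hQ'X hr0⟩ = Equiv.swap 0 2 :=
    (key3 _).2 (hf _ 1 1 hr0x) (hf _ 0 2 (hr0z.trans hzx))
  have hsurj : Function.Surjective fX := by
    intro σ
    have key : ∀ σ : Equiv.Perm (Fin 3), σ = 1 ∨ σ = Equiv.swap 1 2 ∨ σ = Equiv.swap 0 2 ∨
        σ = Equiv.swap 1 2 * Equiv.swap 0 2 ∨ σ = Equiv.swap 0 2 * Equiv.swap 1 2 ∨
        σ = Equiv.swap 1 2 * Equiv.swap 0 2 * Equiv.swap 1 2 := by decide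
    rcases key σ with rfl | rfl | rfl | rfl | rfl | rfl
    exacts [⟨1, map_one _⟩, ⟨_, hfq⟩, ⟨_, hfr⟩,
      ⟨⟨q0, hQX hq0⟩ * ⟨r0, hQ'X hr0⟩, by rw [map_mul, hfq, hfr]⟩,
      ⟨⟨r0, hQ'X hr0⟩ * ⟨q0, hQX hq0⟩, by rw [map_mul, hfq, hfr]⟩,
      ⟨⟨q0, hQX hq0⟩ * ⟨r0, hQ'X hr0⟩ * ⟨q0, hQX hq0⟩, by rw [map_mul, map_mul, hfq, hfr]⟩]
  have hle : R.subgroupOf X ≤ fX.ker := fun r hr => (hker _).mpr (hRC hr)
  let π := QuotientGroup.mk' (R.subgroupOf X)
  have hπ : ∀ {a b : G} (ha : a ∈ X) (hb : b ∈ X), a⁻¹ * b ∈ R → π ⟨a, ha⟩ = π ⟨b, hb⟩ := fun ha hb h =>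
    QuotientGroup.eq.mpr h
  have hsq : ∀ {P : Subgroup G} {c a : G}, ES P c → (hP : P ≤ X) → (ha : a ∈ P) → c ∈ R →
      π ⟨a, hP ha⟩ * π ⟨a, hP ha⟩ = 1 := by
    intro P c a hh hP ha hc
    rw [← map_mul]
    refine (QuotientGroup.eq_one_iff _).mpr ?_
    rw [Subgroup.mem_subgroupOf]
    rcases hh.sq a ha with e | e <;> simp only [Subgroup.coe_mul, e]
    exacts [one_mem _, hc]
  have hzR : z ∈ R := hR ▸ Subgroup.mem_sup_right ⟨h.mem, mem_cent_singleton.mpr hzx⟩
  have hxR : x ∈ R := hR ▸ Subgroup.mem_sup_left ⟨h'.mem, mem_cent_singleton.mpr hzx.symm⟩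
  have haa := hsq h hQX hq0 hzR
  have hbb := hsq h' hQ'X hr0 hxR
  have hcoset : ∀ {P : Subgroup G} {c t a q : G}, ES P c → t ∈ P → a ∈ P → q ∈ P → a * t * a⁻¹ = t * c →
      q * t * q⁻¹ ≠ t → a⁻¹ * q ∈ P ⊓ Subgroup.centralizer ({t} : Set G) := by
    intro P c t a q hh ht ha hq hat hqt
    refine ⟨(mul_mem (inv_mem ha) hq : a⁻¹ * q ∈ P), mem_cent_singleton.mpr (mul_inv_eq_iff_eq_mul.mp ?_)⟩
    rcases hh.conj_cases hq ht with e | e
    · exact absurd e hqt
    · rw [show a⁻¹ * q * t * (a⁻¹ * q)⁻¹ = a⁻¹ * (q * t * q⁻¹) * a by group, e, ← hat]; group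
  have hQA : Q ⊓ Subgroup.centralizer ({x} : Set G) ≤ R := hR ▸ le_sup_right
  have hQB : Q' ⊓ Subgroup.centralizer ({z} : Set G) ≤ R := hR ▸ le_sup_left
  let a := π ⟨q0, hQX hq0⟩
  let b := π ⟨r0, hQ'X hr0⟩
  have hgenX : ∀ t : X, π t ∈ Subgroup.closure ({a, b} : Set _) := by
    have : X ≤ ((Subgroup.closure ({a, b} : Set _)).comap π).map X.subtype := by
      nth_rw 1 [hX]
      refine sup_le (fun q hq => ⟨⟨q, hQX hq⟩, ?_, rfl⟩) (fun q hq => ⟨⟨q, hQ'X hq⟩, ?_, rfl⟩)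
      · show π ⟨q, hQX hq⟩ ∈ Subgroup.closure ({a, b} : Set _)
        by_cases hqx : q * x * q⁻¹ = x
        · rw [show π ⟨q, hQX hq⟩ = 1 from (QuotientGroup.eq_one_iff _).mpr
            (hQA ⟨hq, mem_cent_singleton.mpr (mul_inv_eq_iff_eq_mul.mp hqx)⟩)]
          exact one_mem _
        · rw [← hπ (hQX hq0) (hQX hq) (hQA (hcoset h hx hq0 hq hq0x hqx))]
          exact Subgroup.subset_closure (by simp [a])
      · show π ⟨q, hQ'X hq⟩ ∈ Subgroup.closure ({a, b} : Set _)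
        by_cases hqz : q * z * q⁻¹ = z
        · rw [show π ⟨q, hQ'X hq⟩ = 1 from (QuotientGroup.eq_one_iff _).mpr
            (hQB ⟨hq, mem_cent_singleton.mpr (mul_inv_eq_iff_eq_mul.mp hqz)⟩)]
          exact one_mem _
        · rw [← hπ (hQ'X hr0) (hQ'X hq) (hQB (hcoset h' hzQ' hr0 hq hr0z hqz))]
          exact Subgroup.subset_closure (by simp [b])
    intro t
    obtain ⟨t', ht', e⟩ := this t.2
    exact (Subtype.ext e : t' = t) ▸ ht'
  have hgen : Subgroup.closure ({a, b} : Set _) = ⊤ := eq_top_iff.mpr fun y _ => by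
    obtain ⟨t, rfl⟩ := QuotientGroup.mk'_surjective _ y
    exact hgenX t
  have habab : a * b * a = b * a * b := by
    obtain ⟨q, hq, e⟩ : q0 * r0 * q0⁻¹ ∈ cj r0 Q := hcjq ▸ conj_mem_cj hr0
    have e' : r0 * q * r0⁻¹ = q0 * r0 * q0⁻¹ := e
    have hqx : q * x * q⁻¹ ≠ x := by
      intro hc
      have h1 : (⟨q, hQX hq⟩ : X) ∈ R.subgroupOf X := hQA ⟨hq, mem_cent_singleton.mpr (mul_inv_eq_iff_eq_mul.mp hc)⟩
      have h2 : r0 ∈ R := by
        have := (Subgroup.mem_normalizer_iff.mp (hXN (mul_mem (inv_mem (hQX hq0)) (hQ'X hr0))) q).mp h1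
        rw [show q0⁻¹ * r0 * q * (q0⁻¹ * r0)⁻¹ = q0⁻¹ * (r0 * q * r0⁻¹) * q0 by group, e'] at this
        simpa [mul_assoc] using this
      have := (mem_cent_pair.mp (hRC h2)).1
      rw [mul_inv_eq_iff_eq_mul.mp hr0z] at this
      exact h'.ne (mul_eq_left.mp (mul_right_cancel this))
    have hq' : π ⟨q, hQX hq⟩ = a := (hπ (hQX hq0) (hQX hq) (hQA (hcoset h hx hq0 hq hq0x hqx))).symm
    have hinv : ∀ {c : _ ⧸ R.subgroupOf X}, c * c = 1 → c⁻¹ = c := fun hc => inv_eq_of_mul_eq_one_right hc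
    have := congrArg π (Subtype.ext e' : (⟨r0, hQ'X hr0⟩ : X) * ⟨q, hQX hq⟩ * ⟨r0, hQ'X hr0⟩⁻¹ =
      ⟨q0, hQX hq0⟩ * ⟨r0, hQ'X hr0⟩ * ⟨q0, hQX hq0⟩⁻¹)
    simp only [map_mul, map_inv, hq'] at this
    rw [hinv haa, hinv hbb] at this
    exact this.symm
  have hcard : Nat.card (↥X ⧸ R.subgroupOf X) ≤ 6 := card_le_six a b haa hbb habab hgen
  let φ : ↥X ⧸ R.subgroupOf X →* Equiv.Perm (Fin 3) := QuotientGroup.lift _ fX hle
  have hφs : Function.Surjective φ := fun σ => by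
    obtain ⟨t, rfl⟩ := hsurj σ
    exact ⟨π t, rfl⟩
  have hφ : Function.Bijective φ := by
    refine hφs.bijective_of_nat_card_le ?_
    rwa [Nat.card_perm, Nat.card_fin]
  have hXC : X ⊓ Subgroup.centralizer (V : Set G) = R := by
    refine le_antisymm ?_ (le_inf hRX hRC)
    rintro t ⟨ht, htc⟩
    have : φ (π ⟨t, ht⟩) = φ 1 := by
      rw [map_one]; exact (hker _).mpr htc
    exact (QuotientGroup.eq_one_iff (⟨t, ht⟩ : X)).mp (hφ.1 this)
  refine ⟨hXC.symm, ?_, ⟨hRn, ⟨MulEquiv.ofBijective φ hφ⟩⟩, ?_, hNX, hRC, ?_, hXC⟩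
  · have h2R : IsPGroup 2 R := by
      rw [hR]
      refine IsPGroup.to_sup_of_normal_right' (h'.toExt.isPGroup.to_le inf_le_left) (h.toExt.isPGroup.to_le inf_le_left)
        fun b hb => mem_normalizer_of_le fun a ha => ⟨h.nor b (mem_cent_singleton.mp hb.2) a ha.1, mem_cent_singleton.mpr ?_⟩
      have hbx : Commute b x := h'.comm b hb.1
      exact ((hbx.mul_left (mem_cent_singleton.mp ha.2)).mul_left hbx.inv_left).eq
    refine le_antisymm ?_ ?_
    · intro r hr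
      refine ⟨⟨r, hRX hr⟩, ?_, rfl⟩
      exact CfsgLib.le_pCore (N := R.subgroupOf X) (h2R.of_equiv (Subgroup.subgroupOfEquivOfLe hRX).symm)
        (show (⟨r, hRX hr⟩ : X) ∈ R.subgroupOf X from hr)
    · rintro _ ⟨t, ht, rfl⟩
      have h2 : IsPGroup 2 ((pCore 2 ↥X).map fX) := (CfsgLib.isPGroup_pCore 2).map fX
      have hn : ((pCore 2 ↥X).map fX).Normal := (inferInstance : (pCore 2 ↥X).Normal).map fX hsurj
      have key : ∀ σ : Equiv.Perm (Fin 3), σ = 1 ∨ σ ^ 3 = 1 ∨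
          ∃ τ, τ * σ * τ⁻¹ * σ ≠ 1 ∧ (τ * σ * τ⁻¹ * σ) ^ 3 = 1 := by decide +kernel
      have hthree : ∀ σ ∈ (pCore 2 ↥X).map fX, σ ^ 3 = 1 → σ = 1 := by
        intro σ hσ h3
        obtain ⟨k, hk⟩ := h2 ⟨σ, hσ⟩
        have hk' : σ ^ 2 ^ k = 1 := congrArg Subtype.val hk
        exact orderOf_eq_one_iff.mp (Nat.eq_one_of_dvd_coprimes (Nat.Coprime.pow_left k (by norm_num : Nat.Coprime 2 3))
          (orderOf_dvd_of_pow_eq_one hk') (orderOf_dvd_of_pow_eq_one h3))
      have hmem : fX t ∈ (pCore 2 ↥X).map fX := ⟨t, ht, rfl⟩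
      have h1 : fX t = 1 := by
        rcases key (fX t) with e | e | ⟨τ, e1, e2⟩
        · exact e
        · exact hthree _ hmem e
        · exact absurd (hthree _ (mul_mem (hn.conj_mem _ hmem τ) hmem) e2) e1
      exact hXC.le ⟨t.2, (hker _).mp h1⟩
  · refine le_antisymm (fun n hn => ?_) (sup_le hXV hCN)
    obtain ⟨t, ht⟩ := hsurj (f ⟨n, hn⟩)
    have : ((Subgroup.inclusion hXV t)⁻¹ * ⟨n, hn⟩ : N).1 ∈ Subgroup.centralizer (V : Set G) := by
      refine (hker _).mp ?_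
      rw [map_mul, map_inv, show f (Subgroup.inclusion hXV t) = fX t from rfl, ht, inv_mul_cancel]
    rw [show n = (t : G) * ((t : G)⁻¹ * n) by group]
    exact Subgroup.mul_mem_sup t.2 this
  · intro t ht c hc
    refine hXC.le ⟨?_, ?_⟩
    · show t * c * t⁻¹ * c⁻¹ ∈ X
      rw [show t * c * t⁻¹ * c⁻¹ = t * (c * t⁻¹ * c⁻¹) by group]
      exact mul_mem ht (hNX c (hCN hc) _ (inv_mem ht))
    · show t * c * t⁻¹ * c⁻¹ ∈ Subgroup.centralizer (V : Set G)
      refine mul_mem ?_ (inv_mem hc)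
      refine Subgroup.mem_centralizer_iff.mpr fun v hv => ?_
      have hv' : t⁻¹ * v * t ∈ V := by
        have := (Subgroup.mem_normalizer_iff.mp (inv_mem (hXV ht)) v).mp hv
        simpa using this
      have := congrArg (fun y => t * y * t⁻¹) (Subgroup.mem_centralizer_iff.mp hc _ hv')
      simpa [mul_assoc] using this

/-- The commutator structure of `R = (Q' ∩ C(z))(Q ∩ C(x))`. -/
theorem pair_center (h : ES Q z) (h' : ES Q' x) (hx : x ∈ Q) (hxz : x ≠ z) (hzQ' : z ∈ Q') (V X R E : Subgroup G)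
    (hV : V = Subgroup.closure ({z, x} : Set G)) (hX : X = Q ⊔ Q')
    (hR : R = (Q' ⊓ Subgroup.centralizer ({z} : Set G)) ⊔ (Q ⊓ Subgroup.centralizer ({x} : Set G)))
    (hE : E = Q ⊓ Q') :
    (Subgroup.center ↥R).map R.subtype = V ∧ E ≤ (Subgroup.upperCentralSeries ↥R 2).map R.subtype ∧
      Subgroup.upperCentralSeries ↥R 3 = ⊤ ∧ Cfsg.IsElementaryAbelian 2 E ∧
      (∀ a ∈ R, ∀ b ∈ R, a * b * a⁻¹ * b⁻¹ ∈ E ∧ a ^ 2 ∈ E) ∧
      (Q' ⊓ Subgroup.centralizer ({z} : Set G)) ⊓ (Q ⊓ Subgroup.centralizer ({x} : Set G)) = E ∧ ⁅X, E⁆ ≤ V := by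
  have hxx : x * x = 1 := h'.zz
  have hzx : z * x = x * z := (h.comm x hx).symm
  have hzV : z ∈ V := hV ▸ Subgroup.subset_closure (by simp)
  have hxV : x ∈ V := hV ▸ Subgroup.subset_closure (by simp)
  have hzR : z ∈ R := hR ▸ Subgroup.mem_sup_right ⟨h.mem, mem_cent_singleton.mpr hzx⟩
  have hxR : x ∈ R := hR ▸ Subgroup.mem_sup_left ⟨h'.mem, mem_cent_singleton.mpr hzx.symm⟩
  have hVR : V ≤ R := by
    rw [hV, Subgroup.closure_le]
    rintro v (rfl | rfl)
    exacts [hzR, hxR]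
  have hRC : ∀ r ∈ R, r * z = z * r ∧ r * x = x * r := by
    intro r hr
    rw [← mem_cent_pair, ← hV]
    revert r
    show R ≤ _
    rw [hR, hV]
    refine sup_le ?_ ?_
    · rintro b ⟨hb, hbz⟩
      exact mem_cent_pair.mpr ⟨mem_cent_singleton.mp hbz, h'.comm b hb⟩
    · rintro a ⟨ha, hax⟩
      exact mem_cent_pair.mpr ⟨h.comm a ha, mem_cent_singleton.mp hax⟩
  have hzx1 : z ≠ x := Ne.symm hxz
  have hEI : (Q' ⊓ Subgroup.centralizer ({z} : Set G)) ⊓ (Q ⊓ Subgroup.centralizer ({x} : Set G)) = E := by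
    rw [hE]
    exact le_antisymm (fun y hy => ⟨hy.2.1, hy.1.1⟩) fun y hy =>
      ⟨⟨hy.2, mem_cent_singleton.mpr (h.comm y hy.1)⟩, ⟨hy.1, mem_cent_singleton.mpr (h'.comm y hy.2)⟩⟩
  have hER : E ≤ R := by rw [hR, ← hEI]; exact inf_le_left.trans le_sup_left
  have hzE : z ∈ E := hE ▸ ⟨h.mem, hzQ'⟩
  have hxE : x ∈ E := hE ▸ ⟨hx, h'.mem⟩
  have hEel : Cfsg.IsElementaryAbelian 2 E := by
    refine ⟨⟨⟨fun a b => Subtype.ext ?_⟩⟩, fun a ha => ?_⟩
    · obtain ⟨a, ha⟩ := a; obtain ⟨b, hb⟩ := b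
      show a * b = b * a
      rw [hE] at ha hb
      rcases h.commutator_cases ha.1 hb.1 with e | e
      · exact commutatorElement_eq_one_iff_mul_comm.mp e
      · rcases h'.commutator_cases ha.2 hb.2 with e' | e'
        · exact commutatorElement_eq_one_iff_mul_comm.mp e'
        · exact absurd (e.symm.trans e') hzx1
    · rw [hE] at ha
      rw [pow_two]
      rcases h.sq a ha.1 with e | e
      · exact e
      · rcases h'.sq a ha.2 with e' | e'
        · exact e'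
        · exact absurd (e.symm.trans e') hzx1
  -- `X` acts trivially on `E` modulo `V`
  have hgenr : ∀ q ∈ (Q : Set G) ∪ Q', ∀ e ∈ E, q * e * q⁻¹ * e⁻¹ ∈ V ∧ q * e * q⁻¹ ∈ E := by
    intro q hq e he
    have he' := he
    rw [hE] at he'
    rcases hq with hq | hq
    · rcases h.conj_cases hq he'.1 with u | u
      · rw [u, mul_inv_cancel]; exact ⟨one_mem _, he⟩
      · rw [u]
        exact ⟨by rw [h.comm e he'.1, mul_inv_cancel_right]; exact hzV, mul_mem he hzE⟩
    · rcases h'.conj_cases hq he'.2 with u | u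
      · rw [u, mul_inv_cancel]; exact ⟨one_mem _, he⟩
      · rw [u]
        exact ⟨by rw [h'.comm e he'.2, mul_inv_cancel_right]; exact hxV, mul_mem he hxE⟩
  have hall : ∀ y ∈ X, ∀ e ∈ E, y * e * y⁻¹ * e⁻¹ ∈ V ∧ y * e * y⁻¹ ∈ E := by
    intro y hy
    rw [hX, Subgroup.sup_eq_closure] at hy
    induction hy using Subgroup.closure_induction_left with
    | one => intro e he; simp [he]
    | mul_left q hq y _ ih =>
      intro e he
      obtain ⟨h1, h2⟩ := ih e he
      obtain ⟨h3, h4⟩ := hgenr q hq _ h2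
      rw [show q * y * e * (q * y)⁻¹ = q * (y * e * y⁻¹) * q⁻¹ by group]
      refine ⟨?_, h4⟩
      rw [show q * (y * e * y⁻¹) * q⁻¹ * e⁻¹ = q * (y * e * y⁻¹) * q⁻¹ * (y * e * y⁻¹)⁻¹ * (y * e * y⁻¹ * e⁻¹) by group]
      exact mul_mem h3 h1
    | inv_mul_cancel q hq y _ ih =>
      intro e he
      have hq' : q⁻¹ ∈ (Q : Set G) ∪ Q' := by
        rcases hq with hq | hq
        exacts [Or.inl (inv_mem (s := Q) hq), Or.inr (inv_mem (s := Q') hq)]
      obtain ⟨h1, h2⟩ := ih e he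
      obtain ⟨h3, h4⟩ := hgenr _ hq' _ h2
      rw [show q⁻¹ * y * e * (q⁻¹ * y)⁻¹ = q⁻¹ * (y * e * y⁻¹) * q⁻¹⁻¹ by group]
      refine ⟨?_, h4⟩
      rw [show q⁻¹ * (y * e * y⁻¹) * q⁻¹⁻¹ * e⁻¹ = q⁻¹ * (y * e * y⁻¹) * q⁻¹⁻¹ * (y * e * y⁻¹)⁻¹ * (y * e * y⁻¹ * e⁻¹) by group]
      exact mul_mem h3 h1
  have hRX : R ≤ X := by
    rw [hR, hX]; exact sup_le (inf_le_left.trans le_sup_right) (inf_le_left.trans le_sup_left)
  have hsq : ∀ r ∈ R, r * r ∈ E := by
    intro r hr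
    have hBA : Q' ⊓ Subgroup.centralizer ({z} : Set G) ≤
        Subgroup.normalizer ((Q ⊓ Subgroup.centralizer ({x} : Set G) : Subgroup G) : Set G) :=
      fun b hb => mem_normalizer_of_le fun a ha => ⟨h.nor b (mem_cent_singleton.mp hb.2) a ha.1, mem_cent_singleton.mpr
        (((show Commute b x from h'.comm b hb.1).mul_left (mem_cent_singleton.mp ha.2)).mul_left
          (show Commute b x from h'.comm b hb.1).inv_left).eq⟩
    have : r ∈ ((Q' ⊓ Subgroup.centralizer ({z} : Set G) : Subgroup G) : Set G) *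
        ((Q ⊓ Subgroup.centralizer ({x} : Set G) : Subgroup G) : Set G) := by
      rw [← Subgroup.coe_mul_of_left_le_normalizer_right _ _ hBA, ← hR]; exact hr
    obtain ⟨b, ⟨hb, hbz⟩, a, ⟨ha, hax⟩, rfl⟩ := this
    have hbX : b ∈ X := hX ▸ Subgroup.mem_sup_right hb
    have e1 : a * b * a⁻¹ * b⁻¹ ∈ E := by
      rw [hE]
      refine ⟨?_, ?_⟩
      · rw [show a * b * a⁻¹ * b⁻¹ = a * (b * a⁻¹ * b⁻¹) by group]
        exact mul_mem ha (h.nor b (mem_cent_singleton.mp hbz) _ (inv_mem ha))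
      · show a * b * a⁻¹ * b⁻¹ ∈ Q'
        exact mul_mem (h'.nor a (mem_cent_singleton.mp hax) b hb) (inv_mem hb)
    have e2 : a * a ∈ E := by
      rcases h.sq a ha with u | u <;> rw [u]
      exacts [one_mem _, hzE]
    have e3 : b * b ∈ E := by
      rcases h'.sq b hb with u | u <;> rw [u]
      exacts [one_mem _, hxE]
    show b * a * (b * a) ∈ E
    rw [show b * a * (b * a) = b * (a * b * a⁻¹ * b⁻¹) * b⁻¹ * (b * b) * (a * a) by group]
    exact mul_mem (mul_mem (hall b hbX _ e1).2 e3) e2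
  have hcomm : ∀ a ∈ R, ∀ b ∈ R, a * b * a⁻¹ * b⁻¹ ∈ E := by
    intro a ha b hb
    rw [show a * b * a⁻¹ * b⁻¹ = (a * a) * ((a⁻¹ * b) * (a⁻¹ * b)) * (b * b)⁻¹ by group]
    exact mul_mem (mul_mem (hsq a ha) (hsq _ (mul_mem (inv_mem ha) hb))) (inv_mem (hsq b hb))
  have hVZ : ∀ v (hv : v ∈ V), (⟨v, hVR hv⟩ : R) ∈ Subgroup.center ↥R := by
    intro v hv
    refine Subgroup.mem_center_iff.mpr fun r => Subtype.ext ?_
    show (r : G) * v = v * r
    have : (r : G) ∈ Subgroup.centralizer ((Subgroup.closure ({z, x} : Set G) : Subgroup G) : Set G) :=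
      mem_cent_pair.mpr (hRC r r.2)
    rw [← hV] at this
    exact (Subgroup.mem_centralizer_iff.mp this v hv).symm
  have hE2 : ∀ e (he : e ∈ E), (⟨e, hER he⟩ : R) ∈ Subgroup.upperCentralSeries ↥R 2 := by
    intro e he
    rw [Subgroup.mem_upperCentralSeries_succ_iff]
    intro r
    rw [Subgroup.upperCentralSeries_one, ← commutatorElement_inv]
    refine inv_mem ?_
    exact hVZ _ (hall r (hRX r.2) e he).1
  refine ⟨?_, fun e he => ⟨_, hE2 e he, rfl⟩, ?_, hEel,
    fun a ha b hb => ⟨hcomm a ha b hb, by rw [pow_two]; exact hsq a ha⟩, hEI, ?_⟩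
  · refine le_antisymm ?_ fun v hv => ⟨_, hVZ v hv, rfl⟩
    rintro _ ⟨c, hc, rfl⟩
    show (c : G) ∈ V
    have := h.cent_cent hx hxx hxz h'.ne (c := c) fun a ha hax =>
      (congrArg Subtype.val (Subgroup.mem_center_iff.mp hc
        ⟨a, hR ▸ Subgroup.mem_sup_right ⟨ha, mem_cent_singleton.mpr hax⟩⟩)).symm
    rw [hV, closure_pair_eq h.zz hxx hzx]
    exact this
  · refine eq_top_iff.mpr fun r _ => ?_
    rw [Subgroup.mem_upperCentralSeries_succ_iff]
    intro y
    exact hE2 _ (hcomm r r.2 y y.2)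
  · rw [Subgroup.commutator_le]
    intro y hy e he
    exact (hall y hy e he).1

theorem pair_setting (hQ : Cfsg.IsLargeExtraspecial Q)
    (hz : ((Subgroup.center ↥Q).map Q.subtype) = Subgroup.zpowers z) (hz2 : orderOf z = 2) {w : ℕ} (hw : 2 ≤ w)
    (hcard : Nat.card ↥Q = 2 ^ (2 * w + 1)) {g : G} (hgH : g ∉ Subgroup.centralizer ({z} : Set G))
    (hgQ : g * z * g⁻¹ ∈ Q) : ES Q z ∧ g * z * g⁻¹ ≠ z ∧ z ∈ cj g Q := by
  obtain ⟨z₀, h₀, hmem⟩ := ES.of_large hQ.1 hQ.2.1 hQ.2.2.1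
  have : z = z₀ := by
    rcases (hmem z).mp (hz ▸ Subgroup.mem_zpowers z) with e | e
    · rw [e, orderOf_one] at hz2; exact absurd hz2 (by norm_num)
    · exact e
  subst this
  have h8 : 8 < Nat.card Q := by
    rw [hcard]
    calc 8 < 2 ^ 5 := by norm_num
      _ ≤ _ := Nat.pow_le_pow_right (by norm_num) (by omega)
  refine ⟨h₀, fun e => hgH (mem_cent_singleton.mpr (mul_inv_eq_iff_eq_mul.mp e)),
    h₀.symm_mem hgQ fun _ => h₀.exists_pair h8 hgQ (h₀.cj g).zz⟩

end CfsgLargeExtra
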