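/-
Odd order automorphisms of an extraspecial 2-subgroup.
-/
import Cfsg.Agent.Lib.LargeExtra.XR
import Cfsg.Agent.Lib.Coprime
import Cfsg.Agent.Lib.RankFrattini

set_option autoImplicit false

namespace CfsgLargeExtra

open Cfsg
open scoped commutatorElement

/-- A nonabelian group satisfying the conditions of `Ext2` is extraspecial. -/
theorem isExtraspecial_of_ext2 {E : Type*} [Group E] [Finite E] {z : E} (h : CfsgLib.ExtraTwo.Ext2 E z)
    {a b : E} (hab : a * b ≠ b * a) : IsExtraspecial 2 E := by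
  haveI : Fact (Nat.Prime 2) := ⟨Nat.prime_two⟩
  have hz : ∀ S : Subgroup E, z ∈ S → Subgroup.center E ≤ S := by
    intro S hS g hg
    rcases (h.center_iff g).mp hg with rfl | rfl
    exacts [one_mem _, hS]
  have hzc : z ∈ commutator E := by
    rcases h.comm_cases a b with e | e
    · exact absurd (commutatorElement_eq_one_iff_mul_comm.mp e) hab
    · rw [← e, commutator_def]
      exact Subgroup.commutator_mem_commutator (Subgroup.mem_top a) (Subgroup.mem_top b)
  have hc : ∀ a b : E, ⁅a, b⁆ ∈ Subgroup.center E := fun a b => (h.center_iff _).mpr (h.comm_cases a b)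
  have h1 : commutator E = Subgroup.center E := le_antisymm
    (by rw [commutator_def, Subgroup.commutator_le]; exact fun a _ b _ => hc a b) (hz _ hzc)
  refine ⟨⟨h.isPGroup, le_antisymm ?_ ?_, h1⟩, h.card_center⟩
  · exact CfsgLib.RankFrattini.frattini_le_of_elementary h.isPGroup _ hc fun a => by
      rw [pow_two]; exact h.sq_central a
  · rw [← h1]; exact CfsgLib.commutator_le_frattini_pGroup h.isPGroup

variable {G : Type*} [Group G] [Finite G] {Q : Subgroup G} {z : G}

/-- A subgroup of `Q` containing `z` in which only `1` and `z` are central is `⟨z⟩` or extraspecial. -/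
theorem ES.extra_of (h : ES Q z) {K : Subgroup G} (hK : K ≤ Q) (hzK : z ∈ K)
    (hc : ∀ c ∈ K, (∀ k ∈ K, c * k = k * c) → c = 1 ∨ c = z) :
    (∀ c ∈ K, c = 1 ∨ c = z) ∨ IsExtraspecial 2 ↥K := by
  by_cases hab : ∀ c ∈ K, ∀ k ∈ K, c * k = k * c
  · exact Or.inl fun c hcK => hc c hcK (hab c hcK)
  right
  push Not at hab
  obtain ⟨a, ha, b, hb, hne⟩ := hab
  refine isExtraspecial_of_ext2 (z := ⟨z, hzK⟩) ⟨fun e => h.ne (congrArg Subtype.val e), fun q => ⟨fun hq => ?_, ?_⟩,
    fun q => ?_⟩ (a := ⟨a, ha⟩) (b := ⟨b, hb⟩) fun e => hne (congrArg Subtype.val e)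
  · rcases hc q q.2 fun k hk => (congrArg Subtype.val (Subgroup.mem_center_iff.mp hq ⟨k, hk⟩)).symm with e | e
    · exact Or.inl (Subtype.ext e)
    · exact Or.inr (Subtype.ext e)
  · rintro (rfl | rfl)
    · exact one_mem _
    · exact Subgroup.mem_center_iff.mpr fun r => Subtype.ext (h.comm r (hK r.2))
  · rcases h.sq q (hK q.2) with e | e
    · exact Or.inl (Subtype.ext e)
    · exact Or.inr (Subtype.ext e)

theorem odd_decomp (hQ : Cfsg.IsLargeExtraspecial Q) (A : Subgroup G) (hA : A ≤ Subgroup.normalizer (Q : Set G))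
    (hAodd : Odd (Nat.card ↥A)) (hA1 : A ≠ ⊥) :
    (Q ⊓ Subgroup.centralizer (A : Set G)) ⊔ ⁅Q, A⁆ = Q ∧
      (∀ x ∈ Q ⊓ Subgroup.centralizer (A : Set G), ∀ y ∈ ⁅Q, A⁆, x * y = y * x) ∧
      Cfsg.IsExtraspecial 2 ↥⁅Q, A⁆ ∧
      (Q ⊓ Subgroup.centralizer (A : Set G) = ((Subgroup.center ↥Q).map Q.subtype) ∨
        Cfsg.IsExtraspecial 2 ↥(Q ⊓ Subgroup.centralizer (A : Set G))) := by
  haveI : Fact (Nat.Prime 2) := ⟨Nat.prime_two⟩
  obtain ⟨z, h, hmem⟩ := ES.of_large hQ.1 hQ.2.1 hQ.2.2.1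
  have h2 : IsPGroup 2 Q := h.toExt.isPGroup
  have hcop : (Nat.card A).Coprime (Nat.card Q) := by
    obtain ⟨k, hk⟩ := h2.exists_card_eq
    rw [hk]
    exact Nat.Coprime.pow_right k (Nat.coprime_two_right.mpr hAodd)
  have hsolv : Group.IsSolvable A ∨ Group.IsSolvable Q := Or.inr (by
    haveI := h2.isNilpotent
    infer_instance)
  have hsup := CfsgLib.coprime_commutator_sup hA hcop hsolv
  set K := ⁅Q, A⁆ with hKdef
  set C := Q ⊓ Subgroup.centralizer (A : Set G) with hCdef
  have haz : ∀ a ∈ A, a * z = z * a := by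
    intro a ha
    have hm : a * z * a⁻¹ ∈ Q := (Subgroup.mem_normalizer_iff.mp (hA ha) z).mp h.mem
    rcases h.cen (a * z * a⁻¹) fun q hq => by
        have hq' : a⁻¹ * q * a ∈ Q := by
          simpa using (Subgroup.mem_normalizer_iff.mp (inv_mem (hA ha)) q).mp hq
        have := congrArg (fun y => a * y * a⁻¹) (h.comm _ hq').symm
        simpa [mul_assoc] using this with e | e
    · exact absurd (conj_eq_one_iff.mp e) h.ne
    · exact mul_inv_eq_iff_eq_mul.mp e
  have hzC : z ∈ C := ⟨h.mem, Subgroup.mem_centralizer_iff.mpr fun a ha => haz a ha⟩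
  have hKQ : K ≤ Q := CfsgLib.commutator_le_of_le_normalizer hA
  have hcomm : ⁅K, C⁆ = ⊥ := by
    refine Subgroup.commutator_commutator_eq_bot_of_rotate ?_ ?_
    · have : ⁅A, C⁆ = ⊥ := Subgroup.commutator_eq_bot_iff_le_centralizer.mpr fun a ha =>
        Subgroup.mem_centralizer_iff.mpr fun c hc => (Subgroup.mem_centralizer_iff.mp hc.2 a ha).symm
      rw [this, Subgroup.commutator_bot_left]
    · refine Subgroup.commutator_eq_bot_iff_le_centralizer.mpr ?_
      rw [Subgroup.commutator_le]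
      intro c hc q hq
      rcases h.commutator_cases hc.1 hq with e | e <;> rw [e]
      · exact one_mem _
      · exact hzC.2
  have hcomm' : ∀ x ∈ C, ∀ y ∈ K, x * y = y * x := fun x hx y hy =>
    Subgroup.mem_centralizer_iff.mp (Subgroup.commutator_eq_bot_iff_le_centralizer.mp hcomm hy) x hx
  have hcenQ : ∀ c : G, (∀ k ∈ K, c * k = k * c) → (∀ k ∈ C, c * k = k * c) → c = 1 ∨ c = z := by
    intro c hcK hcC
    refine h.cen c fun q hq => ?_
    obtain ⟨k, hk, d, hd, rfl⟩ := CfsgLib.coprime_decomp hA hcop hsolv hq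
    exact ((show Commute c k from hcK k hk).mul_right (hcC d hd)).eq
  have hKne : ∃ k ∈ K, k ≠ 1 ∧ k ≠ z := by
    by_contra hall
    push Not at hall
    refine hA1 ((Subgroup.eq_bot_iff_forall A).mpr fun a ha => ?_)
    rcases hcenQ a (fun k hk => by
        by_cases hk1 : k = 1
        · simp [hk1]
        · rw [hall k hk hk1]; exact haz a ha)
      (fun d hd => Subgroup.mem_centralizer_iff.mp hd.2 a ha) with e | e
    · exact e
    · exfalso
      have h1 := orderOf_dvd_natCard (⟨a, ha⟩ : A)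
      rw [Subgroup.orderOf_mk, e, orderOf_eq_prime (p := 2) (by rw [pow_two, h.zz]) h.ne] at h1
      exact Nat.not_even_iff_odd.mpr hAodd (even_iff_two_dvd.mpr h1)
  have hzK : z ∈ K := by
    obtain ⟨k, hk, hk1, -⟩ := hKne
    haveI : Nontrivial K := ⟨⟨k, hk⟩, 1, fun e => hk1 (congrArg Subtype.val e)⟩
    haveI := (h2.to_le hKQ).center_nontrivial
    obtain ⟨c, hc⟩ := exists_ne (1 : Subgroup.center K)
    rcases hcenQ ((c : K) : G) (fun y hy => (congrArg Subtype.val (Subgroup.mem_center_iff.mp c.2 ⟨y, hy⟩)).symm)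
      (fun d hd => (hcomm' d hd _ (c : K).2).symm) with e | e
    · exact absurd (Subtype.ext (Subtype.ext e)) hc
    · exact e ▸ (c : K).2
  have hKc : ∀ c ∈ K, (∀ k ∈ K, c * k = k * c) → c = 1 ∨ c = z := fun c hc hck =>
    hcenQ c hck fun d hd => (hcomm' d hd c hc).symm
  have hCc : ∀ c ∈ C, (∀ k ∈ C, c * k = k * c) → c = 1 ∨ c = z := fun c hc hck =>
    hcenQ c (fun k hk => hcomm' c hc k hk) hck
  refine ⟨?_, hcomm', ?_, ?_⟩
  · rw [sup_comm]; exact hsup
  · rcases h.extra_of hKQ hzK hKc with e | e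
    · obtain ⟨k, hk, hk1, hkz⟩ := hKne
      exact absurd (e k hk) (by tauto)
    · exact e
  · rcases h.extra_of inf_le_left hzC hCc with e | e
    · left
      ext y
      rw [hmem]
      refine ⟨e y, ?_⟩
      rintro (rfl | rfl)
      exacts [one_mem _, hzC]
    · exact Or.inr e

end CfsgLargeExtra
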