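/-
Large extraspecial subgroups in sections of centralizers.
-/
import Cfsg.Agent.Lib.LargeExtra.Four
import Cfsg.Agent.Lib.LargeExtra.Odd
import Cfsg.Agent.Lib.Components
import Cfsg.Agent.Lib.Basic

set_option autoImplicit false

namespace CfsgLargeExtra

open Cfsg
open scoped commutatorElement

/-- Largeness from the inner structure and a second conjugate of the central involution. -/
theorem large_of_ES {H : Type*} [Group H] [Finite H] {R : Subgroup H} {w : H} (h : ES R w)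
    (hab : ∃ a ∈ R, ∃ b ∈ R, a * b ≠ b * a) (h8 : 8 < Nat.card R) (k : H) (hk : k * w * k⁻¹ ∈ R)
    (hkw : k * w * k⁻¹ ≠ w) : IsLargeExtraspecial R := by
  obtain ⟨a, ha, b, hb, hne⟩ := hab
  have hE : IsExtraspecial 2 R := isExtraspecial_of_ext2 h.toExt (a := ⟨a, ha⟩) (b := ⟨b, hb⟩)
    fun e => hne (congrArg Subtype.val e)
  have hmem : ∀ y, y ∈ (Subgroup.center R).map R.subtype ↔ y = 1 ∨ y = w := by
    intro y
    constructor
    · rintro ⟨c, hc, rfl⟩
      rcases (h.toExt.center_iff c).mp hc with rfl | rfl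
      · exact Or.inl rfl
      · exact Or.inr rfl
    · rintro (rfl | rfl)
      · exact one_mem _
      · exact ⟨⟨_, h.mem⟩, (h.toExt.center_iff _).mpr (Or.inr rfl), rfl⟩
  have hL2 : Subgroup.centralizer (R : Set H) = (Subgroup.center R).map R.subtype := by
    refine le_antisymm (fun c hc => (hmem c).mpr (h.cen c fun q hq => (Subgroup.mem_centralizer_iff.mp hc q hq).symm))
      (fun c hc => Subgroup.mem_centralizer_iff.mpr fun q hq => ?_)
    rcases (hmem c).mp hc with rfl | rfl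
    · simp
    · exact h.comm q hq
  have hL3 : Subgroup.centralizer (((Subgroup.center R).map R.subtype) : Set H) ≤ Subgroup.normalizer (R : Set H) := by
    intro c hc
    have hcz : c * w = w * c := (Subgroup.mem_centralizer_iff.mp hc w ((hmem w).mpr (Or.inr rfl))).symm
    refine Subgroup.mem_normalizer_iff.mpr fun q => ⟨h.nor c hcz q, fun hq => ?_⟩
    have := h.nor c⁻¹ (by rw [eq_mul_inv_iff_mul_eq, mul_assoc, ← hcz, ← mul_assoc, inv_mul_cancel, one_mul]) _ hq
    simpa [mul_assoc] using this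
  refine (four_and_large hE hL2 hL3 h8 k (fun hn => hkw ?_) ?_).2.2
  · rcases (hmem _).mp ((Subgroup.mem_normalizer_iff.mp hn w).mp ((hmem w).mpr (Or.inr rfl))) with e | e
    · exact absurd (conj_eq_one_iff.mp e) h.ne
    · exact e
  · rintro _ ⟨y, hy, rfl⟩
    rcases (hmem y).mp hy with rfl | rfl
    · simp
    · exact hk

variable {G : Type*} [Group G] [Finite G]

theorem ES.of_fitting (z : G) (hz : orderOf z = 2) {C : Subgroup G} (hCdef : C = Subgroup.centralizer ({z} : Set G))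
    (Q : Subgroup G) (hF : (Cfsg.generalizedFittingSubgroup ↥C).map C.subtype = Q)
    (hQ : Cfsg.IsExtraspecial 2 ↥Q) : ES Q z ∧ (∀ y, y ∈ (Subgroup.center Q).map Q.subtype ↔ y = 1 ∨ y = z) := by
  have memC : ∀ {c : G}, c ∈ C ↔ c * z = z * c := fun {c} => by rw [hCdef]; exact Subgroup.mem_centralizer_singleton_iff
  have hz1 : z ≠ 1 := fun e => by rw [e, orderOf_one] at hz; omega
  have hzC : z ∈ C := memC.mpr rfl
  have hQC : ∀ q ∈ Q, q * z = z * q := fun q hq => by
    rw [← hF] at hq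
    obtain ⟨q, -, rfl⟩ := hq
    exact memC.mp q.2
  have hzQ : z ∈ Q := by
    rw [← hF]
    exact ⟨⟨z, hzC⟩, CfsgLib.centralizer_generalizedFitting_le (Subgroup.mem_centralizer_iff.mpr
      fun q _ => Subtype.ext (memC.mp q.2)), rfl⟩
  have hcQ : Subgroup.centralizer (Q : Set G) ≤ Q := by
    intro c hc
    have hcz : c * z = z * c := (Subgroup.mem_centralizer_iff.mp hc z hzQ).symm
    rw [← hF]
    exact ⟨⟨c, memC.mpr hcz⟩, CfsgLib.centralizer_generalizedFitting_le (Subgroup.mem_centralizer_iff.mpr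
      fun q hq => Subtype.ext (Subgroup.mem_centralizer_iff.mp hc q (hF ▸ ⟨q, hq, rfl⟩))), rfl⟩
  have hnor : ∀ c : G, c * z = z * c → ∀ q ∈ Q, c * q * c⁻¹ ∈ Q := by
    intro c hc q hq
    rw [← hF] at hq ⊢
    obtain ⟨q, hq, rfl⟩ := hq
    haveI : (Cfsg.generalizedFittingSubgroup ↥C).Normal := inferInstance
    exact ⟨⟨c, memC.mpr hc⟩ * q * ⟨c, memC.mpr hc⟩⁻¹, Subgroup.Normal.conj_mem ‹_› q hq _, rfl⟩
  obtain ⟨w, hw1, hwQ, hwmem⟩ := CfsgThreeTrans.center_map_eq Q hQ.2
  have hzw : z = w := by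
    rcases (hwmem z).mp ⟨⟨z, hzQ⟩, Subgroup.mem_center_iff.mpr fun q => Subtype.ext (hQC q q.2), rfl⟩ with e | e
    · exact absurd e hz1
    · exact e
  subst hzw
  exact ⟨ES.of_extraspecial hQ hwmem hz1 hcQ hnor, hwmem⟩

/-- Two transpositions of a four group compose to a swap. -/
theorem swap_elem {z y a b : G} (hzy : z * y = y * z) (hz : z * z = 1) (haz : a * z = z * a) (ha : a * y * a⁻¹ = y * z)
    (hb : b * z * b⁻¹ = z * y) : (a⁻¹ * b) * z * (a⁻¹ * b)⁻¹ = y := by
  have h1 : a⁻¹ * y * a = y * z := by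
    have h2 : a⁻¹ * z * a = z := by rw [mul_assoc, ← haz, inv_mul_cancel_left]
    calc a⁻¹ * y * a = a⁻¹ * (y * z) * a * (a⁻¹ * z * a) := by
          calc a⁻¹ * y * a = a⁻¹ * (y * (z * z)) * a := by rw [hz, mul_one]
            _ = _ := by group
      _ = a⁻¹ * (a * y * a⁻¹) * a * z := by rw [h2, ha]
      _ = y * z := by group
  calc (a⁻¹ * b) * z * (a⁻¹ * b)⁻¹ = a⁻¹ * (b * z * b⁻¹) * a := by group
    _ = (a⁻¹ * z * a) * (a⁻¹ * y * a) := by rw [hb]; group
    _ = z * (y * z) := by rw [h1, mul_assoc a⁻¹ z a, ← haz, inv_mul_cancel_left]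
    _ = y := by rw [← mul_assoc, hzy, mul_assoc, hz, mul_one]

theorem section_involution (z : G) (hz : orderOf z = 2) (Q : Subgroup G)
    (hF : (Cfsg.generalizedFittingSubgroup ↥(Subgroup.centralizer ({z} : Set G))).map
      (Subgroup.centralizer ({z} : Set G)).subtype = Q)
    (hQ : Cfsg.IsExtraspecial 2 ↥Q) (h128 : 128 ≤ Nat.card ↥Q) (g : G) (hgQ : g * z * g⁻¹ ∈ Q)
    (hgZ : g * z * g⁻¹ ∉ ((Subgroup.center ↥Q).map Q.subtype)) (t : G) (ht : orderOf t = 2)
    (htQ : t ∈ Q ⊓ (Q).map (MulAut.conj g).toMonoidHom) (htz : ¬ IsConj z t) (P : Subgroup G)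
    (hP : P = Q ⊓ Subgroup.centralizer ({t} : Set G))
    (hCP : ∀ c ∈ Subgroup.centralizer ({z} : Set G),
      (∀ x ∈ P, ∃ y ∈ Subgroup.closure ({t, z} : Set G), c * x * c⁻¹ = x * y) ↔ c ∈ Q) {D : Subgroup G}
    (hD : D = Subgroup.centralizer ({t} : Set G)) [hn : ((Subgroup.zpowers t).subgroupOf D).Normal] :
    Cfsg.IsLargeExtraspecial ((P.subgroupOf D).map (QuotientGroup.mk' ((Subgroup.zpowers t).subgroupOf D))) ∧
      ∃ x ∈ P ⊔ ((Q).map (MulAut.conj g).toMonoidHom ⊓ D), x * (g * z * g⁻¹) * x⁻¹ = z := by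
  classical
  obtain ⟨h, hmem⟩ := ES.of_fitting z hz rfl Q hF hQ
  set y := g * z * g⁻¹ with hy
  have h' : ES (cj g Q) y := h.cj g
  have memD : ∀ {c : G}, c ∈ D ↔ c * t = t * c := fun {c} => by rw [hD]; exact Subgroup.mem_centralizer_singleton_iff
  have htt : t * t = 1 := by rw [← sq, ← ht, pow_orderOf_eq_one]
  have ht1 : t ≠ 1 := fun e => by rw [e, orderOf_one] at ht; omega
  have htz' : t ≠ z := fun e => htz (e ▸ IsConj.refl z)
  have hty : t ≠ y := fun e => htz (isConj_iff.mpr ⟨g, e.symm⟩)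
  have memP : ∀ {c : G}, c ∈ P ↔ c ∈ Q ∧ c * t = t * c := fun {c} => by
    rw [hP, Subgroup.mem_inf, Subgroup.mem_centralizer_singleton_iff]
  have htQ' : t ∈ Q := htQ.1
  have hzt : z * t = t * z := (h.comm t htQ').symm
  have hyt : y * t = t * y := (h'.comm t htQ.2).symm
  obtain ⟨q₀, hq₀, hq₀z, hq₀t⟩ := h.swap htQ' htz' ht1
  have hzt' : ¬ IsConj z (z * t) := fun e => htz (e.trans
    (isConj_iff.mpr ⟨q₀⁻¹, by rw [inv_inv, hzt, ← hq₀t]; group⟩))
  have hyz : y ≠ z := fun e => hgZ ((hmem _).mpr (Or.inr e))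
  have hyt' : y ≠ z * t := fun e => hzt' (e ▸ isConj_iff.mpr ⟨g, rfl⟩)
  have hzy : z * y = y * z := (h.comm y hgQ).symm
  -- the element conjugating `z` to `y`
  obtain ⟨a, ha, hay⟩ : ∃ a ∈ P, a * y * a⁻¹ = y * z := by
    by_contra hno
    push Not at hno
    rcases h.mem_four htQ' htt hgQ (fun p hp hpt =>
      (mul_inv_eq_iff_eq_mul.mp ((h.conj_cases hp hgQ).resolve_right (hno p (memP.mpr ⟨hp, hpt⟩)))).symm) with
      e | e | e | e
    · exact h'.ne e
    · exact hyz e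
    · exact hty e.symm
    · exact hyt' e
  have h8 : 8 < Nat.card Q := by omega
  have hzQ' : z ∈ cj g Q := h.symm_mem hgQ fun _ => h.exists_pair h8 hgQ h'.zz
  obtain ⟨b, hb, hbz⟩ : ∃ b, (b ∈ cj g Q ∧ b * t = t * b) ∧ b * z * b⁻¹ = z * y := by
    by_contra hno
    push Not at hno
    rcases h'.mem_four htQ.2 htt hzQ' (fun p hp hpt =>
      (mul_inv_eq_iff_eq_mul.mp ((h'.conj_cases hp hzQ').resolve_right (hno p ⟨hp, hpt⟩))).symm) with e | e | e | e
    · exact h.ne e
    · exact hyz e.symm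
    · exact htz' e.symm
    · apply hyt'
      rw [e, mul_assoc, htt, mul_one]
  have haQ := (memP.mp ha).1
  have hkz : (a⁻¹ * b) * z * (a⁻¹ * b)⁻¹ = y := swap_elem hzy h.zz (h.comm a haQ) hay hbz
  have hbD : b ∈ D := memD.mpr hb.2
  have hPD : P ≤ D := fun p hp => memD.mpr (memP.mp hp).2
  refine ⟨?_, (a⁻¹ * b)⁻¹, Subgroup.inv_mem _ (Subgroup.mul_mem _ (Subgroup.mem_sup_left (inv_mem ha))
    (Subgroup.mem_sup_right ⟨hb.1, hbD⟩)), by rw [← hkz]; group⟩
  set N := (Subgroup.zpowers t).subgroupOf D with hN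
  set π := QuotientGroup.mk' N with hπ
  set Rb := (P.subgroupOf D).map π with hRb
  have htpow : ∀ u ∈ Subgroup.zpowers t, u = 1 ∨ u = t := by
    intro u hu
    obtain ⟨k, rfl⟩ := Subgroup.mem_zpowers_iff.mp hu
    rcases Int.even_or_odd k with ⟨j, rfl⟩ | ⟨j, rfl⟩
    · left; rw [← two_mul, zpow_mul, zpow_two, htt, one_zpow]
    · right; rw [zpow_add, zpow_mul, zpow_two, htt, one_zpow, one_mul, zpow_one]
  have hπeq : ∀ c d : D, π c = π d ↔ (c : G) = d ∨ (c : G) = (d : G) * t := by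
    intro c d
    rw [hπ, QuotientGroup.mk'_eq_mk']
    constructor
    · rintro ⟨u, hu, rfl⟩
      rcases htpow _ (Subgroup.mem_subgroupOf.mp hu) with e | e
      · left; push_cast; rw [e, mul_one]
      · right; push_cast
        rw [e, mul_assoc, htt, mul_one]
    · rintro (e | e)
      · exact ⟨1, one_mem _, by rw [mul_one]; exact Subtype.ext e⟩
      · exact ⟨⟨t, memD.mpr rfl⟩, Subgroup.mem_subgroupOf.mpr (Subgroup.mem_zpowers t),
          Subtype.ext (by push_cast; rw [e, mul_assoc, htt, mul_one])⟩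
  have hzP : z ∈ P := memP.mpr ⟨h.mem, hzt⟩
  let z' : D := ⟨z, hPD hzP⟩
  have memRb : ∀ {p : G} (hp : p ∈ P), π ⟨p, hPD hp⟩ ∈ Rb := fun {p} hp => ⟨⟨p, hPD hp⟩, hp, rfl⟩
  have hCz : ∀ c : D, π c * π z' = π z' * π c → (c : G) * z = z * c := by
    intro c e
    rw [← map_mul, ← map_mul, hπeq] at e
    rcases e with e | e
    · exact e
    · refine absurd (isConj_iff.mpr ⟨(c : G), ?_⟩) hzt'
      change (c : G) * z = z * c * t at e
      rw [e, mul_assoc z, memD.mp c.2, ← mul_assoc, mul_inv_cancel_right]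
  have hES : ES Rb (π z') := by
    refine ⟨memRb hzP, fun e => ?_, ?_, ?_, ?_, ?_⟩
    · rw [← map_one π, hπeq] at e
      change z = 1 ∨ z = 1 * t at e
      rw [one_mul] at e
      exact e.elim h.ne (fun e => htz' e.symm)
    · rintro _ ⟨p, hp, rfl⟩
      rw [← map_mul, ← map_mul]
      exact congrArg π (Subtype.ext (h.comm p (memP.mp hp).1))
    · rintro _ ⟨p, hp, rfl⟩
      rw [← map_mul]
      rcases h.sq p (memP.mp hp).1 with e | e
      · exact Or.inl (by rw [show p * p = 1 from Subtype.ext e, map_one])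
      · exact Or.inr (congrArg π (Subtype.ext e))
    · intro cb hcb
      obtain ⟨c, rfl⟩ := QuotientGroup.mk'_surjective N cb
      have hcz := hCz c (hcb _ (memRb hzP))
      have hcQ : (c : G) ∈ Q := (hCP c (Subgroup.mem_centralizer_singleton_iff.mpr hcz)).mp fun p hp => by
        have e := hcb _ (memRb hp)
        rw [← hπ, ← map_mul, ← map_mul, hπeq] at e
        rcases e with e | e
        · refine ⟨1, one_mem _, ?_⟩
          change (c : G) * p = p * c at e
          rw [e, mul_inv_cancel_right, mul_one]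
        · refine ⟨t, Subgroup.subset_closure (by simp), ?_⟩
          change (c : G) * p = p * c * t at e
          rw [e, mul_assoc p, memD.mp c.2, ← mul_assoc, mul_inv_cancel_right]
      rcases h.mem_four htQ' htt hcQ (fun p hp hpt => by
        have e := hcb _ (memRb (memP.mpr ⟨hp, hpt⟩))
        rw [← hπ, ← map_mul, ← map_mul, hπeq] at e
        rcases e with e | e
        · exact e
        · exfalso
          change (c : G) * p = p * c * t at e
          rcases h.conj_cases hcQ hp with e' | e' <;> rw [mul_inv_eq_iff_eq_mul] at e' <;> rw [e'] at e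
          · exact ht1 (mul_eq_left.mp e.symm)
          · rw [mul_assoc p, ← h.comm _ hcQ, ← mul_assoc] at e
            exact htz' (mul_left_cancel e).symm) with e | e | e | e
      · left; rw [← hπ, ← map_one π, hπeq]; exact Or.inl e
      · right; rw [← hπ, hπeq]; exact Or.inl e
      · left; rw [← hπ, ← map_one π, hπeq]; right; show (c : G) = 1 * t; rw [one_mul, e]
      · right; rw [← hπ, hπeq]; exact Or.inr e
    · intro cb hcb q hq
      obtain ⟨c, rfl⟩ := QuotientGroup.mk'_surjective N cb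
      obtain ⟨p, hp, rfl⟩ := hq
      have hcz := hCz c hcb
      rw [← hπ, ← map_inv, ← map_mul, ← map_mul]
      refine ⟨_, Subgroup.mem_subgroupOf.mpr (memP.mpr ⟨?_, memD.mp (c * p * c⁻¹).2⟩), rfl⟩
      exact h.nor c hcz _ (memP.mp hp).1
  obtain ⟨p, hp, p', hp', hpt, hpt', hne⟩ := h.exists_pair h8 htQ' htt
  have hcard : 8 < Nat.card Rb := by
    have hQP : Nat.card Q ≤ Nat.card P * 2 := by
      let f : Q → P × Bool := fun q => if hq : (q : G) * t = t * q then (⟨q, memP.mpr ⟨q.2, hq⟩⟩, false)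
        else (⟨q₀⁻¹ * q, memP.mpr ⟨mul_mem (inv_mem hq₀) q.2, by
          have e1 := (h.conj_cases q.2 htQ').resolve_left fun e => hq (mul_inv_eq_iff_eq_mul.mp e)
          have e2 : (q₀⁻¹ * (q : G)) * t * (q₀⁻¹ * (q : G))⁻¹ = t := by
            calc (q₀⁻¹ * (q : G)) * t * (q₀⁻¹ * (q : G))⁻¹ = q₀⁻¹ * ((q : G) * t * (q : G)⁻¹) * q₀ := by group
              _ = q₀⁻¹ * (q₀ * t * q₀⁻¹) * q₀ := by rw [e1, hq₀t]
              _ = t := by group
          exact mul_inv_eq_iff_eq_mul.mp e2⟩⟩, true)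
      have := Nat.card_le_card_of_injective f (fun q q' e => by
        simp only [f] at e
        split_ifs at e with h1 h2 h2
        · exact Subtype.ext (congrArg (fun u : P × Bool => (u.1 : G)) e)
        · exact absurd (congrArg Prod.snd e) (by simp)
        · exact absurd (congrArg Prod.snd e) (by simp)
        · exact Subtype.ext (mul_left_cancel (congrArg (fun u : P × Bool => (u.1 : G)) e)))
      simpa [Nat.card_prod] using this
    have hPR : Nat.card P ≤ Nat.card Rb * 2 := by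
      have hfib : ∀ u : Rb, ∃ p : P, π ⟨p, hPD p.2⟩ = u := by
        rintro ⟨_, p, hp, rfl⟩; exact ⟨⟨p, hp⟩, rfl⟩
      choose s hs using hfib
      let f : P → Rb × Bool := fun p =>
        (⟨_, memRb p.2⟩, decide ((p : G) = (s ⟨_, memRb p.2⟩ : G)))
      have := Nat.card_le_card_of_injective f (fun p p' e => by
        have e1 : (⟨_, memRb p.2⟩ : Rb) = ⟨_, memRb p'.2⟩ := congrArg Prod.fst e
        have e2 : decide ((p : G) = (s ⟨_, memRb p.2⟩ : G)) = decide ((p' : G) = (s ⟨_, memRb p'.2⟩ : G)) := congrArg Prod.snd e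
        rw [← e1, decide_eq_decide] at e2
        apply Subtype.ext
        by_cases hb : (p : G) = (s ⟨_, memRb p.2⟩ : G)
        · rw [hb, ← e2.mp hb]
        · have h1 := (hπeq ⟨p, hPD p.2⟩ _).mp (hs ⟨_, memRb p.2⟩).symm
          have h2 := (hπeq ⟨p', hPD p'.2⟩ _).mp ((hs ⟨_, memRb p.2⟩).trans (congrArg Subtype.val e1)).symm
          rw [h1.resolve_left hb, (h2.resolve_left (fun hh => hb (e2.mpr hh)))])
      simpa [Nat.card_prod] using this
    omega
  refine large_of_ES hES ⟨_, memRb (memP.mpr ⟨hp, hpt⟩), _, memRb (memP.mpr ⟨hp', hpt'⟩), fun e => ?_⟩ hcard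
    (π ⟨a⁻¹ * b, mul_mem (inv_mem (hPD ha)) hbD⟩) ?_ ?_
  · rw [← map_mul, ← map_mul, hπeq] at e
    change p * p' = p' * p ∨ p * p' = p' * p * t at e
    rcases e with e | e
    · exact hne e
    · rcases h.conj_cases hp hp' with e' | e' <;> rw [mul_inv_eq_iff_eq_mul] at e' <;> rw [e'] at e
      · exact ht1 (mul_eq_left.mp e.symm)
      · rw [mul_assoc p', ← h.comm _ hp, ← mul_assoc] at e
        exact htz' (mul_left_cancel e).symm
  · rw [← map_inv, ← map_mul, ← map_mul]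
    exact ⟨_, Subgroup.mem_subgroupOf.mpr (show (a⁻¹ * b) * z * (a⁻¹ * b)⁻¹ ∈ P by
      rw [hkz]; exact memP.mpr ⟨hgQ, hyt⟩), rfl⟩
  · intro e
    rw [← map_inv, ← map_mul, ← map_mul, hπeq] at e
    change (a⁻¹ * b) * z * (a⁻¹ * b)⁻¹ = z ∨ (a⁻¹ * b) * z * (a⁻¹ * b)⁻¹ = z * t at e
    rw [hkz] at e
    exact e.elim hyz hyt'

theorem section_odd (z : G) (hz : orderOf z = 2) (Q : Subgroup G)
    (hF : (Cfsg.generalizedFittingSubgroup ↥(Subgroup.centralizer ({z} : Set G))).map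
      (Subgroup.centralizer ({z} : Set G)).subtype = Q)
    (hQ : Cfsg.IsExtraspecial 2 ↥Q) (A : Subgroup G) (hA : A ≤ Subgroup.centralizer ({z} : Set G))
    (hAodd : Odd (Nat.card ↥A)) (R : Subgroup G) (hR : R = Q ⊓ Subgroup.centralizer (A : Set G))
    (hR32 : 32 ≤ Nat.card ↥R) {X : Subgroup G} (hX : X = Subgroup.centralizer ((A ⊔ R : Subgroup G) : Set G))
    (hO : (Cfsg.oddCore ↥X).map X.subtype ≤ A)
    (h4 : ¬ 4 ∣ Nat.card ↥X) (g : G) (hgR : g * z * g⁻¹ ∈ R)
    (hgZ : g * z * g⁻¹ ∉ ((Subgroup.center ↥Q).map Q.subtype)) (M : Subgroup G)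
    (hM : M = Subgroup.centralizer (A : Set G) ⊔ A) [hn : (A.subgroupOf M).Normal] :
    (M ⊓ Subgroup.centralizer ((R ⊔ A : Subgroup G) : Set G)) ⊔ A = A ⊔ ((Subgroup.center ↥Q).map Q.subtype) ∧
      Cfsg.IsLargeExtraspecial ((R.subgroupOf M).map (QuotientGroup.mk' (A.subgroupOf M))) ∧
      ∃ x ∈ R ⊔ ((Q).map (MulAut.conj g).toMonoidHom ⊓ Subgroup.centralizer (A : Set G)),
        x * (g * z * g⁻¹) * x⁻¹ = z := by
  classical
  haveI : Fact (Nat.Prime 2) := ⟨Nat.prime_two⟩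
  obtain ⟨h, hmem⟩ := ES.of_fitting z hz rfl Q hF hQ
  set y := g * z * g⁻¹ with hy
  have h' : ES (cj g Q) y := h.cj g
  have memR : ∀ {c : G}, c ∈ R ↔ c ∈ Q ∧ ∀ a ∈ A, a * c = c * a := fun {c} => by
    rw [hR, Subgroup.mem_inf, Subgroup.mem_centralizer_iff]; rfl
  have hAz : ∀ a ∈ A, a * z = z * a := fun a ha => Subgroup.mem_centralizer_singleton_iff.mp (hA ha)
  have hzR : z ∈ R := memR.mpr ⟨h.mem, hAz⟩
  have memX : ∀ {c : G}, (∀ a ∈ A, a * c = c * a) → (∀ r ∈ R, r * c = c * r) → c ∈ X := by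
    intro c hcA hcR
    rw [hX, Subgroup.mem_centralizer_iff]
    intro u hu
    rw [SetLike.mem_coe, ← Subgroup.closure_eq A, ← Subgroup.closure_eq R, ← Subgroup.closure_union] at hu
    induction hu using Subgroup.closure_induction with
    | mem x hx => exact hx.elim (hcA x) (hcR x)
    | one => simp
    | mul p q _ _ hp hq => exact (Commute.mul_left hp hq).eq
    | inv p _ hp => exact (Commute.inv_left hp).eq
  have ofX : ∀ {c : G}, c ∈ X → (∀ a ∈ A, a * c = c * a) ∧ ∀ r ∈ R, r * c = c * r := fun {c} hc => by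
    rw [hX, Subgroup.mem_centralizer_iff] at hc
    exact ⟨fun a ha => hc a (Subgroup.mem_sup_left ha), fun r hr => hc r (Subgroup.mem_sup_right hr)⟩
  have hzX : z ∈ X := memX hAz fun r hr => h.comm r (memR.mp hr).1
  let zX : X := ⟨z, hzX⟩
  have hzcen : zX ∈ Subgroup.center X := Subgroup.mem_center_iff.mpr fun c =>
    Subtype.ext ((ofX c.2).2 z hzR).symm
  have hzord : orderOf zX = 2 := by rw [← Subgroup.orderOf_coe]; exact hz
  -- the Sylow subgroup `⟨z⟩` of `X` and its complement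
  have h2X : 2 ∣ Nat.card X := hzord ▸ orderOf_dvd_natCard zX
  have hfac : (Nat.card X).factorization 2 = 1 := by
    have h1 := (Nat.Prime.pow_dvd_iff_le_factorization (p := 2) (k := 1) Nat.prime_two Nat.card_pos.ne').mp (by simpa using h2X)
    have h2 := mt (Nat.Prime.pow_dvd_iff_le_factorization (p := 2) (k := 2) Nat.prime_two (Nat.card_pos (α := X)).ne').mpr (by simpa using h4)
    omega
  let S : Sylow 2 X := Sylow.ofCard (Subgroup.zpowers zX) (by rw [Nat.card_zpowers, hzord, hfac, pow_one])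
  have hS : (S : Subgroup X) = Subgroup.zpowers zX := rfl
  have hSn : Subgroup.normalizer ((S : Subgroup X) : Set X) ≤ Subgroup.centralizer ((S : Subgroup X) : Set X) := by
    intro c _
    refine Subgroup.mem_centralizer_iff.mpr fun s hs => ?_
    rw [SetLike.mem_coe, hS] at hs
    obtain ⟨k, rfl⟩ := Subgroup.mem_zpowers_iff.mp hs
    exact (Subgroup.mem_center_iff.mp (Subgroup.zpow_mem _ hzcen k) c).symm
  have hXdec : ∀ c ∈ X, ∃ a ∈ A, ∃ s ∈ ({1, z} : Set G), c = a * s := by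
    intro c hc
    have hcompl := MonoidHom.ker_transferSylow_isComplement' S hSn
    haveI : (MonoidHom.transferSylow S hSn).ker.Normal := inferInstance
    obtain ⟨⟨k, s⟩, e⟩ := hcompl.2 ⟨c, hc⟩
    have hk : Odd (Nat.card (MonoidHom.transferSylow S hSn).ker) :=
      Nat.not_even_iff_odd.mp fun he => MonoidHom.not_dvd_card_ker_transferSylow S hSn (even_iff_two_dvd.mp he)
    refine ⟨((k : X) : G), hO ⟨k, CfsgLib.le_oddCore hk k.2, rfl⟩, ((s : X) : G), ?_, (congrArg Subtype.val e).symm⟩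
    obtain ⟨m, hm⟩ := Subgroup.mem_zpowers_iff.mp (show (s : X) ∈ Subgroup.zpowers zX from hS ▸ s.2)
    have hzz : zX * zX = 1 := Subtype.ext h.zz
    rw [← hm]
    rcases Int.even_or_odd m with ⟨j, rfl⟩ | ⟨j, rfl⟩
    · left; rw [← two_mul, zpow_mul, zpow_two, hzz, one_zpow]; rfl
    · right; rw [zpow_add, zpow_mul, zpow_two, hzz, one_zpow, one_mul, zpow_one]; rfl
  -- elements of `A` of two-power order
  have hA4 : ∀ a ∈ A, a ^ 4 = 1 → a = 1 := by
    intro a ha e
    have h1 : orderOf a ∣ Nat.card A := Subgroup.orderOf_mk a ha ▸ orderOf_dvd_natCard (⟨a, ha⟩ : A)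
    have h2 : orderOf a ∣ 4 := orderOf_dvd_of_pow_eq_one e
    have hc : Nat.Coprime (Nat.card A) 4 := (Nat.coprime_two_right.mpr hAodd).pow_right 2
    exact orderOf_eq_one_iff.mp (Nat.eq_one_of_dvd_coprimes hc h1 h2)
  have hQ4 : ∀ q ∈ Q, q ^ 4 = 1 := fun q hq => by
    rw [show 4 = 2 * 2 from rfl, pow_mul, sq, sq]
    rcases h.sq q hq with e | e <;> rw [e]
    · rw [one_mul]
    · exact h.zz
  have hstick : ∀ r ∈ R, ∀ α ∈ A, r * α ∈ Q → α = 1 := by
    intro r hr α hα hm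
    refine hA4 α hα ?_
    have h1 := hQ4 _ hm
    rwa [(show Commute r α from ((memR.mp hr).2 α hα).symm).mul_pow, hQ4 r (memR.mp hr).1, one_mul] at h1
  have hRc : ∀ c ∈ R, (∀ r ∈ R, c * r = r * c) → c = 1 ∨ c = z := by
    intro c hc hcr
    obtain ⟨hcQ, hcA⟩ := memR.mp hc
    obtain ⟨a, ha, s, hs, e⟩ := hXdec c (memX hcA fun r hr => (hcr r hr).symm)
    have hs' : s ∈ R := by rcases hs with rfl | rfl; exacts [one_mem _, hzR]
    have ha1 : a = 1 := hstick s hs' a ha (by rw [← (memR.mp hs').2 a ha, ← e]; exact hcQ)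
    rw [e, ha1, one_mul]
    exact hs
  obtain ⟨r₁, hr₁, r₂, hr₂, hrne⟩ : ∃ r₁ ∈ R, ∃ r₂ ∈ R, r₁ * r₂ ≠ r₂ * r₁ := by
    by_contra hno
    push Not at hno
    have hs : Function.Surjective (fun b : Bool => (if b then ⟨z, hzR⟩ else 1 : R)) := fun c => by
      rcases hRc c c.2 (fun r hr => hno c c.2 r hr) with e | e
      · exact ⟨false, Subtype.ext e.symm⟩
      · exact ⟨true, Subtype.ext e.symm⟩
    have := Nat.card_le_card_of_surjective _ hs
    simp at this
    omega
  have hyQ : y ∈ Q := (memR.mp hgR).1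
  have hAy : ∀ a ∈ A, a * y = y * a := (memR.mp hgR).2
  have hyz : y ≠ z := fun e => hgZ ((hmem _).mpr (Or.inr e))
  have hzy : z * y = y * z := (h.comm y hyQ).symm
  obtain ⟨a, ha, hay⟩ : ∃ a ∈ R, a * y * a⁻¹ = y * z := by
    by_contra hno
    push Not at hno
    rcases hRc y hgR (fun r hr =>
      (mul_inv_eq_iff_eq_mul.mp ((h.conj_cases (memR.mp hr).1 hyQ).resolve_right (hno r hr))).symm) with e | e
    exacts [h'.ne e, hyz e]
  have h8 : 8 < Nat.card Q := by
    have := Subgroup.card_le_of_le (show R ≤ Q from fun r hr => (memR.mp hr).1)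
    omega
  have hzQ' : z ∈ cj g Q := h.symm_mem hyQ fun _ => h.exists_pair h8 hyQ h'.zz
  obtain ⟨b, hb, hbz⟩ : ∃ b, (b ∈ cj g Q ∧ ∀ a ∈ A, a * b = b * a) ∧ b * z * b⁻¹ = z * y := by
    by_contra hno
    push Not at hno
    have hfix : ∀ q, q ∈ cj g Q → (∀ a ∈ A, a * q = q * a) → q * z = z * q := fun q hq hqA =>
      mul_inv_eq_iff_eq_mul.mp ((h'.conj_cases hq hzQ').resolve_right (hno q ⟨hq, hqA⟩))
    have hAN : A ≤ Subgroup.normalizer ((cj g Q : Subgroup G) : Set G) := fun α hα => by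
      refine Subgroup.mem_normalizer_iff.mpr fun q => ⟨h'.nor α (hAy α hα) q, fun hq => ?_⟩
      have := h'.nor α⁻¹ (hAy _ (inv_mem hα)) _ hq
      simpa [mul_assoc] using this
    have hp2 : IsPGroup 2 (cj g Q) := h'.toExt.isPGroup
    have hcop : (Nat.card A).Coprime (Nat.card (cj g Q)) := by
      obtain ⟨k, hk⟩ := hp2.exists_card_eq
      rw [hk]
      exact Nat.Coprime.pow_right k (Nat.coprime_two_right.mpr hAodd)
    have hsolv : Group.IsSolvable A ∨ Group.IsSolvable (cj g Q) := Or.inr (by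
      haveI := hp2.isNilpotent
      infer_instance)
    have hK : ⁅cj g Q, A⁆ ≤ Subgroup.centralizer ({z} : Set G) := by
      rw [Subgroup.commutator_le]
      intro q hq α hα
      rw [Subgroup.mem_centralizer_singleton_iff, commutatorElement_def]
      have hqz : q⁻¹ * z * q = z ∨ q⁻¹ * z * q = z * y := by
        simpa using h'.conj_cases (inv_mem hq) hzQ'
      have hαz : α⁻¹ * z * α = z := by rw [mul_assoc, ← hAz α hα, inv_mul_cancel_left]
      have hαy : α⁻¹ * y * α = y := by rw [mul_assoc, ← hAy α hα, inv_mul_cancel_left]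
      have e : (q * α * q⁻¹ * α⁻¹)⁻¹ * z * (q * α * q⁻¹ * α⁻¹) = z := by
        calc (q * α * q⁻¹ * α⁻¹)⁻¹ * z * (q * α * q⁻¹ * α⁻¹)
            = α * (q * (α⁻¹ * (q⁻¹ * z * q) * α) * q⁻¹) * α⁻¹ := by group
          _ = α * (q * (q⁻¹ * z * q) * q⁻¹) * α⁻¹ := by
              rcases hqz with e' | e' <;> rw [e']
              · rw [hαz]
              · rw [show α⁻¹ * (z * y) * α = (α⁻¹ * z * α) * (α⁻¹ * y * α) by group, hαz, hαy]
          _ = α * z * α⁻¹ := by group
          _ = z := by rw [hAz α hα, mul_inv_cancel_right]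
      calc q * α * q⁻¹ * α⁻¹ * z = (q * α * q⁻¹ * α⁻¹) * ((q * α * q⁻¹ * α⁻¹)⁻¹ * z * (q * α * q⁻¹ * α⁻¹)) := by rw [e]
        _ = z * (q * α * q⁻¹ * α⁻¹) := by group
    rcases h'.cen z (fun q hq => by
      obtain ⟨k, hk, d, hd, rfl⟩ := CfsgLib.coprime_decomp hAN hcop hsolv hq
      have h1 : k * z = z * k := Subgroup.mem_centralizer_singleton_iff.mp (hK hk)
      have h2 : d * z = z * d := hfix d hd.1 fun α hα => Subgroup.mem_centralizer_iff.mp hd.2 α hα
      exact (Commute.mul_right (show Commute z k from h1.symm) (show Commute z d from h2.symm)).eq) with e | e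
    exacts [h.ne e, hyz e.symm]
  have hkz : (a⁻¹ * b) * z * (a⁻¹ * b)⁻¹ = y := swap_elem hzy h.zz (h.comm a (memR.mp ha).1) hay hbz
  have hCM : Subgroup.centralizer (A : Set G) ≤ M := hM ▸ le_sup_left
  have hbM : b ∈ M := hCM (Subgroup.mem_centralizer_iff.mpr hb.2)
  have hRM : R ≤ M := fun r hr => hCM (Subgroup.mem_centralizer_iff.mpr (memR.mp hr).2)
  -- the first equation
  refine ⟨?_, ?_, (a⁻¹ * b)⁻¹, Subgroup.inv_mem _ (Subgroup.mul_mem _ (Subgroup.mem_sup_left (inv_mem ha))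
    (Subgroup.mem_sup_right ⟨hb.1, Subgroup.mem_centralizer_iff.mpr hb.2⟩)), by rw [← hkz]; group⟩
  · refine le_antisymm (sup_le (fun c hc => ?_) le_sup_left) (sup_le le_sup_right ?_)
    · obtain ⟨-, hc⟩ := hc
      rw [sup_comm, ← hX] at hc
      obtain ⟨α, hα, s, hs, rfl⟩ := hXdec c hc
      refine Subgroup.mul_mem _ (Subgroup.mem_sup_left hα) (Subgroup.mem_sup_right ((hmem s).mpr ?_))
      exact hs
    · intro c hc
      refine Subgroup.mem_sup_left ?_
      rcases (hmem c).mp hc with rfl | rfl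
      · exact one_mem _
      · exact ⟨hRM hzR, by rw [sup_comm, ← hX]; exact hzX⟩
  -- the quotient
  set π := QuotientGroup.mk' (A.subgroupOf M) with hπ
  have hdecM : ∀ c : M, ∃ d : M, π d = π c ∧ ∀ α ∈ A, α * (d : G) = d * α := by
    intro c
    have hc : (c : G) ∈ Subgroup.centralizer (A : Set G) ⊔ A := hM ▸ c.2
    have hle : A ≤ Subgroup.normalizer ((Subgroup.centralizer (A : Set G) : Subgroup G) : Set G) := by
      intro α hα
      refine Subgroup.mem_normalizer_iff.mpr fun u => ?_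
      have key : ∀ β ∈ A, ∀ u ∈ Subgroup.centralizer (A : Set G), β * u * β⁻¹ ∈ Subgroup.centralizer (A : Set G) := by
        intro β hβ u hu
        rw [Subgroup.mem_centralizer_iff.mp hu β hβ, mul_inv_cancel_right]; exact hu
      refine ⟨key α hα u, fun hu => ?_⟩
      have := key α⁻¹ (inv_mem hα) _ hu
      simpa [mul_assoc] using this
    rw [← SetLike.mem_coe, Subgroup.coe_mul_of_right_le_normalizer_left _ _ hle] at hc
    obtain ⟨d, hd, α, hα, e⟩ := hc
    refine ⟨⟨d, hCM hd⟩, ?_, Subgroup.mem_centralizer_iff.mp hd⟩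
    rw [hπ, QuotientGroup.mk'_eq_mk']
    exact ⟨⟨α, hM ▸ Subgroup.mem_sup_right hα⟩, hα, Subtype.ext e⟩
  have hπeq : ∀ c d : M, π c = π d ↔ ∃ α ∈ A, (d : G) = c * α := by
    intro c d
    rw [hπ, QuotientGroup.mk'_eq_mk']
    constructor
    · rintro ⟨α, hα, rfl⟩; exact ⟨α, hα, rfl⟩
    · rintro ⟨α, hα, e⟩; exact ⟨⟨α, hM ▸ Subgroup.mem_sup_right hα⟩, hα, Subtype.ext e.symm⟩
  -- commuting modulo `A` is commuting
  have hmod : ∀ d : M, (∀ α ∈ A, α * (d : G) = d * α) → ∀ r : M, (r : G) ∈ R → π d * π r = π r * π d →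
      (d : G) * r = r * d := by
    intro d hdA r hr e
    rw [← map_mul, ← map_mul, hπeq] at e
    obtain ⟨α, hα, e⟩ := e
    change (r : G) * d = d * r * α at e
    have hconj : (d : G)⁻¹ * r * d = r * α := by
      calc (d : G)⁻¹ * r * d = (d : G)⁻¹ * ((r : G) * d) := by group
        _ = r * α := by rw [e]; group
    have hα1 : α = 1 := by
      refine hA4 α hα ?_
      have h1 : ((r : G) * α) ^ 4 = 1 := by
        rw [← hconj, show (d : G)⁻¹ * r * d = (d : G)⁻¹ * r * (d : G)⁻¹⁻¹ by rw [inv_inv], conj_pow,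
          hQ4 _ (memR.mp hr).1]
        group
      rwa [(show Commute (r : G) α from ((memR.mp hr).2 α hα).symm).mul_pow, hQ4 _ (memR.mp hr).1, one_mul] at h1
    rw [hα1, mul_one] at e
    exact e.symm
  let z' : M := ⟨z, hRM hzR⟩
  have memRb : ∀ {r : G} (hr : r ∈ R), π ⟨r, hRM hr⟩ ∈ (R.subgroupOf M).map π := fun {r} hr => ⟨⟨r, hRM hr⟩, hr, rfl⟩
  have hinj : ∀ r s : M, (r : G) ∈ R → (s : G) ∈ R → π r = π s → (r : G) = s := by
    intro r s hr hs e
    obtain ⟨α, hα, e⟩ := (hπeq r s).mp e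
    rw [e, hstick r hr α hα (e ▸ (memR.mp hs).1), mul_one]
  have hES : ES ((R.subgroupOf M).map π) (π z') := by
    refine ⟨memRb hzR, fun e => ?_, ?_, ?_, ?_, ?_⟩
    · rw [← map_one π] at e
      exact h.ne (hinj z' 1 hzR (one_mem R) e)
    · rintro _ ⟨p, hp, rfl⟩
      rw [← map_mul, ← map_mul]
      exact congrArg π (Subtype.ext (h.comm p (memR.mp hp).1))
    · rintro _ ⟨p, hp, rfl⟩
      rw [← map_mul]
      rcases h.sq p (memR.mp hp).1 with e | e
      · exact Or.inl (by rw [show p * p = 1 from Subtype.ext e, map_one])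
      · exact Or.inr (congrArg π (Subtype.ext e))
    · intro cb hcb
      obtain ⟨c, rfl⟩ := QuotientGroup.mk'_surjective (A.subgroupOf M) cb
      obtain ⟨d, hd, hdA⟩ := hdecM c
      rw [← hπ, ← hd]
      obtain ⟨α, hα, s, hs, e⟩ := hXdec d (memX hdA fun r hr =>
        (hmod d hdA ⟨r, hRM hr⟩ hr (by rw [hd]; exact hcb _ (memRb hr))).symm)
      rcases hs with hs | hs
      · left
        rw [← map_one π, hπeq]
        exact ⟨α⁻¹, inv_mem hα, by rw [e, hs]; simp⟩
      · right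
        rw [hπeq]
        exact ⟨α⁻¹, inv_mem hα, by rw [e, Set.mem_singleton_iff.mp hs, hAz α hα, mul_inv_cancel_right]⟩
    · intro cb hcb q hq
      obtain ⟨c, rfl⟩ := QuotientGroup.mk'_surjective (A.subgroupOf M) cb
      obtain ⟨p, hp, rfl⟩ := hq
      obtain ⟨d, hd, hdA⟩ := hdecM c
      rw [← hπ, ← hd] at hcb ⊢
      have hdz := hmod d hdA z' hzR hcb
      rw [← map_inv, ← map_mul, ← map_mul]
      refine ⟨_, Subgroup.mem_subgroupOf.mpr (memR.mpr ⟨h.nor d hdz _ (memR.mp hp).1, fun α hα => ?_⟩), rfl⟩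
      show Commute α ((d : G) * p * (d : G)⁻¹)
      exact (Commute.mul_right (hdA α hα) ((memR.mp hp).2 α hα)).mul_right (Commute.inv_right (hdA α hα))
  refine large_of_ES hES ⟨_, memRb hr₁, _, memRb hr₂, fun e => hrne ?_⟩ ?_ (π ⟨a⁻¹ * b, mul_mem (inv_mem (hRM ha)) hbM⟩) ?_ ?_
  · rw [← map_mul, ← map_mul] at e
    exact hinj _ _ (mul_mem hr₁ hr₂) (mul_mem hr₂ hr₁) e
  · have := Nat.card_le_card_of_injective (fun r : R => (⟨_, memRb r.2⟩ : (R.subgroupOf M).map π))
      (fun r s e => Subtype.ext (hinj _ _ r.2 s.2 (congrArg Subtype.val e)))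
    omega
  · rw [← map_inv, ← map_mul, ← map_mul]
    exact ⟨_, Subgroup.mem_subgroupOf.mpr (show (a⁻¹ * b) * z * (a⁻¹ * b)⁻¹ ∈ R by rw [hkz]; exact hgR), rfl⟩
  · intro e
    rw [← map_inv, ← map_mul, ← map_mul] at e
    have := hinj _ _ (show (a⁻¹ * b) * z * (a⁻¹ * b)⁻¹ ∈ R by rw [hkz]; exact hgR) hzR e
    exact hyz (hkz ▸ this)

end CfsgLargeExtra
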