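/-
Extraspecial 2-groups of both types and their 2-ranks.
-/
import Cfsg.Agent.Lib.LargeExtra.Odd
import Mathlib.Algebra.BigOperators.Fin

set_option autoImplicit false

namespace CfsgLargeExtra.Types

open Cfsg

/-- The form on one plane. -/
def beta (s : Bool) (u v : ZMod 2 × ZMod 2) : ZMod 2 :=
  if s then u.1 * v.2 + u.1 * v.1 + u.2 * v.2 else u.1 * v.2

theorem beta_add_left : ∀ (s : Bool) (u u' v : ZMod 2 × ZMod 2), beta s (u + u') v = beta s u v + beta s u' v := by decide
theorem beta_add_right : ∀ (s : Bool) (u v v' : ZMod 2 × ZMod 2), beta s u (v + v') = beta s u v + beta s u v' := by decide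
theorem beta_zero_left : ∀ (s : Bool) (v : ZMod 2 × ZMod 2), beta s 0 v = 0 := by decide
theorem beta_zero_right : ∀ (s : Bool) (v : ZMod 2 × ZMod 2), beta s v 0 = 0 := by decide
theorem beta_nondeg : ∀ (s : Bool) (u : ZMod 2 × ZMod 2), (∀ v, beta s u v = beta s v u) → u = 0 := by decide

variable {m : ℕ}

/-- The sum of the plane forms; `s` switches the first plane. -/
def bil (s : Bool) (x y : Fin (m + 1) → ZMod 2 × ZMod 2) : ZMod 2 := ∑ i, beta (s && decide (i = 0)) (x i) (y i)

/-- The model. -/
structure Grp (m : ℕ) (s : Bool) : Type where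
  v : Fin (m + 1) → ZMod 2 × ZMod 2
  c : ZMod 2

variable {s : Bool}

theorem Grp.ext' {x y : Grp m s} (h1 : x.v = y.v) (h2 : x.c = y.c) : x = y := by
  cases x; cases y; simp_all

def Grp.equivProd : Grp m s ≃ (Fin (m + 1) → ZMod 2 × ZMod 2) × ZMod 2 where
  toFun x := (x.v, x.c)
  invFun x := ⟨x.1, x.2⟩
  left_inv _ := rfl
  right_inv _ := rfl

instance : Finite (Grp m s) := Finite.of_equiv _ Grp.equivProd.symm

theorem bil_add_left (x x' y : Fin (m + 1) → ZMod 2 × ZMod 2) : bil s (x + x') y = bil s x y + bil s x' y := by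
  simp only [bil, Pi.add_apply, beta_add_left, Finset.sum_add_distrib]

theorem bil_add_right (x y y' : Fin (m + 1) → ZMod 2 × ZMod 2) : bil s x (y + y') = bil s x y + bil s x y' := by
  simp only [bil, Pi.add_apply, beta_add_right, Finset.sum_add_distrib]

theorem bil_zero_left (y : Fin (m + 1) → ZMod 2 × ZMod 2) : bil s 0 y = 0 := by simp [bil, beta_zero_left]
theorem bil_zero_right (y : Fin (m + 1) → ZMod 2 × ZMod 2) : bil s y 0 = 0 := by simp [bil, beta_zero_right]

theorem two_eq_zero : ∀ a : ZMod 2, a + a = 0 := by decide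

theorem vec_add_self (v : Fin (m + 1) → ZMod 2 × ZMod 2) : v + v = 0 :=
  funext fun i => Prod.ext (two_eq_zero _) (two_eq_zero _)

instance : Group (Grp m s) where
  mul x y := ⟨x.v + y.v, x.c + y.c + bil s x.v y.v⟩
  one := ⟨0, 0⟩
  inv x := ⟨x.v, x.c + bil s x.v x.v⟩
  mul_assoc x y z := Grp.ext' (add_assoc _ _ _) (by
    show x.c + y.c + bil s x.v y.v + z.c + bil s (x.v + y.v) z.v =
      x.c + (y.c + z.c + bil s y.v z.v) + bil s x.v (y.v + z.v)
    rw [bil_add_left, bil_add_right]; ring)
  one_mul x := Grp.ext' (zero_add _) (by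
    show 0 + x.c + bil s 0 x.v = x.c
    simp [bil_zero_left])
  mul_one x := Grp.ext' (add_zero _) (by
    show x.c + 0 + bil s x.v 0 = x.c
    simp [bil_zero_right])
  inv_mul_cancel x := Grp.ext' (vec_add_self _) (by
    show x.c + bil s x.v x.v + x.c + bil s x.v x.v = 0
    linear_combination two_eq_zero x.c + two_eq_zero (bil s x.v x.v))

theorem mul_v (x y : Grp m s) : (x * y).v = x.v + y.v := rfl
theorem mul_c (x y : Grp m s) : (x * y).c = x.c + y.c + bil s x.v y.v := rfl

/-- The central involution. -/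
def zG : Grp m s := ⟨0, 1⟩

theorem commute_iff (x y : Grp m s) : x * y = y * x ↔ bil s x.v y.v = bil s y.v x.v := by
  constructor
  · intro h
    have := congrArg Grp.c h
    rw [mul_c, mul_c] at this
    linear_combination this
  · intro h
    refine Grp.ext' (add_comm x.v y.v) ?_
    rw [mul_c, mul_c]
    linear_combination h

theorem bil_single (x : Fin (m + 1) → ZMod 2 × ZMod 2) (i : Fin (m + 1)) (u : ZMod 2 × ZMod 2) :
    bil s x (Pi.single i u) = beta (s && decide (i = 0)) (x i) u ∧
      bil s (Pi.single i u) x = beta (s && decide (i = 0)) u (x i) := by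
  constructor <;> unfold bil <;> rw [Finset.sum_eq_single i]
  all_goals simp +contextual [Pi.single_apply, beta_zero_left, beta_zero_right]

theorem ext2 : CfsgLib.ExtraTwo.Ext2 (Grp m s) zG where
  ne h := absurd (congrArg Grp.c h) (by show (1 : ZMod 2) ≠ 0; decide)
  center_iff g := by
    constructor
    · intro hg
      have hv : g.v = 0 := funext fun i => beta_nondeg (s && decide (i = 0)) _ fun u => by
        rw [← (bil_single g.v i u).1, ← (bil_single g.v i u).2]
        exact ((commute_iff ⟨Pi.single i u, 0⟩ g).1 (Subgroup.mem_center_iff.1 hg _)).symm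
      have hc : ∀ c : ZMod 2, c = 0 ∨ c = 1 := by decide
      rcases hc g.c with h | h
      · exact Or.inl (Grp.ext' hv h)
      · exact Or.inr (Grp.ext' hv h)
    · rintro (rfl | rfl)
      · exact one_mem _
      · exact Subgroup.mem_center_iff.2 fun y => (commute_iff y zG).2 (by
          show bil s y.v 0 = bil s 0 y.v
          rw [bil_zero_left, bil_zero_right])
  sq g := by
    have hc : ∀ c : ZMod 2, c = 0 ∨ c = 1 := by decide
    rcases hc (g * g).c with h | h
    · exact Or.inl (Grp.ext' (vec_add_self _) h)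
    · exact Or.inr (Grp.ext' (vec_add_self _) h)

theorem extraspecial : IsExtraspecial 2 (Grp m s) := by
  refine CfsgLargeExtra.isExtraspecial_of_ext2 ext2 (a := ⟨Pi.single 0 (1, 0), 0⟩) (b := ⟨Pi.single 0 (0, 1), 0⟩) ?_
  rw [Ne, commute_iff]
  show ¬ bil s (Pi.single 0 (1, 0)) (Pi.single 0 (0, 1)) = bil s (Pi.single 0 (0, 1)) (Pi.single 0 (1, 0))
  rw [(bil_single _ 0 _).1, (bil_single _ 0 _).1, Pi.single_eq_same, Pi.single_eq_same]
  have key : ∀ b : Bool, ¬beta b (1, 0) (0, 1) = beta b (0, 1) (1, 0) := by decide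
  exact key _

theorem card_eq : Nat.card (Grp m s) = 2 ^ (2 * (m + 1) + 1) := by
  rw [Nat.card_congr Grp.equivProd]
  simp only [Nat.card_prod, Nat.card_fun, Nat.card_zmod, Nat.card_fin]
  rw [← pow_two, ← pow_mul, ← pow_succ]

/-- The sign of an element of the field of two elements. -/
def sgn (a : ZMod 2) : ℤ := if a = 0 then 1 else -1

theorem sgn_add : ∀ a b : ZMod 2, sgn (a + b) = sgn a * sgn b := by decide

theorem rootCount_eq : (CfsgLib.ExtraTwo.rootCount (Grp m s) : ℤ) =
    2 ^ (2 * (m + 1)) + (if s then -1 else 1) * 2 ^ (m + 1) := by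
  classical
  have hiff : ∀ x : Grp m s, x * x = 1 ↔ bil s x.v x.v = 0 := fun x => by
    constructor
    · intro h
      have := congrArg Grp.c h
      rw [mul_c, two_eq_zero, zero_add] at this
      exact this
    · intro h
      refine Grp.ext' (vec_add_self _) ?_
      rw [mul_c, two_eq_zero, zero_add]
      exact h
  have e1 : CfsgLib.ExtraTwo.rootCount (Grp m s) =
      2 * (Finset.univ.filter fun v : Fin (m + 1) → ZMod 2 × ZMod 2 => bil s v v = 0).card := by
    unfold CfsgLib.ExtraTwo.rootCount
    let e : {x : Grp m s // x * x = 1} ≃ {v : Fin (m + 1) → ZMod 2 × ZMod 2 // bil s v v = 0} × ZMod 2 :=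
      { toFun := fun x => (⟨x.1.v, (hiff x.1).mp x.2⟩, x.1.c)
        invFun := fun p => ⟨⟨p.1.1, p.2⟩, (hiff _).mpr p.1.2⟩
        left_inv := fun x => rfl
        right_inv := fun p => rfl }
    rw [Nat.card_congr e, Nat.card_prod, Nat.card_eq_fintype_card, Fintype.card_subtype, Nat.card_zmod, mul_comm]
  have hfun : ∀ v : Fin (m + 1) → ZMod 2 × ZMod 2, 2 * (if bil s v v = 0 then (1 : ℤ) else 0) =
      1 + ∏ i, sgn (beta (s && decide (i = 0)) (v i) (v i)) := by
    intro v
    have hmul : ∀ t : Finset (Fin (m + 1)), sgn (∑ i ∈ t, beta (s && decide (i = 0)) (v i) (v i)) =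
        ∏ i ∈ t, sgn (beta (s && decide (i = 0)) (v i) (v i)) := by
      intro t
      induction t using Finset.induction with
      | empty => simp [sgn]
      | insert a t ha ih => rw [Finset.sum_insert ha, Finset.prod_insert ha, sgn_add, ih]
    rw [← hmul]
    unfold bil sgn
    split_ifs <;> norm_num
  rw [e1, Nat.cast_mul, Finset.card_filter, Nat.cast_sum, Finset.mul_sum]
  push_cast
  rw [Finset.sum_congr rfl fun v _ => hfun v, Finset.sum_add_distrib, ← Fintype.prod_sum
    (fun (i : Fin (m + 1)) (u : ZMod 2 × ZMod 2) => sgn (beta (s && decide (i = 0)) u u))]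
  simp only [Finset.sum_const, Finset.card_univ, Fintype.card_fun, Fintype.card_prod, ZMod.card, Fintype.card_fin]
  have hplane : ∀ b : Bool, ∑ u : ZMod 2 × ZMod 2, sgn (beta b u u) = if b then -2 else 2 := by decide
  simp only [hplane]
  rw [Fin.prod_univ_succ]
  simp only [Fin.succ_ne_zero, decide_false, Bool.and_false, decide_true, Bool.and_true]
  cases s <;> simp [pow_succ, pow_mul] <;> ring

/-- An elementary abelian subgroup. -/
def elem (s : Bool) (m : ℕ) : Subgroup (Grp m s) where
  carrier := {x | (∀ i, (x.v i).1 = 0) ∧ (s = true → x.v 0 = 0)}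
  one_mem' := ⟨fun _ => rfl, fun _ => rfl⟩
  mul_mem' {x y} hx hy := ⟨fun i => by
      show (x.v i).1 + (y.v i).1 = 0
      rw [hx.1, hy.1, add_zero], fun h => by
      show x.v 0 + y.v 0 = 0
      rw [hx.2 h, hy.2 h, add_zero]⟩
  inv_mem' {x} hx := hx

theorem bil_elem {x y : Grp m s} (hx : x ∈ elem s m) (hy : y ∈ elem s m) : bil s x.v y.v = 0 := by
  refine Finset.sum_eq_zero fun i _ => ?_
  by_cases h : (s && decide (i = 0)) = true
  · rw [Bool.and_eq_true, decide_eq_true_eq] at h
    rw [h.2, hx.2 h.1, beta_zero_left]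
  · rw [beta, if_neg h, hx.1 i, zero_mul]

theorem elem_elementary : IsElementaryAbelian 2 (elem s m) :=
  ⟨⟨⟨fun a b => Subtype.ext ((commute_iff _ _).2 (by rw [bil_elem a.2 b.2, bil_elem b.2 a.2]))⟩⟩,
    fun a ha => by
      rw [pow_two]
      refine Grp.ext' (vec_add_self _) ?_
      rw [mul_c, two_eq_zero, bil_elem ha ha, add_zero]
      rfl⟩

theorem card_elem : Nat.card (elem s m) = 2 ^ (if s then m + 1 else m + 2) := by
  cases s
  · let e : elem false m ≃ (Fin (m + 1) → ZMod 2) × ZMod 2 :=
      { toFun := fun x => (fun i => (x.1.v i).2, x.1.c)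
        invFun := fun p => ⟨⟨fun i => (0, p.1 i), p.2⟩, fun i => rfl, fun h => nomatch h⟩
        left_inv := fun x => Subtype.ext (Grp.ext' (funext fun i => Prod.ext (x.2.1 i).symm rfl) rfl)
        right_inv := fun p => rfl }
    rw [Nat.card_congr e]
    simp [pow_succ]
  · let e : elem true m ≃ (Fin m → ZMod 2) × ZMod 2 :=
      { toFun := fun x => (fun i => (x.1.v i.succ).2, x.1.c)
        invFun := fun p => ⟨⟨Fin.cons 0 fun i => (0, p.1 i), p.2⟩, fun i => by
            cases i using Fin.cases <;> rfl, fun _ => rfl⟩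
        left_inv := fun x => Subtype.ext (Grp.ext' (funext fun i => by
          cases i using Fin.cases
          · exact (x.2.2 rfl).symm
          · exact Prod.ext (x.2.1 _).symm rfl) rfl)
        right_inv := fun p => rfl }
    rw [Nat.card_congr e]
    simp [pow_succ]

theorem rank_eq : sSup {k : ℕ | ∃ A : Subgroup (Grp m s), IsElementaryAbelian 2 A ∧ Nat.card A = 2 ^ k} =
    if s then m + 1 else m + 2 := by
  refine IsGreatest.csSup_eq ⟨⟨elem s m, elem_elementary, card_elem⟩, ?_⟩
  rintro k ⟨A, hA, hk⟩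
  obtain ⟨h1, h2⟩ := CfsgLib.ExtraTwo.card_elementary_le ext2 (n := m + 1) card_eq hA.1 hA.2
  rw [hk] at h1
  have hk' := (Nat.pow_le_pow_iff_right (by norm_num)).mp h1
  cases s
  · simpa using hk'
  · simp only [if_true]
    rcases hk'.lt_or_eq with h | h
    · omega
    · exfalso
      have h3 := h2 (by rw [hk, h])
      have h4 := rootCount_eq (m := m) (s := true)
      rw [h3] at h4
      push_cast at h4
      simp only [if_true] at h4
      have : (0 : ℤ) < 2 ^ (m + 1) := by positivity
      linarith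

end CfsgLargeExtra.Types
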