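/-
Singular subgroups: joint cores and the groups they induce.
-/
import Cfsg.Agent.Lib.LargeExtra.Cores

set_option autoImplicit false

namespace CfsgLargeExtra

open Cfsg

variable {G : Type*} [Group G] [Finite G]

/-- A singular subgroup in the setting of cores. -/
structure Singular (Q : G → Subgroup G) (z : G) (U : Subgroup G) : Prop where
  hQ : ∀ x, Q x = coreCent x
  hz : orderOf z = 2
  hE : IsExtraspecial 2 (Q z)
  hC : Subgroup.centralizer ((Q z : Subgroup G) : Set G) ≤ Q z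
  hU2 : ∀ u ∈ U, u * u = 1
  hS : ∀ u ∈ U, u ≠ 1 → ∃ g : G, g * z * g⁻¹ = u
  hO : ∀ u ∈ U, ∀ v ∈ U, u ≠ 1 → v ≠ 1 → v ∈ Q u

variable {Q : G → Subgroup G} {z : G} {U : Subgroup G}

theorem Singular.es (S : Singular Q z U) {u : G} (hu : u ∈ U) (hu1 : u ≠ 1) : ES (Q u) u := by
  obtain ⟨g, rfl⟩ := S.hS u hu hu1
  have h := (ES.of_setting Q S.hQ S.hz S.hE S.hC).cj g
  rwa [show cj g (Q z) = Q (g * z * g⁻¹) by rw [S.hQ, S.hQ, coreCent_conj]] at h

theorem Singular.le_Q (S : Singular Q z U) {u : G} (hu : u ∈ U) (hu1 : u ≠ 1) : U ≤ Q u := fun v hv => by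
  by_cases h : v = 1
  · rw [h]; exact one_mem _
  · exact S.hO u hu v hv hu1 h

theorem Singular.comm (S : Singular Q z U) {u v : G} (hu : u ∈ U) (hv : v ∈ U) : v * u = u * v := by
  by_cases h : u = 1
  · simp [h]
  · exact (S.es hu h).comm v (S.le_Q hu h hv)

theorem Singular.core_gen (S : Singular Q z U) (T : Set G) (hT : Subgroup.closure T = U) (hT1 : (1 : G) ∉ T)
    {y : G} (hy : ∀ t ∈ T, y ∈ Q t) {u : G} (hu : u ∈ U) (hu1 : u ≠ 1) : y ∈ Q u := by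
  suffices key : ∀ v ∈ Subgroup.closure T, v ∈ U ∧ (v = 1 ∨ y ∈ Q v) by
    exact (key u (hT.symm ▸ hu)).2.resolve_left hu1
  intro v hv
  induction hv using Subgroup.closure_induction with
  | mem t ht =>
    exact ⟨hT ▸ Subgroup.subset_closure ht, Or.inr (hy t ht)⟩
  | one => exact ⟨one_mem _, Or.inl rfl⟩
  | mul a b _ _ iha ihb =>
    refine ⟨mul_mem iha.1 ihb.1, ?_⟩
    rcases eq_or_ne (a * b) 1 with e | e
    · exact Or.inl e
    rcases eq_or_ne a 1 with ha | ha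
    · rw [ha, one_mul] at e ⊢; exact ihb.2
    rcases eq_or_ne b 1 with hb | hb
    · rw [hb, mul_one] at e ⊢; exact iha.2
    right
    refine core_mul Q S.hQ S.hz S.hE S.hC (S.hS a iha.1 ha) (S.hS b ihb.1 hb) (S.hO a iha.1 b ihb.1 ha hb)
      (S.hO b ihb.1 a iha.1 hb ha) (fun hab => e ?_) (iha.2.resolve_left ha) (ihb.2.resolve_left hb)
    rw [← hab]; exact S.hU2 a iha.1
  | inv a _ iha =>
    rw [inv_eq_of_mul_eq_one_right (S.hU2 a iha.1)]
    exact iha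

theorem mem_iInf_sharp {U : Subgroup G} {Q : G → Subgroup G} {x : G} :
    x ∈ (⨅ u ∈ ((U : Set G) \ {1}), Q u) ↔ ∀ u ∈ U, u ≠ 1 → x ∈ Q u := by
  simp [Subgroup.mem_iInf, and_imp]

theorem le_iSup_sharp {U : Subgroup G} {Q : G → Subgroup G} {u : G} (hu : u ∈ U) (hu1 : u ≠ 1) :
    Q u ≤ ⨆ u ∈ ((U : Set G) \ {1}), Q u :=
  le_biSup Q (show u ∈ (U : Set G) \ {1} from ⟨hu, hu1⟩)

theorem Singular.iInf_eq (S : Singular Q z U) (T : Set G) (hT : Subgroup.closure T = U) (hT1 : (1 : G) ∉ T) :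
    (⨅ u ∈ ((U : Set G) \ {1}), Q u) = ⨅ t ∈ T, Q t := by
  ext y
  rw [mem_iInf_sharp]
  simp only [Subgroup.mem_iInf]
  exact ⟨fun h t ht => h t (hT ▸ Subgroup.subset_closure ht) (fun e => hT1 (e ▸ ht)),
    fun h u hu hu1 => S.core_gen T hT hT1 h hu hu1⟩

/-- Commutators with an element of the core of `u` lie in `⟨u⟩`. -/
theorem Singular.comm_mem (S : Singular Q z U) {u q x : G} (hu : u ∈ U) (hu1 : u ≠ 1) (hq : q ∈ Q u) (hx : x ∈ Q u) :
    q * x * q⁻¹ * x⁻¹ ∈ U := by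
  rcases (S.es hu hu1).conj_cases hq hx with e | e <;> rw [e]
  · simp
  · rw [(S.es hu hu1).comm x hx, mul_inv_cancel_right]; exact hu

theorem Singular.core_normalizes (S : Singular Q z U) {u : G} (hu : u ∈ U) (hu1 : u ≠ 1) :
    Q u ≤ Subgroup.normalizer (U : Set G) := by
  have key : ∀ q ∈ Q u, ∀ v ∈ U, q * v * q⁻¹ ∈ U := fun q hq v hv => by
    have := mul_mem (S.comm_mem hu hu1 hq (S.le_Q hu hu1 hv)) hv
    simpa [mul_assoc] using this
  intro q hq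
  rw [Subgroup.mem_normalizer_iff]
  refine fun v => ⟨key q hq v, fun hv => ?_⟩
  have := key q⁻¹ (inv_mem hq) _ hv
  simpa [mul_assoc] using this

theorem Singular.lu_normalizes (S : Singular Q z U) :
    (⨆ u ∈ ((U : Set G) \ {1}), Q u) ≤ Subgroup.normalizer (U : Set G) :=
  iSup₂_le fun _ hu => S.core_normalizes hu.1 hu.2

theorem Singular.lu_trivial (S : Singular Q z U) :
    ∀ g ∈ (⨆ u ∈ ((U : Set G) \ {1}), Q u), ∀ x ∈ (⨅ u ∈ ((U : Set G) \ {1}), Q u), g * x * g⁻¹ * x⁻¹ ∈ U := by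
  intro g hg x hx
  rw [mem_iInf_sharp] at hx
  let H : Subgroup G :=
    { carrier := {g | g ∈ Subgroup.normalizer (U : Set G) ∧ g * x * g⁻¹ * x⁻¹ ∈ U}
      one_mem' := ⟨one_mem _, by simp⟩
      mul_mem' := fun {a b} ha hb => ⟨mul_mem ha.1 hb.1, by
        have := mul_mem ((Subgroup.mem_normalizer_iff.mp ha.1 _).mp hb.2) ha.2
        simpa [mul_assoc] using this⟩
      inv_mem' := fun {a} ha => ⟨inv_mem ha.1, by
        have := (Subgroup.mem_normalizer_iff.mp (inv_mem ha.1) _).mp (inv_mem ha.2)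
        simpa [mul_assoc] using this⟩ }
  have hle : (⨆ u ∈ ((U : Set G) \ {1}), Q u) ≤ H :=
    iSup₂_le fun u hu q hq => ⟨S.core_normalizes hu.1 hu.2 hq, S.comm_mem hu.1 hu.2 hq (hx u hu.1 hu.2)⟩
  exact (hle hg).2

theorem Singular.lu_transitive (S : Singular Q z U) {x : G} (hx : x ∈ (⨅ u ∈ ((U : Set G) \ {1}), Q u)) (hxU : x ∉ U)
    {u : G} (hu : u ∈ U) :
    ∃ g ∈ (⨆ u ∈ ((U : Set G) \ {1}), Q u) ⊓ Subgroup.centralizer (U : Set G), g * x * g⁻¹ = x * u := by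
  rw [mem_iInf_sharp] at hx
  by_cases hu1 : u = 1
  · exact ⟨1, one_mem _, by simp [hu1]⟩
  have h := S.es hu hu1
  obtain ⟨q, hq, hqU, hqx⟩ : ∃ q ∈ Q u, (∀ s ∈ U, s * q = q * s) ∧ x * q ≠ q * x := by
    by_contra hall
    push Not at hall
    exact hxU (h.double_cent U (S.le_Q hu hu1) hu (hx u hu hu1) fun p hp hs => hall p hp hs)
  refine ⟨q, ⟨le_iSup_sharp hu hu1 hq, Subgroup.mem_centralizer_iff.mpr hqU⟩, ?_⟩
  rcases h.conj_cases hq (hx u hu hu1) with e | e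
  · exact absurd (mul_inv_eq_iff_eq_mul.mp e).symm hqx
  · exact e

/-- Transvections of `U` are induced. -/
theorem Singular.transvection (S : Singular Q z U) {W : Subgroup G} (hWU : W ≤ U) {b c : G} (hb : b ∈ U) (hc : c ∈ U)
    (hbW : b ∉ W) (hcW : c ∉ W) (hbc : b ≠ c) :
    ∃ g ∈ (⨆ u ∈ ((U : Set G) \ {1}), Q u), (∀ w ∈ W, g * w * g⁻¹ = w) ∧ g * c * g⁻¹ = b := by
  have hw0 : c * b ∈ U := mul_mem hc hb
  have hne : c * b ≠ 1 := fun e => hbc (by
    have := inv_eq_of_mul_eq_one_right e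
    rw [inv_eq_of_mul_eq_one_right (S.hU2 c hc)] at this
    exact this.symm)
  set u := c * b
  have h := S.es hw0 hne
  let W1 : Subgroup G :=
    { carrier := {t | t ∈ U ∧ (t ∈ W ∨ t * u ∈ W)}
      one_mem' := ⟨one_mem _, Or.inl (one_mem _)⟩
      mul_mem' := fun {a d} ha hd => ⟨mul_mem ha.1 hd.1, by
        rcases ha.2 with x1 | x1 <;> rcases hd.2 with x2 | x2
        · exact Or.inl (mul_mem x1 x2)
        · exact Or.inr (by have := mul_mem x1 x2; rwa [← mul_assoc] at this)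
        · refine Or.inr ?_
          have := mul_mem x1 x2
          rwa [mul_assoc, ← S.comm hw0 hd.1, ← mul_assoc] at this
        · refine Or.inl ?_
          have := mul_mem x1 x2
          rwa [show a * u * (d * u) = a * (u * d) * u by group, ← S.comm hw0 hd.1,
            show a * (d * u) * u = a * d * (u * u) by group, S.hU2 u hw0, mul_one] at this⟩
      inv_mem' := fun {a} ha => by rw [inv_eq_of_mul_eq_one_right (S.hU2 a ha.1)]; exact ha }
  have hcW1 : c ∉ W1 := by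
    rintro ⟨-, e | e⟩
    · exact hcW e
    · rw [← mul_assoc, S.hU2 c hc, one_mul] at e; exact hbW e
  have hsub : W1 ≤ Q u := fun t ht => S.le_Q hw0 hne ht.1
  have hu_mem : u ∈ W1 := ⟨hw0, Or.inr (by rw [S.hU2 u hw0]; exact one_mem _)⟩
  obtain ⟨q, hq, hqW, hqc⟩ : ∃ q ∈ Q u, (∀ s ∈ W1, s * q = q * s) ∧ c * q ≠ q * c := by
    by_contra hall
    push Not at hall
    exact hcW1 (h.double_cent W1 hsub hu_mem (S.le_Q hw0 hne hc) fun p hp hs => hall p hp hs)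
  refine ⟨q, le_iSup_sharp hw0 hne hq, fun w hw => ?_, ?_⟩
  · rw [← hqW w ⟨hWU hw, Or.inl hw⟩, mul_inv_cancel_right]
  · rcases h.conj_cases hq (S.le_Q hw0 hne hc) with e | e
    · exact absurd (mul_inv_eq_iff_eq_mul.mp e).symm hqc
    · rw [e, ← mul_assoc, S.hU2 c hc, one_mul]

theorem Singular.induces_aut (S : Singular Q z U) (φ : ↥U ≃* ↥U) :
    ∃ g ∈ (⨆ u ∈ ((U : Set G) \ {1}), Q u), ∀ u : ↥U, g * (u : G) * g⁻¹ = ((φ u : ↥U) : G) := by
  classical
  set LU := ⨆ u ∈ ((U : Set G) \ {1}), Q u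
  let P : Subgroup ↥U → Prop := fun W => ∃ g ∈ LU, ∀ w ∈ W, g * (w : G) * g⁻¹ = ((φ w : ↥U) : G)
  suffices h : P ⊤ by
    obtain ⟨g, hg, h⟩ := h
    exact ⟨g, hg, fun u => h u (Subgroup.mem_top u)⟩
  obtain ⟨W, ⟨g, hg, hgW⟩, hmax⟩ := (Set.toFinite {W : Subgroup ↥U | P W}).exists_maximalFor id _
    ⟨⊥, 1, one_mem _, fun w hw => by rw [Subgroup.mem_bot] at hw; simp [hw]⟩
  by_cases htop : W = ⊤
  · exact htop ▸ ⟨g, hg, hgW⟩
  obtain ⟨a, ha⟩ : ∃ a, a ∉ W := by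
    by_contra hall
    push Not at hall
    exact htop (Subgroup.eq_top_iff' W |>.mpr hall)
  exfalso
  have hN := S.lu_normalizes hg
  set c := g * (a : G) * g⁻¹ with hc
  have hcU : c ∈ U := (Subgroup.mem_normalizer_iff.mp hN _).mp a.2
  set b := ((φ a : ↥U) : G)
  have hkey : ∃ k ∈ LU, (∀ w ∈ W, k * (w : G) * k⁻¹ = ((φ w : ↥U) : G)) ∧ k * (a : G) * k⁻¹ = b := by
    by_cases hbc : b = c
    · exact ⟨g, hg, hgW, hbc.symm⟩
    let W' : Subgroup G := (W.map φ.toMonoidHom).map U.subtype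
    have hcW : c ∉ W' := by
      rintro ⟨_, ⟨w, hw, rfl⟩, e⟩
      have e' : g * (w : G) * g⁻¹ = g * (a : G) * g⁻¹ := by rw [hgW w hw]; exact e
      exact ha (Subtype.ext (mul_left_cancel (mul_right_cancel e')) ▸ hw)
    have hbW : b ∉ W' := by
      rintro ⟨_, ⟨w, hw, rfl⟩, e⟩
      exact ha (φ.injective (Subtype.ext e) ▸ hw)
    obtain ⟨t, ht, htW, htc⟩ := S.transvection (Subgroup.map_subtype_le _) (φ a).2 hcU hbW hcW hbc
    refine ⟨t * g, mul_mem ht hg, fun w hw => ?_, ?_⟩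
    · rw [show t * g * (w : G) * (t * g)⁻¹ = t * (g * w * g⁻¹) * t⁻¹ by group, hgW w hw]
      exact htW _ (Subgroup.mem_map_of_mem _ (Subgroup.mem_map_of_mem _ hw))
    · rw [show t * g * (a : G) * (t * g)⁻¹ = t * c * t⁻¹ by rw [hc]; group, htc]
  obtain ⟨k, hk, hkW, hka⟩ := hkey
  let f₁ : ↥U →* G := (MulAut.conj k).toMonoidHom.comp U.subtype
  let f₂ : ↥U →* G := U.subtype.comp φ.toMonoidHom
  have hle : W ⊔ Subgroup.zpowers a ≤ f₁.eqLocus f₂ :=
    sup_le (fun w hw => hkW w hw) (by rw [Subgroup.zpowers_le]; exact hka)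
  have hge : W ⊔ Subgroup.zpowers a ≤ W := hmax (show P _ from ⟨k, hk, fun w hw => hle hw⟩) le_sup_left
  exact ha (hge (le_sup_right (a := W) (Subgroup.mem_zpowers a)))

end CfsgLargeExtra
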