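/-
A simplicity criterion from an extraspecial generalized Fitting subgroup of an involution centraliser.
-/
import Cfsg.Agent.Lib.LargeExtra.Cores
import Cfsg.Agent.Lib.LargeExtra.Four
import Cfsg.Agent.Lib.Components

set_option autoImplicit false

namespace CfsgLargeExtra

open Cfsg

variable {G : Type*} [Group G] [Finite G]

theorem simple_of_extraspecial (z : G) (hz : orderOf z = 2) {C : Subgroup G}
    (hCdef : C = Subgroup.centralizer ({z} : Set G)) (Q : Subgroup C)
    [hQn : Q.Normal] (hF : Cfsg.generalizedFittingSubgroup ↥C = Q)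
    (hQ : Cfsg.IsExtraspecial 2 ↥Q)
    (hnwc : ∃ g : G, (∃ hq : g * z * g⁻¹ ∈ C, (⟨g * z * g⁻¹, hq⟩ : C) ∈ Q) ∧ g * z * g⁻¹ ≠ z)
    (hsimp : IsSimpleGroup (↥C ⧸ Q))
    (hirr : ∀ W : Subgroup C, W.Normal → W ≤ Q → (W = Q ∨ ∀ x ∈ W, (x : G) ∈ Subgroup.zpowers z))
    (hwcl : Subgroup.closure {x : C | IsConj z (x : G)} ≠ Q) :
    IsSimpleGroup G := by
  haveI : Fact (Nat.Prime 2) := ⟨Nat.prime_two⟩
  have memC : ∀ {c : G}, c ∈ C ↔ c * z = z * c := fun {c} => by rw [hCdef]; exact Subgroup.mem_centralizer_singleton_iff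
  have hz1 : z ≠ 1 := fun e => by rw [e, orderOf_one] at hz; omega
  have hzz : z * z = 1 := by rw [← sq, ← hz, pow_orderOf_eq_one]
  have hCQ : Subgroup.centralizer (Q : Set C) ≤ Q := hF ▸ CfsgLib.centralizer_generalizedFitting_le
  have hzC : z ∈ C := memC.mpr rfl
  have hzQ : (⟨z, hzC⟩ : C) ∈ Q := hCQ (Subgroup.mem_centralizer_iff.mpr fun q _ => Subtype.ext (memC.mp q.2))
  obtain ⟨w, hw1, hwQ, hwmem⟩ := CfsgThreeTrans.center_map_eq Q hQ.2
  have hzw : (⟨z, hzC⟩ : C) = w := by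
    rcases (hwmem _).mp ⟨⟨_, hzQ⟩, Subgroup.mem_center_iff.mpr fun q =>
      Subtype.ext (Subtype.ext (memC.mp (q : C).2)), rfl⟩ with e | e
    · exact absurd (congrArg Subtype.val e) hz1
    · exact e
  -- only `1` and `z` centralize `Q`
  have hcen : ∀ c : G, c * z = z * c → (∀ q ∈ Q, c * (q : G) = q * c) → c = 1 ∨ c = z := by
    intro c hc h
    have hq : (⟨c, memC.mpr hc⟩ : C) ∈ Q := hCQ (Subgroup.mem_centralizer_iff.mpr fun q hq => Subtype.ext (h q hq).symm)
    rcases (hwmem _).mp ⟨⟨_, hq⟩, Subgroup.mem_center_iff.mpr fun q => Subtype.ext (Subtype.ext (h q q.2).symm), rfl⟩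
      with e | e
    · exact Or.inl (congrArg Subtype.val e)
    · exact Or.inr (congrArg Subtype.val (e.trans hzw.symm))
  obtain ⟨g, ⟨hgC, hgQ⟩, hgz⟩ := hnwc
  set t := g * z * g⁻¹ with ht
  have ht1 : t ≠ 1 := fun e => hz1 (conj_eq_one_iff.mp e)
  -- `t` is moved to `t * z` inside `Q`
  obtain ⟨a, ha, hat⟩ : ∃ a ∈ Q, (a : G) * t * (a : G)⁻¹ ≠ t := by
    by_contra hno
    push Not at hno
    rcases hcen t (memC.mp hgC) (fun q hq => (mul_inv_eq_iff_eq_mul.mp (hno q hq)).symm) with e | e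
    · exact ht1 e
    · exact hgz e
  have hat' : (a : G) * t * (a : G)⁻¹ = t * z := by
    obtain ⟨z₀, hz₀⟩ := CfsgLib.ExtraTwo.ofExtraspecial hQ
    have hz0 : ((z₀ : C) : G) = z := by
      rcases (hwmem _).mp ⟨z₀, (hz₀.center_iff _).mpr (Or.inr rfl), rfl⟩ with e | e
      · exact absurd (Subtype.ext e) hz₀.ne
      · exact congrArg Subtype.val (e.trans hzw.symm)
    have hsq : ∀ q ∈ Q, (q : G) * q = 1 ∨ (q : G) * q = z := fun q hq => by
      rcases hz₀.sq ⟨q, hq⟩ with e | e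
      · exact Or.inl (congrArg (fun x : Q => ((x : C) : G)) e)
      · exact Or.inr ((congrArg (fun x : Q => ((x : C) : G)) e).trans hz0)
    have he : (a : G) * t * (a : G)⁻¹ * t⁻¹ = ((a : G) * a) * (((a : G)⁻¹ * t) * ((a : G)⁻¹ * t)) * (t⁻¹ * t⁻¹) := by
      group
    have ha2 : (a : G) * t * (a : G)⁻¹ * t⁻¹ = 1 ∨ (a : G) * t * (a : G)⁻¹ * t⁻¹ = z := by
      rw [he]
      have h1 := hsq a ha
      have h2 := hsq (a⁻¹ * ⟨t, hgC⟩) (mul_mem (inv_mem ha) hgQ)
      have h3 := hsq (⟨t, hgC⟩⁻¹) (inv_mem hgQ)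
      push_cast at h2 h3
      rcases h1 with e1 | e1 <;> rcases h2 with e2 | e2 <;> rcases h3 with e3 | e3 <;> rw [e1, e2, e3] <;> simp [hzz]
    rcases ha2 with e | e
    · exact absurd (mul_inv_eq_one.mp e) hat
    · rw [mul_inv_eq_iff_eq_mul.mp e]; exact (memC.mp hgC).symm
  have key : ∀ N : Subgroup G, N.Normal → N ≠ ⊥ → N = ⊤ := by
    intro N hN hne
    set NC : Subgroup C := N.subgroupOf C with hNC
    haveI hNCn : NC.Normal := inferInstance
    have hNC1 : NC ≠ ⊥ := by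
      intro hbot
      -- `z` and `t` invert `N`
      have hfree : ∀ n ∈ N, n * z = z * n → n = 1 := fun n hn hc => by
        have : (⟨n, memC.mpr hc⟩ : C) ∈ NC := Subgroup.mem_subgroupOf.mpr hn
        rw [hbot, Subgroup.mem_bot] at this
        exact congrArg Subtype.val this
      have hinv : ∀ n ∈ N, z * n * z = n⁻¹ := by
        have hzi : z⁻¹ = z := inv_eq_of_mul_eq_one_right hzz
        let f : N → N := fun n => ⟨(n : G)⁻¹ * (z * n * z⁻¹), mul_mem (inv_mem n.2) (hN.conj_mem n n.2 z)⟩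
        have hf : Function.Injective f := fun n m e => by
          have e' : (n : G)⁻¹ * (z * n * z⁻¹) = (m : G)⁻¹ * (z * m * z⁻¹) := congrArg Subtype.val e
          have h1 : (m : G) * (n : G)⁻¹ = 1 := hfree _ (mul_mem m.2 (inv_mem n.2)) (by
            calc (m : G) * (n : G)⁻¹ * z = (m : G) * ((n : G)⁻¹ * (z * n * z⁻¹)) * (z * (n : G)⁻¹) := by group
              _ = (m : G) * ((m : G)⁻¹ * (z * m * z⁻¹)) * (z * (n : G)⁻¹) := by rw [e']
              _ = z * ((m : G) * (n : G)⁻¹) := by group)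
          exact Subtype.ext (mul_inv_eq_one.mp h1).symm
        intro n hn
        obtain ⟨m, hm⟩ := (Finite.injective_iff_surjective.mp hf) ⟨n, hn⟩
        have hm' : (m : G)⁻¹ * (z * m * z⁻¹) = n := congrArg Subtype.val hm
        rw [← hm', mul_inv_rev, inv_inv, mul_inv_rev, mul_inv_rev, inv_inv, hzi]
        calc z * ((m : G)⁻¹ * (z * m * z)) * z = z * (m : G)⁻¹ * z * m * (z * z) := by group
          _ = _ := by rw [hzz]; group
      have hinvt : ∀ n ∈ N, t * n * t⁻¹ = n⁻¹ := fun n hn => by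
        have h := hinv (g⁻¹ * n * g⁻¹⁻¹) (hN.conj_mem n hn g⁻¹)
        rw [inv_inv] at h
        have hzi : z⁻¹ = z := inv_eq_of_mul_eq_one_right hzz
        calc t * n * t⁻¹ = g * (z * (g⁻¹ * n * g) * z) * g⁻¹ := by rw [ht, mul_inv_rev, mul_inv_rev, inv_inv, hzi]; group
          _ = n⁻¹ := by rw [h]; group
      refine hne (Subgroup.eq_bot_iff_forall N |>.mpr fun n hn => ?_)
      have hm := hN.conj_mem n hn (a : G)⁻¹
      rw [inv_inv] at hm
      have h3 : (t * z) * n * (t * z)⁻¹ = n⁻¹ := by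
        rw [← hat']
        have h4 := hinvt _ hm
        calc (a : G) * t * (a : G)⁻¹ * n * ((a : G) * t * (a : G)⁻¹)⁻¹ = (a : G) * (t * ((a : G)⁻¹ * n * a) * t⁻¹) * (a : G)⁻¹ := by group
          _ = n⁻¹ := by rw [h4]; group
      have h5 : (t * z) * n * (t * z)⁻¹ = n := by
        have hzi : z⁻¹ = z := inv_eq_of_mul_eq_one_right hzz
        calc (t * z) * n * (t * z)⁻¹ = t * (z * n * z⁻¹) * t⁻¹ := by group
          _ = t * n⁻¹ * t⁻¹ := by rw [hzi, hinv n hn]
          _ = n := by rw [hinvt _ (inv_mem hn), inv_inv]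
      have h6 : n⁻¹ = n := h3.symm.trans h5
      refine hfree n hn ?_
      have := hinv n hn
      rw [h6] at this
      calc n * z = z * n * z * z := by rw [this]
        _ = z * n := by rw [mul_assoc, hzz, mul_one]
    -- hence `z ∈ N`
    have hzN : z ∈ N := by
      by_contra hzN
      rcases hirr (NC ⊓ Q) inferInstance inf_le_right with e | e
      · exact hzN (Subgroup.mem_subgroupOf.mp ((show (⟨z, hzC⟩ : C) ∈ NC ⊓ Q by rw [e]; exact hzQ).1))
      · have hdis : ∀ x ∈ NC ⊓ Q, x = 1 := fun x hx => by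
          obtain ⟨k, hk⟩ := Subgroup.mem_zpowers_iff.mp (e x hx)
          rcases Int.even_or_odd k with ⟨j, rfl⟩ | ⟨j, rfl⟩
          · rw [← two_mul, zpow_mul, zpow_two, hzz, one_zpow] at hk
            exact Subtype.ext hk.symm
          · rw [zpow_add, zpow_mul, zpow_two, hzz, one_zpow, one_mul, zpow_one] at hk
            exact absurd (hk ▸ Subgroup.mem_subgroupOf.mp hx.1) hzN
        refine hNC1 ((Subgroup.eq_bot_iff_forall NC).mpr fun x hx => hdis x ⟨hx, hCQ ?_⟩)
        refine Subgroup.mem_centralizer_iff.mpr fun q hq => ?_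
        have h1 : q * x * q⁻¹ * x⁻¹ ∈ NC ⊓ Q := ⟨NC.mul_mem (hNCn.conj_mem x hx q) (NC.inv_mem hx),
          show q * x * q⁻¹ * x⁻¹ ∈ Q by rw [show q * x * q⁻¹ * x⁻¹ = q * (x * q⁻¹ * x⁻¹) by group]; exact Q.mul_mem hq (hQn.conj_mem _ (Q.inv_mem hq) x)⟩
        exact mul_inv_eq_iff_eq_mul.mp (mul_inv_eq_one.mp (hdis _ h1))
    -- hence `C ≤ N`
    set W : Subgroup C := Subgroup.closure {x : C | IsConj z (x : G)} with hWdef
    haveI hWn : W.Normal := ⟨fun x hx c => by
      induction hx using Subgroup.closure_induction with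
      | mem x hx =>
        refine Subgroup.subset_closure ?_
        exact (show IsConj z (x : G) from hx).trans (isConj_iff.mpr ⟨c, rfl⟩)
      | one => simpa using one_mem _
      | mul x y _ _ h h' => rw [show c * (x * y) * c⁻¹ = (c * x * c⁻¹) * (c * y * c⁻¹) by group]; exact mul_mem h h'
      | inv x _ h => rw [show c * x⁻¹ * c⁻¹ = (c * x * c⁻¹)⁻¹ by group]; exact inv_mem h⟩
    have hWN : W ≤ NC := (Subgroup.closure_le _).mpr fun x hx => by
      obtain ⟨k, hk⟩ := isConj_iff.mp (show IsConj z (x : G) from hx)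
      exact Subgroup.mem_subgroupOf.mpr (hk ▸ hN.conj_mem z hzN k)
    have hQW : Q ≤ W := by
      rcases hirr (W ⊓ Q) inferInstance inf_le_right with e | e
      · exact inf_eq_right.mp e
      · exfalso
        obtain ⟨k, hk⟩ := Subgroup.mem_zpowers_iff.mp
          (e ⟨t, hgC⟩ ⟨Subgroup.subset_closure (isConj_iff.mpr ⟨g, rfl⟩), hgQ⟩)
        change z ^ k = t at hk
        rcases Int.even_or_odd k with ⟨j, rfl⟩ | ⟨j, rfl⟩
        · rw [← two_mul, zpow_mul, zpow_two, hzz, one_zpow] at hk; exact ht1 hk.symm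
        · rw [zpow_add, zpow_mul, zpow_two, hzz, one_zpow, one_mul, zpow_one] at hk; exact hgz hk.symm
    have hWtop : W = ⊤ := by
      haveI := hsimp
      haveI : (W.map (QuotientGroup.mk' Q)).Normal := hWn.map _ (QuotientGroup.mk'_surjective Q)
      rcases (inferInstance : (W.map (QuotientGroup.mk' Q)).Normal).eq_bot_or_eq_top with e | e
      · exfalso
        rw [Subgroup.map_eq_bot_iff, QuotientGroup.ker_mk'] at e
        exact hwcl (le_antisymm e hQW)
      · rw [← sup_eq_left.mpr hQW]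
        have h2 := congrArg (Subgroup.comap (QuotientGroup.mk' Q)) e
        rw [Subgroup.comap_map_eq, QuotientGroup.ker_mk', Subgroup.comap_top] at h2
        exact h2
    have hCN : C ≤ N := fun c hc => Subgroup.mem_subgroupOf.mp (hWN (hWtop ▸ Subgroup.mem_top (⟨c, hc⟩ : C)))
    -- a Sylow 2-subgroup inside `C`
    have hQ2 : IsPGroup 2 (Q.map C.subtype) := hQ.1.1.map C.subtype
    obtain ⟨T, hT⟩ := hQ2.exists_le_sylow
    have hzT : z ∈ (T : Subgroup G) := hT ⟨⟨z, hzC⟩, hzQ, rfl⟩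
    have hcenT : ∀ y ∈ (T : Subgroup G), (∀ s ∈ (T : Subgroup G), y * s = s * y) → y = 1 ∨ y = z :=
      fun y hy h => hcen y (h z hzT) fun q hq => h q (hT ⟨q, hq, rfl⟩)
    haveI : Nontrivial (T : Subgroup G) := ⟨⟨⟨z, hzT⟩, 1, fun e => hz1 (congrArg Subtype.val e)⟩⟩
    haveI := T.isPGroup'.center_nontrivial
    obtain ⟨⟨y, hyT⟩, hy1⟩ := exists_ne (1 : Subgroup.center (T : Subgroup G))
    have hzcen : ∀ s ∈ (T : Subgroup G), z * s = s * z := by
      have hy := Subgroup.mem_center_iff.mp hyT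
      have hy' : ∀ s ∈ (T : Subgroup G), (y : G) * s = s * y := fun s hs =>
        (congrArg Subtype.val (hy ⟨s, hs⟩)).symm
      rcases hcenT y y.2 hy' with e | e
      · exact absurd (Subtype.ext (Subtype.ext e)) hy1
      · rwa [e] at hy'
    have hTC : (T : Subgroup G) ≤ C := fun s hs => memC.mpr (hzcen s hs).symm
    have hTN : (T : Subgroup G) ≤ N := hTC.trans hCN
    have hfr := Sylow.normalizer_sup_eq_top (T.subtype hTN)
    have hmap : (((T.subtype hTN : Sylow 2 N) : Subgroup N).map N.subtype) = (T : Subgroup G) :=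
      Subgroup.map_subgroupOf_eq_of_le hTN
    rw [hmap] at hfr
    refine top_le_iff.mp (hfr ▸ sup_le (fun x hx => hCN (memC.mpr ?_)) le_rfl)
    have hm : ∀ s, s ∈ (T : Subgroup G) ↔ x * s * x⁻¹ ∈ (T : Subgroup G) := Subgroup.mem_normalizer_iff.mp hx
    have hxz : ∀ s ∈ (T : Subgroup G), (x * z * x⁻¹) * s = s * (x * z * x⁻¹) := fun s hs => by
      have hs' : x⁻¹ * s * x ∈ (T : Subgroup G) := (hm _).mpr (by
        rw [show x * (x⁻¹ * s * x) * x⁻¹ = s by group]; exact hs)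
      calc x * z * x⁻¹ * s = x * (z * (x⁻¹ * s * x)) * x⁻¹ := by group
        _ = x * (x⁻¹ * s * x * z) * x⁻¹ := by rw [hzcen _ hs']
        _ = s * (x * z * x⁻¹) := by group
    rcases hcenT _ ((hm z).mp hzT) hxz with e | e
    · exact absurd (conj_eq_one_iff.mp e) hz1
    · exact mul_inv_eq_iff_eq_mul.mp e
  haveI : Nontrivial G := ⟨⟨z, 1, hz1⟩⟩
  exact ⟨fun N hN => (Classical.em (N = ⊥)).imp id (key N hN)⟩

end CfsgLargeExtra
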