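/-
Simplicity and largeness from an abelian subgroup generated by conjugates of a central involution.
-/
import Cfsg.Agent.Lib.LargeExtra.Cores
import Cfsg.Agent.Lib.LargeExtra.Four
import Cfsg.Agent.Lib.Components

set_option autoImplicit false

namespace CfsgLargeExtra

open Cfsg

variable {G : Type*} [Group G] [Finite G]

/-- A group with a large extraspecial subgroup `Q` is simple as soon as the normal closure of `z` covers `C(z)`. -/
theorem simple_of_cover {Q : Subgroup G} {z : G} (h : ES Q z)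
    (hodd : ∀ K : Subgroup G, Odd (Nat.card K) → Q ≤ Subgroup.normalizer (K : Set G) → K = ⊥)
    (hcover : ∀ N : Subgroup G, N.Normal → z ∈ N → Subgroup.centralizer ({z} : Set G) ≤ N) : IsSimpleGroup G := by
  haveI : Fact (Nat.Prime 2) := ⟨Nat.prime_two⟩
  have hQ2 : IsPGroup 2 Q := fun q => ⟨2, Subtype.ext (by
    show (q : G) ^ (2 ^ 2) = 1
    rw [show 2 ^ 2 = 2 * 2 from rfl, pow_mul, sq, sq]
    rcases h.sq q q.2 with e | e <;> rw [e]
    · rw [one_mul]
    · exact h.zz)⟩
  have key : ∀ N : Subgroup G, N.Normal → N ≠ ⊥ → N = ⊤ := by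
    intro N hN hne
    have hzN : z ∈ N := by
      by_contra hzN
      have hQN : ∀ x ∈ N, x ∈ Q → x = 1 := by
        intro x hxN hxQ
        by_contra hx1
        by_cases hxz : x = z
        · exact hzN (hxz ▸ hxN)
        obtain ⟨a, ha, e⟩ : ∃ a ∈ Q, a * x * a⁻¹ ≠ x := by
          by_contra hno
          push Not at hno
          rcases h.cen x (fun q hq => (mul_inv_eq_iff_eq_mul.mp (hno q hq)).symm) with e | e
          · exact hx1 e
          · exact hxz e
        have h1 := N.mul_mem (N.inv_mem hxN) (hN.conj_mem x hxN a)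
        rw [(h.conj_cases ha hxQ).resolve_left e, inv_mul_cancel_left] at h1
        exact hzN h1
      have hfree : ∀ n ∈ N, n * z = z * n → n = 1 := by
        intro n hn hc
        rcases h.cen n (fun q hq => by
          have h2 := hQN (n * q * n⁻¹ * q⁻¹)
            (by rw [show n * q * n⁻¹ * q⁻¹ = n * (q * n⁻¹ * q⁻¹) by group]
                exact N.mul_mem hn (hN.conj_mem _ (N.inv_mem hn) q))
            (Q.mul_mem (h.nor n hc q hq) (Q.inv_mem hq))
          exact mul_inv_eq_iff_eq_mul.mp (mul_inv_eq_one.mp h2)) with e | e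
        · exact e
        · exact absurd (e ▸ hn) hzN
      refine hne (hodd N ?_ ?_)
      · rw [Nat.odd_iff]
        by_contra h2
        obtain ⟨n, hn⟩ := exists_prime_orderOf_dvd_card' (G := N) 2 (Nat.dvd_of_mod_eq_zero (by omega))
        -- an involution fixed by conjugation
        have hzz := h.zz
        have hzi : z⁻¹ = z := inv_eq_of_mul_eq_one_right hzz
        let f : N → N := fun n => ⟨(n : G)⁻¹ * (z * n * z⁻¹), mul_mem (inv_mem n.2) (hN.conj_mem n n.2 z)⟩
        have hf : Function.Injective f := fun n m e => by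
          have e' : (n : G)⁻¹ * (z * n * z⁻¹) = (m : G)⁻¹ * (z * m * z⁻¹) := congrArg Subtype.val e
          have h1 : (m : G) * (n : G)⁻¹ = 1 := hfree _ (mul_mem m.2 (inv_mem n.2)) (by
            calc (m : G) * (n : G)⁻¹ * z = (m : G) * ((n : G)⁻¹ * (z * n * z⁻¹)) * (z * (n : G)⁻¹) := by group
              _ = (m : G) * ((m : G)⁻¹ * (z * m * z⁻¹)) * (z * (n : G)⁻¹) := by rw [e']
              _ = z * ((m : G) * (n : G)⁻¹) := by group)
          exact Subtype.ext (mul_inv_eq_one.mp h1).symm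
        obtain ⟨m, hm⟩ := (Finite.injective_iff_surjective.mp hf) n
        have hm' : (m : G)⁻¹ * (z * m * z⁻¹) = n := congrArg Subtype.val hm
        have hn2 : ((n : G))⁻¹ = n := by
          have := congrArg Subtype.val (pow_orderOf_eq_one n)
          rw [hn] at this
          exact inv_eq_of_mul_eq_one_right (by rw [← sq]; exact this)
        have hfix : (n : G) * z = z * n := by
          have hinv : z * n * z = (n : G)⁻¹ := by
            rw [← hm', mul_inv_rev, inv_inv, mul_inv_rev, mul_inv_rev, inv_inv, hzi]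
            calc z * ((m : G)⁻¹ * (z * m * z)) * z = z * (m : G)⁻¹ * z * m * (z * z) := by group
              _ = _ := by rw [hzz]; group
          rw [hn2] at hinv
          calc (n : G) * z = z * n * z * z := by rw [hinv]
            _ = z * n := by rw [mul_assoc, hzz, mul_one]
        rw [orderOf_eq_one_iff.mpr (show n = 1 from Subtype.ext (hfree n n.2 hfix))] at hn
        omega
      · exact fun q _ => Subgroup.normalizer_eq_top_iff.mpr hN ▸ Subgroup.mem_top q
    have hCN := hcover N hN hzN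
    obtain ⟨T, hT⟩ := hQ2.exists_le_sylow
    have hzT : z ∈ (T : Subgroup G) := hT h.mem
    have hcenT : ∀ y, (∀ s ∈ (T : Subgroup G), y * s = s * y) → y = 1 ∨ y = z :=
      fun y hy => h.cen y fun q hq => hy q (hT hq)
    haveI : Nontrivial (T : Subgroup G) := ⟨⟨⟨z, hzT⟩, 1, fun e => h.ne (congrArg Subtype.val e)⟩⟩
    haveI := T.isPGroup'.center_nontrivial
    obtain ⟨⟨y, hyT⟩, hy1⟩ := exists_ne (1 : Subgroup.center (T : Subgroup G))
    have hzcen : ∀ s ∈ (T : Subgroup G), z * s = s * z := by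
      have hy' : ∀ s ∈ (T : Subgroup G), (y : G) * s = s * y := fun s hs =>
        (congrArg Subtype.val (Subgroup.mem_center_iff.mp hyT ⟨s, hs⟩)).symm
      rcases hcenT y hy' with e | e
      · exact absurd (Subtype.ext (Subtype.ext e)) hy1
      · rwa [e] at hy'
    have memC : ∀ {c : G}, c ∈ Subgroup.centralizer ({z} : Set G) ↔ c * z = z * c :=
      fun {c} => Subgroup.mem_centralizer_singleton_iff
    have hTN : (T : Subgroup G) ≤ N := fun s hs => hCN (memC.mpr (hzcen s hs).symm)
    haveI := hN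
    have hfr := Sylow.normalizer_sup_eq_top (T.subtype hTN)
    have hmap : (((T.subtype hTN : Sylow 2 N) : Subgroup N).map N.subtype) = (T : Subgroup G) :=
      Subgroup.map_subgroupOf_eq_of_le hTN
    rw [hmap] at hfr
    refine top_le_iff.mp (hfr ▸ sup_le (fun x hx => hCN (memC.mpr ?_)) le_rfl)
    have hm : ∀ s, s ∈ (T : Subgroup G) ↔ x * s * x⁻¹ ∈ (T : Subgroup G) := Subgroup.mem_normalizer_iff.mp hx
    have hxz : ∀ s ∈ (T : Subgroup G), (x * z * x⁻¹) * s = s * (x * z * x⁻¹) := fun s hs => by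
      have hs' : x⁻¹ * s * x ∈ (T : Subgroup G) := (hm _).mpr (by
        rw [show x * (x⁻¹ * s * x) * x⁻¹ = s by group]; exact hs)
      calc x * z * x⁻¹ * s = x * (z * (x⁻¹ * s * x)) * x⁻¹ := by group
        _ = x * (x⁻¹ * s * x * z) * x⁻¹ := by rw [hzcen _ hs']
        _ = s * (x * z * x⁻¹) := by group
    rcases hcenT _ hxz with e | e
    · exact absurd (conj_eq_one_iff.mp e) h.ne
    · exact mul_inv_eq_iff_eq_mul.mp e
  haveI : Nontrivial G := ⟨⟨z, 1, h.ne⟩⟩
  exact ⟨fun N hN => (Classical.em (N = ⊥)).imp id (key N hN)⟩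

theorem simple_and_large (z : G) (hz : orderOf z = 2) {C : Subgroup G} (hCdef : C = Subgroup.centralizer ({z} : Set G))
    (Q : Subgroup G) (hF : (Cfsg.generalizedFittingSubgroup ↥C).map C.subtype = Q)
    (hQ : Cfsg.IsExtraspecial 2 ↥Q) (h8 : 8 < Nat.card Q) (K U : Subgroup G)
    (hU : U = Subgroup.closure {x : G | ∃ k ∈ K, x = k * z * k⁻¹}) (hUab : IsMulCommutative ↥U)
    (hgen : Subgroup.closure {x : G | ∃ c ∈ C, ∃ u ∈ U, x = c * u * c⁻¹} = C)
    (h3 : (∃ k ∈ K, k * z * k⁻¹ ∈ Q ∧ k * z * k⁻¹ ≠ z) ∨ ∃ u ∈ U ⊓ Q, u ∉ Subgroup.zpowers z ∧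
      (∃ hz' : z ∈ Subgroup.centralizer ({u} : Set G),
        (⟨z, hz'⟩ : ↥(Subgroup.centralizer ({u} : Set G))) ∈ Cfsg.pCore 2 ↥(Subgroup.centralizer ({u} : Set G)))) :
    IsSimpleGroup G ∧ Cfsg.IsLargeExtraspecial Q := by
  have memC : ∀ {c : G}, c ∈ C ↔ c * z = z * c := fun {c} => by rw [hCdef]; exact Subgroup.mem_centralizer_singleton_iff
  have hz1 : z ≠ 1 := fun e => by rw [e, orderOf_one] at hz; omega
  have hzz : z * z = 1 := by rw [← sq, ← hz, pow_orderOf_eq_one]
  have hzC : z ∈ C := memC.mpr rfl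
  have hQC : ∀ q ∈ Q, q * z = z * q := fun q hq => by
    rw [← hF] at hq
    obtain ⟨q, -, rfl⟩ := hq
    exact memC.mp q.2
  have hzQ : z ∈ Q := by
    rw [← hF]
    exact ⟨⟨z, hzC⟩, CfsgLib.centralizer_generalizedFitting_le (Subgroup.mem_centralizer_iff.mpr
      fun q _ => Subtype.ext (memC.mp q.2)), rfl⟩
  have hcQ : Subgroup.centralizer (Q : Set G) ≤ Q := by
    intro c hc
    have hcz : c * z = z * c := (Subgroup.mem_centralizer_iff.mp hc z hzQ).symm
    rw [← hF]
    exact ⟨⟨c, memC.mpr hcz⟩, CfsgLib.centralizer_generalizedFitting_le (Subgroup.mem_centralizer_iff.mpr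
      fun q hq => Subtype.ext (Subgroup.mem_centralizer_iff.mp hc q (hF ▸ ⟨q, hq, rfl⟩))), rfl⟩
  have hnor : ∀ c : G, c * z = z * c → ∀ q ∈ Q, c * q * c⁻¹ ∈ Q := by
    intro c hc q hq
    rw [← hF] at hq ⊢
    obtain ⟨q, hq, rfl⟩ := hq
    haveI : (Cfsg.generalizedFittingSubgroup ↥C).Normal := inferInstance
    exact ⟨⟨c, memC.mpr hc⟩ * q * ⟨c, memC.mpr hc⟩⁻¹, Subgroup.Normal.conj_mem ‹_› q hq _, rfl⟩
  obtain ⟨w, hw1, hwQ, hwmem⟩ := CfsgThreeTrans.center_map_eq Q hQ.2
  have hzw : z = w := by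
    rcases (hwmem z).mp ⟨⟨z, hzQ⟩, Subgroup.mem_center_iff.mpr fun q => Subtype.ext (hQC q q.2), rfl⟩ with e | e
    · exact absurd e hz1
    · exact e
  subst hzw
  have h : ES Q z := ES.of_extraspecial hQ hwmem hz1 hcQ hnor
  have hL2 : Subgroup.centralizer (Q : Set G) = (Subgroup.center Q).map Q.subtype := by
    refine le_antisymm (fun c hc => (hwmem c).mpr (h.cen c fun q hq => (Subgroup.mem_centralizer_iff.mp hc q hq).symm))
      (fun c hc => Subgroup.mem_centralizer_iff.mpr fun q hq => ?_)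
    rcases (hwmem c).mp hc with rfl | rfl
    · simp
    · exact hQC q hq
  have hL3 : Subgroup.centralizer (((Subgroup.center Q).map Q.subtype) : Set G) ≤ Subgroup.normalizer (Q : Set G) := by
    intro c hc
    have hcz : c * z = z * c := (Subgroup.mem_centralizer_iff.mp hc z ((hwmem z).mpr (Or.inr rfl))).symm
    refine Subgroup.mem_normalizer_iff.mpr fun q => ⟨hnor c hcz q, fun hq => ?_⟩
    have := hnor c⁻¹ (by rw [eq_mul_inv_iff_mul_eq, mul_assoc, ← hcz, ← mul_assoc, inv_mul_cancel, one_mul]) _ hq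
    simpa [mul_assoc] using this
  have hlarge : Cfsg.IsLargeExtraspecial Q := by
    rcases h3 with ⟨k, -, hkQ, hkz⟩ | ⟨u, ⟨huU, huQ⟩, huz, hz', hcore⟩
    · refine (four_and_large hQ hL2 hL3 h8 k (fun hk => hkz ?_) ?_).2.2
      · rcases (hwmem _).mp ((Subgroup.mem_normalizer_iff.mp hk z).mp ((hwmem z).mpr (Or.inr rfl))) with e | e
        · exact absurd (conj_eq_one_iff.mp e) hz1
        · exact e
      · rintro _ ⟨y, hy, rfl⟩
        rcases (hwmem y).mp hy with rfl | rfl
        · simp
        · exact hkQ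
    · have hsq : ∀ x ∈ U, x * x = 1 := by
        have hc : ∀ x ∈ U, ∀ y ∈ U, x * y = y * x := fun x hx y hy =>
          congrArg Subtype.val (hUab.is_comm.comm ⟨x, hx⟩ ⟨y, hy⟩)
        intro x hx
        rw [hU] at hx hc
        induction hx using Subgroup.closure_induction with
        | mem x hx =>
          obtain ⟨k, -, rfl⟩ := hx
          rw [show k * z * k⁻¹ * (k * z * k⁻¹) = k * (z * z) * k⁻¹ by group, hzz, mul_one, mul_inv_cancel]
        | one => simp
        | mul a b ha hb h1 h2 =>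
          rw [show a * b * (a * b) = a * (b * a) * b by group, hc b hb a ha,
            show a * (a * b) * b = (a * a) * (b * b) by group, h1, h2, one_mul]
        | inv a _ h1 => rw [← mul_inv_rev, h1, inv_one]
      refine large_of_involution hQ hL2 hL3 u huQ (fun hu => huz ?_) ?_ ?_
      · rcases (hwmem u).mp hu with rfl | rfl
        exacts [one_mem _, Subgroup.mem_zpowers _]
      · refine orderOf_eq_prime (by rw [sq]; exact hsq u huU) fun e => huz (e ▸ one_mem _)
      · intro y hy
        rcases (hwmem y).mp hy with rfl | rfl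
        · exact one_mem _
        · exact ⟨⟨_, hz'⟩, hcore, rfl⟩
  refine ⟨simple_of_cover h hlarge.2.2.2 fun N hN hzN => ?_, hlarge⟩
  rw [← hCdef, ← hgen]
  refine (Subgroup.closure_le N).mpr ?_
  rintro _ ⟨c, -, u, hu, rfl⟩
  refine hN.conj_mem u ?_ c
  rw [hU] at hu
  refine (Subgroup.closure_le N).mpr ?_ hu
  rintro _ ⟨k, -, rfl⟩
  exact hN.conj_mem z hzN k

end CfsgLargeExtra
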