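/-
The normal closure of the centre of a large extraspecial subgroup.
-/
import Cfsg.Agent.Lib.LargeExtra.Cores
import Cfsg.Agent.Lib.LargeExtra.Odd
import Cfsg.Agent.Lib.Comp.Layer
import Cfsg.Agent.Lib.Comp.BalanceTwo
import Cfsg.Agent.Lib.RankFrattini

set_option autoImplicit false
set_option linter.style.haveILetI false

namespace CfsgLargeExtra

open Cfsg
open scoped commutatorElement

universe u
variable {G : Type u} [Group G] [Finite G] {Q : Subgroup G} {z : G}

/-- The hypotheses of a large extraspecial subgroup. -/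
structure Big (Q : Subgroup G) (z : G) : Prop where
  es : ES Q z
  odd : ∀ K : Subgroup G, Odd (Nat.card K) → Q ≤ Subgroup.normalizer (K : Set G) → K = ⊥

theorem mem_sSup_of {S : Set (Subgroup G)} {K : Subgroup G} (hK : K ∈ S) {x : G} (hx : x ∈ K) : x ∈ sSup S :=
  le_sSup hK hx

variable (hb : Big Q z)
include hb

theorem Big.isTwo : IsPGroup 2 Q := hb.es.toExt.isPGroup

/-- A nontrivial normal 2-subgroup contains `z`. -/
theorem Big.mem_two (N : Subgroup G) [hN : N.Normal] (h2 : IsPGroup 2 N) (hne : N ≠ ⊥) : z ∈ N := by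
  classical
  haveI : Fact (Nat.Prime 2) := ⟨Nat.prime_two⟩
  haveI : Nontrivial N := (Subgroup.nontrivial_iff_ne_bot N).mpr hne
  letI : MulAction Q N := MulAction.compHom N ((MulAut.conjNormal (H := N)).comp Q.subtype)
  have h1 : (1 : N) ∈ MulAction.fixedPoints Q N := fun q =>
    Subtype.ext (show (q : G) * ((1 : N) : G) * (q : G)⁻¹ = ((1 : N) : G) by simp)
  obtain ⟨n, hn, hne'⟩ := hb.isTwo.exists_fixed_point_of_prime_dvd_card_of_fixed_point (α := N)
    (by
      obtain ⟨k, hk⟩ := h2.exists_card_eq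
      rcases k with _ | k
      · simp at hk
        exact absurd hk hne
      · rw [hk]; exact dvd_pow_self 2 (Nat.succ_ne_zero k)) h1
  rcases hb.es.cen (n : G) (fun q hq => by
    have := congrArg Subtype.val (hn ⟨q, hq⟩)
    exact (mul_inv_eq_iff_eq_mul.mp this).symm) with e | e
  · exact absurd (Subtype.ext e.symm) hne'
  · exact e ▸ n.2

/-- A nontrivial normal subgroup contains `z`. -/
theorem Big.mem_normal (N : Subgroup G) [hN : N.Normal] (hne : N ≠ ⊥) : z ∈ N := by
  haveI : Fact (Nat.Prime 2) := ⟨Nat.prime_two⟩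
  have h := hb.es
  by_contra hzN
  have hQN : ∀ x ∈ N, x ∈ Q → x = 1 := by
    intro x hxN hxQ
    by_contra hx1
    by_cases hxz : x = z
    · exact hzN (hxz ▸ hxN)
    obtain ⟨a, ha, e⟩ : ∃ a ∈ Q, a * x * a⁻¹ ≠ x := by
      by_contra hno
      push Not at hno
      rcases h.cen x (fun q hq => (mul_inv_eq_iff_eq_mul.mp (hno q hq)).symm) with e | e
      · exact hx1 e
      · exact hxz e
    have h1 := N.mul_mem (N.inv_mem hxN) (hN.conj_mem x hxN a)
    rw [(h.conj_cases ha hxQ).resolve_left e, inv_mul_cancel_left] at h1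
    exact hzN h1
  have hfree : ∀ n ∈ N, n * z = z * n → n = 1 := by
    intro n hn hc
    rcases h.cen n (fun q hq => by
      have h2 := hQN (n * q * n⁻¹ * q⁻¹)
        (by rw [show n * q * n⁻¹ * q⁻¹ = n * (q * n⁻¹ * q⁻¹) by group]
            exact N.mul_mem hn (hN.conj_mem _ (N.inv_mem hn) q))
        (Q.mul_mem (h.nor n hc q hq) (Q.inv_mem hq))
      exact mul_inv_eq_iff_eq_mul.mp (mul_inv_eq_one.mp h2)) with e | e
    · exact e
    · exact absurd (e ▸ hn) hzN
  refine hne (hb.odd N ?_ ?_)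
  · rw [Nat.odd_iff]
    by_contra h2
    obtain ⟨n, hn⟩ := exists_prime_orderOf_dvd_card' (G := N) 2 (Nat.dvd_of_mod_eq_zero (by omega))
    have hzz := h.zz
    have hzi : z⁻¹ = z := inv_eq_of_mul_eq_one_right hzz
    let f : N → N := fun n => ⟨(n : G)⁻¹ * (z * n * z⁻¹), mul_mem (inv_mem n.2) (hN.conj_mem n n.2 z)⟩
    have hf : Function.Injective f := fun n m e => by
      have e' : (n : G)⁻¹ * (z * n * z⁻¹) = (m : G)⁻¹ * (z * m * z⁻¹) := congrArg Subtype.val e
      have h1 : (m : G) * (n : G)⁻¹ = 1 := hfree _ (mul_mem m.2 (inv_mem n.2)) (by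
        calc (m : G) * (n : G)⁻¹ * z = (m : G) * ((n : G)⁻¹ * (z * n * z⁻¹)) * (z * (n : G)⁻¹) := by group
          _ = (m : G) * ((m : G)⁻¹ * (z * m * z⁻¹)) * (z * (n : G)⁻¹) := by rw [e']
          _ = z * ((m : G) * (n : G)⁻¹) := by group)
      exact Subtype.ext (mul_inv_eq_one.mp h1).symm
    obtain ⟨m, hm⟩ := (Finite.injective_iff_surjective.mp hf) n
    have hm' : (m : G)⁻¹ * (z * m * z⁻¹) = n := congrArg Subtype.val hm
    have hn2 : ((n : G))⁻¹ = n := by
      have := congrArg Subtype.val (pow_orderOf_eq_one n)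
      rw [hn] at this
      exact inv_eq_of_mul_eq_one_right (by rw [← sq]; exact this)
    have hfix : (n : G) * z = z * n := by
      have hinv : z * n * z = (n : G)⁻¹ := by
        rw [← hm', mul_inv_rev, inv_inv, mul_inv_rev, mul_inv_rev, inv_inv, hzi]
        calc z * ((m : G)⁻¹ * (z * m * z)) * z = z * (m : G)⁻¹ * z * m * (z * z) := by group
          _ = _ := by rw [hzz]; group
      rw [hn2] at hinv
      calc (n : G) * z = z * n * z * z := by rw [hinv]
        _ = z * n := by rw [mul_assoc, hzz, mul_one]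
    rw [orderOf_eq_one_iff.mpr (show n = 1 from Subtype.ext (hfree n n.2 hfix))] at hn
    omega
  · exact fun q _ => Subgroup.normalizer_eq_top_iff.mpr hN ▸ Subgroup.mem_top q

/-- No component centralises `z`. -/
theorem Big.comp_moved {K : Subgroup G} (hK : IsComponent K) : ∃ k ∈ K, k * z ≠ z * k := by
  by_contra hno
  push Not at hno
  have h := hb.es
  let N := Subgroup.normalizer (Q : Set G)
  have hKN : K ≤ N := fun k hk => Subgroup.mem_normalizer_iff.mpr fun q => ⟨h.nor k (hno k hk) q, fun hq => by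
    have := h.nor k⁻¹ (hno _ (inv_mem hk)) _ hq
    simpa [mul_assoc] using this⟩
  have hQN : Q ≤ N := Subgroup.le_normalizer
  have hK' := CfsgLib.isComponent_subgroupOf hK hKN
  haveI : (Q.subgroupOf N).Normal := (Subgroup.normal_subgroupOf_iff_le_normalizer hQN).mpr le_rfl
  haveI : Group.IsSolvable Q := by
    haveI : Fact (Nat.Prime 2) := ⟨Nat.prime_two⟩
    haveI := hb.isTwo.isNilpotent
    infer_instance
  rcases CfsgLib.component_le_or_commutator_eq_bot hK' (Q.subgroupOf N) with e | e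
  · refine CfsgLib.component_not_le_of_isSolvable hK inferInstance (?_ : K ≤ Q)
    intro k hk
    exact e (show (⟨k, hKN hk⟩ : N) ∈ K.subgroupOf N from hk)
  · have hc := CfsgLib.commutator_subgroupOf_eq_bot hKN hQN e
    refine CfsgLib.component_not_le_of_isSolvable hK inferInstance (?_ : K ≤ Q)
    intro k hk
    rcases h.cen k (fun q hq => CfsgLib.Comp.comm_of_commutator_eq_bot hc hk hq) with e | e <;> rw [e]
    · exact one_mem _
    · exact h.mem

/-- A Sylow 2-subgroup centralising `z`. -/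
theorem Big.exists_sylow : ∃ T : Sylow 2 G, ∀ s ∈ (T : Subgroup G), s * z = z * s := by
  haveI : Fact (Nat.Prime 2) := ⟨Nat.prime_two⟩
  obtain ⟨T, hT⟩ := hb.isTwo.exists_le_sylow
  have hzT : z ∈ (T : Subgroup G) := hT hb.es.mem
  haveI : Nontrivial (T : Subgroup G) := ⟨⟨⟨z, hzT⟩, 1, fun e => hb.es.ne (congrArg Subtype.val e)⟩⟩
  haveI := T.isPGroup'.center_nontrivial
  obtain ⟨⟨y, hyT⟩, hy1⟩ := exists_ne (1 : Subgroup.center (T : Subgroup G))
  have hy : ∀ s ∈ (T : Subgroup G), (y : G) * s = s * y := fun s hs =>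
    (congrArg Subtype.val (Subgroup.mem_center_iff.mp hyT ⟨s, hs⟩)).symm
  rcases hb.es.cen y (fun q hq => hy q (hT hq)) with e | e
  · exact absurd (Subtype.ext (Subtype.ext e)) hy1
  · exact ⟨T, fun s hs => by rw [← e]; exact (hy s hs).symm⟩

theorem Big.fitting_eq : fittingSubgroup G = pCore 2 G := by
  refine le_antisymm ?_ (CfsgLib.pCore_le_fittingSubgroup Nat.prime_two)
  rw [CfsgLib.fittingSubgroup_eq_iSup_pCore]
  refine iSup_le fun p => ?_
  by_cases hp : (p : ℕ) = 2
  · rw [hp]
  · haveI : Fact (Nat.Prime (p : ℕ)) := ⟨p.2⟩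
    obtain ⟨k, hk⟩ := (CfsgLib.isPGroup_pCore (G := G) (p : ℕ)).exists_card_eq
    rw [hb.odd (pCore (p : ℕ) G) (by rw [hk]; exact (p.2.odd_of_ne_two hp).pow)
      (fun q _ => (Subgroup.normalizer_eq_top_iff (H := pCore (p : ℕ) G)).mpr inferInstance ▸ Subgroup.mem_top q)]
    exact bot_le

theorem Big.structure_all (M : Subgroup G) (hM : M = Subgroup.normalClosure ({z} : Set G)) :
    (IsMulCommutative ↥M ∧ Cfsg.generalizedFittingSubgroup G = Cfsg.pCore 2 G) ∨
      (M = Cfsg.generalizedFittingSubgroup G ∧ IsSimpleGroup ↥M ∧ ¬ IsMulCommutative ↥M) ∨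
      (M = Cfsg.generalizedFittingSubgroup G ∧ ∃ (L : Subgroup G) (u : G), u ∈ Q ∧ IsSimpleGroup ↥L ∧
        ¬ IsMulCommutative ↥L ∧ L ⊓ (L).map (MulAut.conj u).toMonoidHom = ⊥ ∧
        (∀ x ∈ L, ∀ y ∈ (L).map (MulAut.conj u).toMonoidHom, x * y = y * x) ∧
        L ⊔ (L).map (MulAut.conj u).toMonoidHom = M ∧ ∃ z₁ ∈ L, z = z₁ * (u * z₁ * u⁻¹) ∧
        (∃ R : Sylow 2 ↥L, (R : Subgroup ↥L) = (Subgroup.centralizer ({z₁} : Set G)).subgroupOf L ∧
          (frattini ↥(R : Subgroup ↥L)).map ((L.subtype).comp (R : Subgroup ↥L).subtype) ≤ Subgroup.zpowers z₁) ∧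
        Q ≠ (Cfsg.pCore 2 ↥(Subgroup.centralizer ({z} : Set G))).map
          (Subgroup.centralizer ({z} : Set G)).subtype) := by
  classical
  haveI : Fact (Nat.Prime 2) := ⟨Nat.prime_two⟩
  have h := hb.es
  haveI hMn : M.Normal := hM ▸ Subgroup.normalClosure_normal
  have hzM : z ∈ M := hM ▸ Subgroup.subset_normalClosure rfl
  by_cases hV : pCore 2 G ≠ ⊥
  · -- a nontrivial 2-core
    left
    set V := pCore 2 G
    haveI : Nontrivial V := (Subgroup.nontrivial_iff_ne_bot V).mpr hV
    let Z := (Subgroup.center V).map V.subtype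
    haveI : Z.Normal := ⟨fun x hx c => by
      obtain ⟨v, hv, rfl⟩ := hx
      refine ⟨⟨c * v * c⁻¹, (inferInstance : V.Normal).conj_mem v v.2 c⟩, Subgroup.mem_center_iff.mpr fun w => ?_, rfl⟩
      refine Subtype.ext ?_
      have hw : c⁻¹ * w * c ∈ V := by
        simpa using (inferInstance : V.Normal).conj_mem _ w.2 c⁻¹
      have hv' := congrArg Subtype.val (Subgroup.mem_center_iff.mp hv ⟨_, hw⟩)
      show (w : G) * (c * v * c⁻¹) = c * v * c⁻¹ * w
      calc (w : G) * (c * v * c⁻¹) = c * ((c⁻¹ * w * c) * v) * c⁻¹ := by group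
        _ = c * ((v : G) * (c⁻¹ * w * c)) * c⁻¹ := by rw [show c⁻¹ * (w : G) * c * v = v * (c⁻¹ * w * c) from hv']
        _ = _ := by group⟩
    have hVp : IsPGroup 2 V := CfsgLib.isPGroup_pCore 2
    haveI := hVp.center_nontrivial
    have hzZ : z ∈ Z := hb.mem_two Z ((hVp.to_subgroup _).map _) (by
      intro e
      obtain ⟨c, hc⟩ := exists_ne (1 : Subgroup.center V)
      have hcZ : ((c : V) : G) ∈ Z := ⟨c, c.2, rfl⟩
      rw [e, Subgroup.mem_bot] at hcZ
      exact hc (Subtype.ext (Subtype.ext hcZ)))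
    have hMZ : M ≤ Z := hM ▸ Subgroup.normalClosure_le_normal (Set.singleton_subset_iff.mpr hzZ)
    refine ⟨⟨⟨fun a b => Subtype.ext ?_⟩⟩, ?_⟩
    · obtain ⟨v, hv, ev⟩ := hMZ a.2
      obtain ⟨w, -, ew⟩ := hMZ b.2
      show (a : G) * b = b * a
      rw [← ev, ← ew]
      exact (congrArg Subtype.val (Subgroup.mem_center_iff.mp hv w)).symm
    · refine le_antisymm (sup_le (sSup_le fun K hK => ?_) hb.fitting_eq.le) (hb.fitting_eq.ge.trans le_sup_right)
      exfalso
      obtain ⟨k, hk, hne⟩ := hb.comp_moved hK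
      have hzV : z ∈ V := Subgroup.map_subtype_le _ hzZ
      exact hne (CfsgLib.Comp.comm_layer_fitting (CfsgLib.le_layer hK hk) (hb.fitting_eq.ge hzV))
  push Not at hV
  right
  have hF : fittingSubgroup G = ⊥ := hb.fitting_eq.trans hV
  have hFstar : generalizedFittingSubgroup G = layer G := by
    show layer G ⊔ fittingSubgroup G = layer G
    rw [hF, sup_bot_eq]
  have hlne : layer G ≠ ⊥ := by
    intro e
    have h1 := CfsgLib.centralizer_generalizedFitting_le (G := G)
    rw [hFstar, e] at h1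
    exact h.ne (Subgroup.mem_bot.mp (h1 (Subgroup.mem_centralizer_iff.mpr fun y hy => by
      rw [Subgroup.mem_bot.mp hy, one_mul, mul_one])))
  haveI : (layer G).Normal := inferInstance
  have hzl : z ∈ layer G := hb.mem_normal (layer G) hlne
  have hrad : ∀ A : Subgroup G, A.IsSubnormal → Group.IsSolvable A → A = ⊥ := by
    intro A hA hs
    have h1 := CfsgLib.Comp.radical_inf_centralizer_fitting (G := G)
    have h2 : Subgroup.centralizer (fittingSubgroup G : Set G) = ⊤ := eq_top_iff.mpr fun g _ => by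
      rw [hF, Subgroup.mem_centralizer_iff]
      intro y hy
      rw [Subgroup.mem_bot.mp hy, one_mul, mul_one]
    rw [h2, inf_top_eq] at h1
    refine le_bot_iff.mp (((CfsgLib.isSubnormal_solvable_le_radical hA hs).trans h1).trans ?_)
    rw [← hF]
    exact Subgroup.map_subtype_le _
  have hKcen : ∀ {K : Subgroup G}, IsComponent K → ∀ x ∈ K, (∀ y ∈ K, x * y = y * x) → x = 1 := by
    intro K hK x hx hxc
    have hZK : (Subgroup.center K).map K.subtype = ⊥ := by
      refine hrad _ ?_ ?_
      · exact (Subgroup.Normal.isSubnormal (H := Subgroup.center K) inferInstance).trans' hK.1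
      · refine Group.isSolvable_of_comm ?_
        rintro ⟨_, a, ha, rfl⟩ ⟨_, b, -, rfl⟩
        exact Subtype.ext (congrArg K.subtype (Subgroup.mem_center_iff.mp ha b).symm)
    have : x ∈ (Subgroup.center K).map K.subtype :=
      ⟨⟨x, hx⟩, Subgroup.mem_center_iff.mpr fun y => Subtype.ext (hxc y y.2).symm, rfl⟩
    rwa [hZK, Subgroup.mem_bot] at this
  have hKsimple : ∀ {K : Subgroup G}, IsComponent K → IsSimpleGroup K ∧ ¬ IsMulCommutative K := by
    intro K hK
    have hbot : Subgroup.center K = ⊥ := (Subgroup.eq_bot_iff_forall _).mpr fun c hc =>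
      Subtype.ext (hKcen hK c c.2 fun y hy => (congrArg Subtype.val (Subgroup.mem_center_iff.mp hc ⟨y, hy⟩)).symm)
    haveI := hK.2.2
    refine ⟨((QuotientGroup.quotientMulEquivOfEq hbot).trans QuotientGroup.quotientBot).isSimpleGroup_congr.mp inferInstance,
      fun hc => CfsgLib.isQuasisimple_not_isSolvable hK.2 (Group.isSolvable_of_comm fun a b => hc.is_comm.comm a b)⟩
  -- commutation and trivial intersections
  have hcomm : ∀ {K : Subgroup G} (S : Set (Subgroup G)), IsComponent K → (∀ L ∈ S, IsComponent L) → K ∉ S →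
      ∀ x ∈ K, ∀ y ∈ sSup S, x * y = y * x := by
    intro K S hK hS hKS x hx y hy
    have : sSup S ≤ Subgroup.centralizer (K : Set G) := sSup_le fun L hL => by
      rw [← Subgroup.commutator_eq_bot_iff_le_centralizer]
      exact (CfsgLib.components_eq_or_commute (hS L hL) hK).resolve_left fun e => hKS (e ▸ hL)
    exact Subgroup.mem_centralizer_iff.mp (this hy) x hx
  have hdisj : ∀ {K : Subgroup G} (S : Set (Subgroup G)), IsComponent K → (∀ L ∈ S, IsComponent L) → K ∉ S →
      ∀ x ∈ K, x ∈ sSup S → x = 1 := fun {K} S hK hS hKS x hx hxS =>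
    hKcen hK x hx fun y hy => (hcomm S hK hS hKS y hy x hxS).symm
  have hdec : ∀ {K : Subgroup G}, IsComponent K → ∃ a ∈ K, ∃ b ∈ sSup {L | IsComponent L ∧ L ≠ K},
      z = a * b := by
    intro K hK
    have hl : layer G = K ⊔ sSup {L | IsComponent L ∧ L ≠ K} := by
      refine le_antisymm (sSup_le fun L hL => ?_) (sup_le (CfsgLib.le_layer hK) (sSup_le fun L hL => CfsgLib.le_layer hL.1))
      by_cases e : L = K
      · exact e ▸ le_sup_left
      · exact le_sup_of_le_right (le_sSup ⟨hL, e⟩)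
    have hc : ⁅K, sSup {L | IsComponent L ∧ L ≠ K}⁆ = ⊥ := Subgroup.commutator_eq_bot_iff_le_centralizer.mpr
      fun x hx => Subgroup.mem_centralizer_iff.mpr fun y hy => (hcomm _ hK (fun L hL => hL.1) (fun hh => hh.2 rfl) x hx y hy).symm
    exact CfsgLib.Comp.mem_sup_of_commutator_eq_bot hc (hl ▸ hzl)
  have hzz := h.zz
  -- conjugates of components
  let cjG : G → Subgroup G → Subgroup G := fun g K => K.map (MulAut.conj g).toMonoidHom
  have hcjmem : ∀ {g x : G} {K : Subgroup G}, x ∈ K → g * x * g⁻¹ ∈ cjG g K := fun {g x K} hx => ⟨x, hx, rfl⟩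
  have hcjc : ∀ {g : G} {K : Subgroup G}, IsComponent K → IsComponent (cjG g K) := fun hK =>
    CfsgLib.isComponent_map_equiv _ hK
  have hcjcomp : ∀ (g g' : G) (K : Subgroup G), cjG g (cjG g' K) = cjG (g * g') K := fun g g' K => by
    show (K.map _).map _ = K.map _
    rw [Subgroup.map_map]
    congr 1
    ext x
    simp [mul_assoc]
  have hcj1 : ∀ K : Subgroup G, cjG 1 K = K := fun K => by
    show K.map _ = K
    convert K.map_id
    ext x; simp
  have hcjz : ∀ {K : Subgroup G}, IsComponent K → cjG z K = K := by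
    intro K hK
    obtain ⟨a, ha, b, hb', e⟩ := hdec hK
    refine SetLike.ext fun x => ?_
    have key : ∀ y ∈ K, z * y * z⁻¹ = a * y * a⁻¹ := fun y hy => by
      rw [e, mul_inv_rev, show a * b * y * (b⁻¹ * a⁻¹) = a * (b * y * b⁻¹) * a⁻¹ by group,
        ← hcomm _ hK (fun L hL => hL.1) (fun hh => hh.2 rfl) y hy b hb', mul_inv_cancel_right]
    constructor
    · rintro ⟨y, hy, rfl⟩
      show z * y * z⁻¹ ∈ K
      rw [key y hy]; exact mul_mem (mul_mem ha hy) (inv_mem ha)
    · intro hx
      refine ⟨a⁻¹ * x * a, mul_mem (mul_mem (inv_mem ha) hx) ha, ?_⟩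
      show z * (a⁻¹ * x * a) * z⁻¹ = x
      rw [key _ (mul_mem (mul_mem (inv_mem ha) hx) ha)]; group
  -- `Q` is transitive on components
  have htrans : ∀ {K L : Subgroup G}, IsComponent K → IsComponent L → ∃ q ∈ Q, L = cjG q K := by
    intro K L hK hL
    by_contra hno
    push Not at hno
    let S : Set (Subgroup G) := {J | ∃ q ∈ Q, J = cjG q K}
    let T : Set (Subgroup G) := {J | IsComponent J ∧ J ∉ S}
    have hS : ∀ J ∈ S, IsComponent J := by rintro _ ⟨q, -, rfl⟩; exact hcjc hK
    have hST : layer G = sSup S ⊔ sSup T := by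
      refine le_antisymm (sSup_le fun J hJ => ?_) (sup_le (sSup_le fun J hJ => CfsgLib.le_layer (hS J hJ))
        (sSup_le fun J hJ => CfsgLib.le_layer hJ.1))
      by_cases e : J ∈ S
      · exact le_sup_of_le_left (le_sSup e)
      · exact le_sup_of_le_right (le_sSup ⟨hJ, e⟩)
    have hc : ∀ x ∈ sSup S, ∀ y ∈ sSup T, x * y = y * x := by
      intro x hx y hy
      have : sSup S ≤ Subgroup.centralizer ((sSup T : Subgroup G) : Set G) := sSup_le fun J hJ w hw =>
        Subgroup.mem_centralizer_iff.mpr fun t ht =>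
          (hcomm T (hS J hJ) (fun I hI => hI.1) (fun hh => hh.2 hJ) w hw t ht).symm
      exact (Subgroup.mem_centralizer_iff.mp (this hx) y hy).symm
    obtain ⟨a, ha, b, hb', e⟩ := CfsgLib.Comp.mem_sup_of_commutator_eq_bot
      (Subgroup.commutator_eq_bot_iff_le_centralizer.mpr fun x hx =>
        Subgroup.mem_centralizer_iff.mpr fun y hy => (hc x hx y hy).symm) (hST ▸ hzl)
    have hint : ∀ w, w ∈ sSup S → w ∈ sSup T → w = 1 := by
      intro w hwS hwT
      have hcl : ∀ y ∈ layer G, w * y = y * w := fun y hy => by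
        obtain ⟨s, hs, t, ht, rfl⟩ := CfsgLib.Comp.mem_sup_of_commutator_eq_bot
          (Subgroup.commutator_eq_bot_iff_le_centralizer.mpr fun x hx =>
            Subgroup.mem_centralizer_iff.mpr fun y hy => (hc x hx y hy).symm) (hST ▸ hy)
        exact (Commute.mul_right (show Commute w s from (hc s hs w hwT).symm) (hc w hwS t ht)).eq
      have : w ∈ (Subgroup.center ↥(layer G)).map (layer G).subtype :=
        ⟨⟨w, (le_sup_left.trans hST.ge) hwS⟩, Subgroup.mem_center_iff.mpr fun y => Subtype.ext (hcl y y.2).symm, rfl⟩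
      rw [CfsgLib.Comp.center_layer_eq_inf, hF, bot_inf_eq, Subgroup.mem_bot] at this
      exact this
    have hperm : ∀ (U : Set (Subgroup G)) (q : G), (∀ J ∈ U, cjG q J ∈ U) → ∀ w ∈ sSup U, q * w * q⁻¹ ∈ sSup U := by
      intro U q hU w hw
      have : sSup U ≤ (sSup U).comap (MulAut.conj q).toMonoidHom := sSup_le fun J hJ =>
        Subgroup.map_le_iff_le_comap.mp (le_sSup (hU J hJ))
      exact this hw
    have hSq : ∀ q ∈ Q, ∀ J ∈ S, cjG q J ∈ S := by
      rintro q hq _ ⟨p, hp, rfl⟩; exact ⟨q * p, mul_mem hq hp, hcjcomp q p K⟩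
    have hTq : ∀ q ∈ Q, ∀ J ∈ T, cjG q J ∈ T := fun q hq J hJ => ⟨hcjc hJ.1, fun hh => hJ.2 (by
      have := hSq q⁻¹ (inv_mem hq) _ hh
      rwa [hcjcomp, inv_mul_cancel, hcj1] at this)⟩
    have hfix : ∀ q ∈ Q, a * q = q * a := by
      intro q hq
      have h1 : a * b = (q * a * q⁻¹) * (q * b * q⁻¹) := by
        rw [show q * a * q⁻¹ * (q * b * q⁻¹) = q * (a * b) * q⁻¹ by group, ← e, h.comm q hq, mul_inv_cancel_right]
      have h2 : a⁻¹ * (q * a * q⁻¹) = b * (q * b * q⁻¹)⁻¹ := by
        rw [eq_mul_inv_iff_mul_eq, mul_assoc, ← h1, inv_mul_cancel_left]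
      have h3 := hint _ (mul_mem (inv_mem ha) (hperm S q (hSq q hq) a ha))
        (h2 ▸ mul_mem hb' (inv_mem (hperm T q (hTq q hq) b hb')))
      exact (mul_inv_eq_iff_eq_mul.mp (inv_mul_eq_one.mp h3).symm).symm
    rcases h.cen a hfix with ea | ea
    · obtain ⟨k, hk, hne⟩ := hb.comp_moved hK
      have hkS : k ∈ sSup S := le_sSup (show K ∈ S from ⟨1, one_mem _, (hcj1 K).symm⟩) hk
      rw [e, ea, one_mul] at hne
      exact hne (hc k hkS b hb')
    · have hb1 : b = 1 := by
        rw [ea] at e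
        exact mul_eq_left.mp e.symm
      obtain ⟨k, hk, hne⟩ := hb.comp_moved hL
      have hkT : k ∈ sSup T := le_sSup (show L ∈ T from ⟨hL, fun ⟨q, hq, he⟩ => hno q hq he⟩) hk
      exact hne (by rw [← ea]; exact (hc a ha k hkT).symm)
  -- the layer is `M`
  have hcompM : ∀ {K : Subgroup G}, IsComponent K → K ≤ M := by
    intro K hK
    rcases CfsgLib.component_le_or_commutator_eq_bot hK M with e | e
    · exact e
    · obtain ⟨k, hk, hne⟩ := hb.comp_moved hK
      exact absurd (CfsgLib.Comp.comm_of_commutator_eq_bot e hk hzM) hne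
  have hMl : M = layer G := le_antisymm (hM ▸ Subgroup.normalClosure_le_normal (Set.singleton_subset_iff.mpr hzl))
    (sSup_le fun K hK => hcompM hK)
  obtain ⟨L, hL⟩ : ∃ L : Subgroup G, IsComponent L := by
    by_contra hno
    push Not at hno
    exact hlne (le_bot_iff.mp (sSup_le fun K hK => absurd hK (hno K)))
  by_cases hone : ∀ K, IsComponent K → K = L
  · left
    have hLM : M = L := le_antisymm (hMl ▸ sSup_le fun K hK => (hone K hK).le) (hcompM hL)
    exact ⟨hMl.trans hFstar.symm, hLM ▸ (hKsimple hL).1, hLM ▸ (hKsimple hL).2⟩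
  right
  push Not at hone
  obtain ⟨L', hL', hne'⟩ := hone
  obtain ⟨u, huQ, rfl⟩ := htrans hL hL'
  obtain ⟨a, haL, b, hb', hz⟩ := hdec hL
  have hab : a * b = b * a := hcomm _ hL (fun J hJ => hJ.1) (fun hh => hh.2 rfl) a haL b hb'
  have ha1 : a ≠ 1 := fun e => by
    obtain ⟨k, hk, hne⟩ := hb.comp_moved hL
    rw [hz, e, one_mul] at hne
    exact hne (hcomm _ hL (fun J hJ => hJ.1) (fun hh => hh.2 rfl) k hk b hb')
  have haz : a * z = z * a := by rw [hz, ← mul_assoc, mul_assoc a b a, ← hab, mul_assoc]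
  have ha2 : a * a = 1 := by
    refine hdisj {J | IsComponent J ∧ J ≠ L} hL (fun J hJ => hJ.1) (fun hh => hh.2 rfl) (a * a) (mul_mem haL haL) ?_
    have h1 : (a * a) * (b * b) = 1 := by
      rw [← hzz, hz]
      calc a * a * (b * b) = a * (a * b) * b := by group
        _ = a * (b * a) * b := by rw [hab]
        _ = a * b * (a * b) := by group
    rw [mul_eq_one_iff_eq_inv.mp h1]
    exact inv_mem (mul_mem hb' hb')
  -- the centraliser in `L`
  let R := L ⊓ Subgroup.centralizer ({z} : Set G)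
  have memR : ∀ {x : G}, x ∈ R ↔ x ∈ L ∧ x * z = z * x := fun {x} => by
    rw [Subgroup.mem_inf, Subgroup.mem_centralizer_singleton_iff]
  have haR : a ∈ R := memR.mpr ⟨haL, haz⟩
  have hxa : ∀ x ∈ R, x * a = a * x := fun x hx => by
    obtain ⟨hxL, hxz⟩ := memR.mp hx
    have hxb := hcomm _ hL (fun J hJ => hJ.1) (fun hh => hh.2 rfl) x hxL b hb'
    refine mul_right_cancel (b := b) ?_
    rw [mul_assoc, ← hz, hxz, hz, mul_assoc, mul_assoc, hxb]
  have hbr : ∀ q ∈ Q, ∀ x : G, x * z = z * x → x * (q * x⁻¹ * q⁻¹) ∈ Q := fun q hq x hx => by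
    rw [show x * (q * x⁻¹ * q⁻¹) = (x * q * x⁻¹) * q⁻¹ by group]
    exact mul_mem (h.nor x hx q hq) (inv_mem hq)
  -- either exactly two components, or squares of `R` are trivial
  have hthird : ∀ q ∈ Q, cjG q L ≠ L → z ∈ L ⊔ cjG q L → ∀ K, IsComponent K → K = L ∨ K = cjG q L := by
    intro q hq hne hzmem K hK
    by_contra hno
    push Not at hno
    obtain ⟨k, hk, hkz⟩ := hb.comp_moved hK
    refine hkz (hcomm {L, cjG q L} hK (by rintro J (rfl | rfl); exacts [hL, hcjc hL]) (by
      rintro (e | e); exacts [hno.1 e, hno.2 e]) k hk z (by rwa [sSup_pair]))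
  have hsq : ∀ x ∈ R, (x * x = 1 ∨ x * x = a) ∧
      ((∃ K, IsComponent K ∧ K ≠ L ∧ K ≠ cjG u L) → x * x = 1) := by
    intro x hx
    obtain ⟨hxL, hxz⟩ := memR.mp hx
    set y := u * x⁻¹ * u⁻¹ with hy
    have hyK : y ∈ cjG u L := hcjmem (inv_mem hxL)
    have hxy : x * y = y * x := hcomm {cjG u L} hL (by rintro J rfl; exact hcjc hL)
      (fun e => hne' (Set.mem_singleton_iff.mp e).symm) x hxL y (mem_sSup_of (Set.mem_singleton _) hyK)
    have hd : ∀ w ∈ L, w ∈ cjG u L → w = 1 := fun w hw hw' => hdisj {cjG u L} hL (by rintro J rfl; exact hcjc hL)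
      (fun e => hne' (Set.mem_singleton_iff.mp e).symm) w hw (mem_sSup_of (Set.mem_singleton _) hw')
    have he : x * y * (x * y) = (x * x) * (y * y) := by
      calc x * y * (x * y) = x * (y * x) * y := by group
        _ = x * (x * y) * y := by rw [hxy]
        _ = _ := by group
    rcases h.sq _ (hbr u huQ x hxz) with e | e <;> rw [← hy, he] at e
    · have : x * x = 1 := hd _ (mul_mem hxL hxL) (by
        rw [mul_eq_one_iff_eq_inv.mp e]; exact inv_mem (mul_mem hyK hyK))
      exact ⟨Or.inl this, fun _ => this⟩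
    · have hzmem : z ∈ L ⊔ cjG u L :=
        e ▸ mul_mem (Subgroup.mem_sup_left (mul_mem hxL hxL)) (Subgroup.mem_sup_right (mul_mem hyK hyK))
      refine ⟨Or.inr ?_, fun ⟨K, hK, h1, h2⟩ => ((hthird u huQ hne' hzmem K hK).elim h1 h2).elim⟩
      -- compare the `L`-parts
      have h1 : a⁻¹ * (x * x) = b * (y * y)⁻¹ := by
        rw [eq_mul_inv_iff_mul_eq, mul_assoc, e, hz, inv_mul_cancel_left]
      have h2 : a⁻¹ * (x * x) = 1 := hdisj {J | IsComponent J ∧ J ≠ L} hL (fun J hJ => hJ.1) (fun hh => hh.2 rfl) _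
        (mul_mem (inv_mem haL) (mul_mem hxL hxL)) (h1 ▸ mul_mem hb'
          (inv_mem ((le_sSup (show cjG u L ∈ {J | IsComponent J ∧ J ≠ L} from ⟨hcjc hL, hne'⟩)) (mul_mem hyK hyK))))
      exact (inv_mul_eq_one.mp h2).symm
  have hR2 : IsPGroup 2 R := fun x => ⟨2, Subtype.ext (by
    show (x : G) ^ (2 ^ 2) = 1
    rw [show 2 ^ 2 = 2 * 2 from rfl, pow_mul, sq, sq]
    rcases (hsq x x.2).1 with e | e <;> rw [e]
    · rw [one_mul]
    · exact ha2)⟩
  obtain ⟨T, hT⟩ := hb.exists_sylow
  obtain ⟨hTL, hTp, hTi⟩ := CfsgLib.Comp.isSylowIn_inf_of_subnormal T hL.1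
  have hTR : (T : Subgroup G) ⊓ L ≤ R := fun x hx => memR.mpr ⟨hx.2, hT x hx.1⟩
  have hRidx : ¬ 2 ∣ (R.subgroupOf L).index := fun hd => hTi (hd.trans (Subgroup.relIndex_dvd_of_le_left L hTR))
  let RS : Sylow 2 L := (hR2.comap_subtype (K := L)).toSylow hRidx
  have hRS : (RS : Subgroup L) = R.subgroupOf L := rfl
  have h4R : 4 ≤ Nat.card R := by
    obtain ⟨k, hk⟩ := hR2.exists_card_eq
    have hk2 : 2 ∣ Nat.card R := by
      have := orderOf_dvd_natCard (⟨a, haR⟩ : R)
      rwa [Subgroup.orderOf_mk, orderOf_eq_prime (p := 2) (by rw [sq, ha2]) ha1] at this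
    rcases k with _ | _ | k
    · rw [hk] at hk2; simp at hk2
    · -- Burnside transfer
      exfalso
      haveI := (hKsimple hL).1
      have hcard : Nat.card (RS : Subgroup L) = 2 := by
        rw [hRS, Nat.card_congr (Subgroup.subgroupOfEquivOfLe (inf_le_left : R ≤ L)).toEquiv, hk]
        norm_num
      obtain ⟨t, ht1, htu⟩ := (Nat.card_eq_two_iff' (1 : (RS : Subgroup L))).mp hcard
      have hN : Subgroup.normalizer ((RS : Subgroup L) : Set L) ≤ Subgroup.centralizer ((RS : Subgroup L) : Set L) := by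
        intro c hc
        refine Subgroup.mem_centralizer_iff.mpr fun s hs => ?_
        by_cases hs1 : s = 1
        · subst hs1; simp
        · have h1 : c * s * c⁻¹ ∈ (RS : Subgroup L) := (Subgroup.mem_normalizer_iff.mp hc s).mp hs
          have h2 := htu ⟨_, h1⟩ fun e => hs1 (conj_eq_one_iff.mp (congrArg Subtype.val e))
          have h3 := htu ⟨s, hs⟩ fun e => hs1 (congrArg Subtype.val e)
          have h4 : c * s * c⁻¹ = s := congrArg Subtype.val (h2.trans h3.symm)
          exact (mul_inv_eq_iff_eq_mul.mp h4).symm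
      have hcompl := MonoidHom.ker_transferSylow_isComplement' RS hN
      rcases (MonoidHom.transferSylow RS hN).normal_ker.eq_bot_or_eq_top with e | e
      · rw [e] at hcompl
        have := Subgroup.isComplement'_bot_left.mp hcompl
        exact (hKsimple hL).2 ⟨⟨fun p q => by
          have hc2 : ∀ r : L, r = 1 ∨ r = (t : L) := fun r => by
            by_cases hr : r = 1
            · exact Or.inl hr
            · exact Or.inr (congrArg Subtype.val (htu ⟨r, this ▸ Subgroup.mem_top r⟩
                fun e' => hr (congrArg Subtype.val e')))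
          rcases hc2 p with rfl | rfl <;> rcases hc2 q with rfl | rfl <;> simp⟩⟩
      · rw [e] at hcompl
        rw [Subgroup.isComplement'_top_left.mp hcompl] at hcard
        simp at hcard
    · rw [hk]
      exact Nat.le_of_dvd (by positivity) (pow_dvd_pow 2 (by omega : 2 ≤ k + 1 + 1))
  -- there are exactly two components
  have htwo : ∀ K, IsComponent K → K = L ∨ K = cjG u L := by
    by_contra hno
    push Not at hno
    obtain ⟨K₃, hK₃, hK₃L, hK₃u⟩ := hno
    have hexp : ∀ x ∈ R, x * x = 1 := fun x hx => (hsq x hx).2 ⟨K₃, hK₃, hK₃L, hK₃u⟩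
    let QL : Subgroup G :=
      { carrier := {q | q ∈ Q ∧ cjG q L = L}
        one_mem' := ⟨one_mem _, hcj1 L⟩
        mul_mem' := fun {p q} hp hq => ⟨mul_mem hp.1 hq.1, by rw [← hcjcomp, hq.2, hp.2]⟩
        inv_mem' := fun {p} hp => ⟨inv_mem hp.1, by
          conv_lhs => rw [← hp.2]
          rw [hcjcomp, inv_mul_cancel, hcj1]⟩ }
    have hzQL : z ∈ QL := ⟨h.mem, hcjz hL⟩
    have hQLn : ∀ p ∈ Q, ∀ q ∈ QL, p * q * p⁻¹ ∈ QL := fun p hp q hq => by
      rcases h.conj_cases hp hq.1 with e | e <;> rw [e]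
      exacts [hq, mul_mem hq hzQL]
    have hfix : ∀ q ∈ QL, ∀ x ∈ R, q * x = x * q := by
      intro q hq x hx
      obtain ⟨hxL, hxz⟩ := memR.mp hx
      set e := x * (q * x⁻¹ * q⁻¹) with he
      have heL : e ∈ L := mul_mem hxL (hq.2 ▸ hcjmem (inv_mem hxL))
      have heQ : e ∈ Q := hbr q hq.1 x hxz
      have he1 : e = 1 := by
        have hd : ∀ w ∈ L, w ∈ cjG u L → w = 1 := fun w hw hw' => hdisj {cjG u L} hL (by rintro J rfl; exact hcjc hL)
          (fun e => hne' (Set.mem_singleton_iff.mp e).symm) w hw (mem_sSup_of (Set.mem_singleton _) hw')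
        rcases h.conj_cases huQ heQ with e' | e'
        · exact hd e heL (e' ▸ hcjmem heL)
        · exfalso
          have hzmem : z ∈ L ⊔ cjG u L := by
            have : z = e⁻¹ * (u * e * u⁻¹) := by rw [e', inv_mul_cancel_left]
            rw [this]
            exact mul_mem (Subgroup.mem_sup_left (inv_mem heL)) (Subgroup.mem_sup_right (hcjmem heL))
          exact (hthird u huQ hne' hzmem K₃ hK₃).elim hK₃L hK₃u
      calc q * x = e⁻¹ * (q * x) := by rw [he1, inv_one, one_mul]
        _ = x * q := by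
          rw [he]
          calc (x * (q * x⁻¹ * q⁻¹))⁻¹ * (q * x) = q * (x * q⁻¹ * x⁻¹) * q * x := by group
            _ = _ := by
              have : x * q⁻¹ * x⁻¹ * q = 1 := by
                have h1 := he1
                rw [he] at h1
                calc x * q⁻¹ * x⁻¹ * q = q⁻¹ * (q * x * q⁻¹ * x⁻¹) * q := by group
                  _ = q⁻¹ * (x * (q * x⁻¹ * q⁻¹))⁻¹ * q := by group
                  _ = 1 := by rw [h1]; group
              rw [show q * (x * q⁻¹ * x⁻¹) * q * x = q * (x * q⁻¹ * x⁻¹ * q) * x by group, this]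
              have h1 := he1
              rw [he] at h1
              calc q * 1 * x = q * x * (x * (q * x⁻¹ * q⁻¹)) ⁻¹⁻¹ := by rw [h1]; group
                _ = q * (x * x) * q * x⁻¹ * q⁻¹ := by group
                _ = q * q * x⁻¹ * q⁻¹ := by rw [hexp x hx]; group
                _ = x * q := by
                  have h2 : q * x⁻¹ * q⁻¹ = x⁻¹ := eq_inv_of_mul_eq_one_right h1
                  rw [show q * q * x⁻¹ * q⁻¹ = q * (q * x⁻¹ * q⁻¹) by group, h2,
                    show q * x⁻¹ = (q * x⁻¹ * q⁻¹) * q by group, h2, inv_eq_of_mul_eq_one_right (hexp x hx)]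
    have hfix' : ∀ q ∈ QL, ∀ p ∈ Q, ∀ x ∈ R, q * (p * x * p⁻¹) = p * x * p⁻¹ * q := by
      intro q hq p hp x hx
      have h1 : p⁻¹ * q * p ∈ QL := by simpa using hQLn p⁻¹ (inv_mem hp) q hq
      calc q * (p * x * p⁻¹) = p * ((p⁻¹ * q * p) * x) * p⁻¹ := by group
        _ = p * (x * (p⁻¹ * q * p)) * p⁻¹ := by rw [hfix _ h1 x hx]
        _ = _ := by group
    let E : Subgroup G := Q ⊓ Subgroup.centralizer (QL : Set G)
    have key : ∀ S : Finset (Subgroup G), (∀ K ∈ S, IsComponent K ∧ K ≠ L) →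
        Nat.card R ^ S.card ≤ Nat.card (E ⊓ (L ⊔ sSup (S : Set (Subgroup G))) : Subgroup G) := by
      intro S
      induction S using Finset.induction with
      | empty =>
        intro _
        simp only [Finset.card_empty, pow_zero]
        exact Nat.card_pos
      | @insert K S hKS ih =>
        intro hS
        obtain ⟨hK, hKL⟩ := hS K (Finset.mem_insert_self _ _)
        have hS' : ∀ J ∈ S, IsComponent J ∧ J ≠ L := fun J hJ => hS J (Finset.mem_insert_of_mem hJ)
        obtain ⟨p, hp, hKp⟩ := htrans hL hK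
        have hLS : L ⊔ sSup (S : Set (Subgroup G)) = sSup (insert L (S : Set (Subgroup G))) := sSup_insert.symm
        have hKni : K ∉ insert L (S : Set (Subgroup G)) := by
          rintro (e | e); exacts [hKL e, hKS e]
        have hins : ∀ J ∈ insert L (S : Set (Subgroup G)), IsComponent J := by
          rintro J (rfl | hJ); exacts [hL, (hS' J hJ).1]
        let f : R × (E ⊓ (L ⊔ sSup (S : Set (Subgroup G))) : Subgroup G) →
            (E ⊓ (L ⊔ sSup ((insert K S : Finset (Subgroup G)) : Set (Subgroup G))) : Subgroup G) := fun xe =>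
          ⟨(xe.1 : G) * (p * (xe.1 : G)⁻¹ * p⁻¹) * (xe.2 : G), by
            have hx := memR.mp xe.1.2
            have hsub : L ⊔ sSup (S : Set (Subgroup G)) ≤ L ⊔ sSup ((insert K S : Finset (Subgroup G)) : Set (Subgroup G)) :=
              sup_le_sup_left (sSup_le_sSup (by simp)) L
            refine mul_mem ⟨⟨hbr p hp _ hx.2, Subgroup.mem_centralizer_iff.mpr fun q hq => ?_⟩, ?_⟩
              ⟨xe.2.2.1, hsub xe.2.2.2⟩
            · exact (Commute.mul_right (show Commute q (xe.1 : G) from hfix q hq _ xe.1.2)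
                (hfix' q hq p hp _ (inv_mem xe.1.2))).eq
            · refine mul_mem (Subgroup.mem_sup_left hx.1) (Subgroup.mem_sup_right ?_)
              exact le_sSup (show K ∈ ((insert K S : Finset (Subgroup G)) : Set (Subgroup G)) by simp)
                (hKp ▸ hcjmem (inv_mem hx.1))⟩
        have hf : Function.Injective f := by
          rintro ⟨x, e⟩ ⟨x', e'⟩ heq
          have h0 : (x : G) * (p * (x : G)⁻¹ * p⁻¹) * e = (x' : G) * (p * (x' : G)⁻¹ * p⁻¹) * e' :=
            congrArg Subtype.val heq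
          set w := p * (x : G)⁻¹ * p⁻¹
          set w' := p * (x' : G)⁻¹ * p⁻¹
          have hwK : w ∈ K := hKp ▸ hcjmem (inv_mem (memR.mp x.2).1)
          have hwK' : w' ∈ K := hKp ▸ hcjmem (inv_mem (memR.mp x'.2).1)
          have hcw : ∀ y ∈ sSup (insert L (S : Set (Subgroup G))), ∀ v ∈ K, v * y = y * v :=
            fun y hy v hv => hcomm _ hK hins hKni v hv y hy
          have m1 : (x : G) ∈ sSup (insert L (S : Set (Subgroup G))) := mem_sSup_of (Set.mem_insert _ _) (memR.mp x.2).1
          have m1' : (x' : G) ∈ sSup (insert L (S : Set (Subgroup G))) := mem_sSup_of (Set.mem_insert _ _) (memR.mp x'.2).1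
          have m2 : (e : G) ∈ sSup (insert L (S : Set (Subgroup G))) := hLS ▸ e.2.2
          have m2' : (e' : G) ∈ sSup (insert L (S : Set (Subgroup G))) := hLS ▸ e'.2.2
          have h1 : w * ((x : G) * e) = w' * ((x' : G) * e') := by
            calc w * ((x : G) * e) = (w * x) * e := (mul_assoc _ _ _).symm
              _ = ((x : G) * w) * e := by rw [hcw _ m1 w hwK]
              _ = ((x' : G) * w') * e' := h0
              _ = (w' * x') * e' := by rw [hcw _ m1' w' hwK']
              _ = _ := mul_assoc _ _ _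
          have h2 : w'⁻¹ * w = ((x' : G) * e') * ((x : G) * e)⁻¹ := by
            rw [eq_mul_inv_iff_mul_eq, mul_assoc, h1, inv_mul_cancel_left]
          have h3 : w'⁻¹ * w = 1 := hdisj _ hK hins hKni _ (mul_mem (inv_mem hwK') hwK)
            (h2 ▸ mul_mem (mul_mem m1' m2') (inv_mem (mul_mem m1 m2)))
          have hxx : x = x' := by
            have := inv_mul_eq_one.mp h3
            exact Subtype.ext (inv_injective (mul_left_cancel (mul_right_cancel this.symm)))
          subst hxx
          exact Prod.ext rfl (Subtype.ext (mul_left_cancel h0))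
        rw [Finset.card_insert_of_notMem hKS, pow_succ']
        refine le_trans (Nat.mul_le_mul_left _ (ih hS')) ?_
        rw [← Nat.card_prod]
        exact Nat.card_le_card_of_injective f hf
    let Sall : Finset (Subgroup G) := (Set.toFinite {K | IsComponent K ∧ K ≠ L}).toFinset
    have hle := (key Sall fun K hK => (Set.Finite.mem_toFinset (Set.toFinite {K : Subgroup G | IsComponent K ∧ K ≠ L})).mp hK).trans
      (Subgroup.card_le_of_le (inf_le_left : E ⊓ (L ⊔ sSup (Sall : Set (Subgroup G))) ≤ E))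
    have hk2 : 2 ≤ Sall.card := by
      have : ({cjG u L, K₃} : Finset (Subgroup G)) ⊆ Sall := by
        intro J hJ
        simp only [Finset.mem_insert, Finset.mem_singleton] at hJ
        rcases hJ with rfl | rfl
        · exact (Set.Finite.mem_toFinset _).mpr ⟨hcjc hL, hne'⟩
        · exact (Set.Finite.mem_toFinset _).mpr ⟨hK₃, hK₃L⟩
      simpa [Finset.card_pair (Ne.symm hK₃u)] using Finset.card_le_card this
    -- the size of `E`
    have hQLQ : QL ≤ Q := fun q hq => hq.1
    have hcQ := h.toExt.card_mul_card_centralizer (A := QL.subgroupOf Q) (show (⟨z, h.mem⟩ : Q) ∈ QL.subgroupOf Q from hzQL)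
    have hEc : Nat.card (Subgroup.centralizer ((QL.subgroupOf Q : Subgroup Q) : Set Q)) = Nat.card E := by
      have : Subgroup.centralizer ((QL.subgroupOf Q : Subgroup Q) : Set Q) = E.subgroupOf Q := by
        ext q
        rw [Subgroup.mem_centralizer_iff, Subgroup.mem_subgroupOf, Subgroup.mem_inf, Subgroup.mem_centralizer_iff]
        exact ⟨fun hh => ⟨q.2, fun r hr => congrArg Subtype.val (hh ⟨r, hQLQ hr⟩ hr)⟩,
          fun hh r hr => Subtype.ext (hh.2 r hr)⟩
      rw [this, Nat.card_congr (Subgroup.subgroupOfEquivOfLe (inf_le_left : E ≤ Q)).toEquiv]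
    have hidx : (QL.subgroupOf Q).index ≤ Sall.card + 1 := by
      let φ : Q ⧸ QL.subgroupOf Q → ↥(insert L Sall) := fun c => Quotient.liftOn' c (fun q => ⟨cjG (q : G) L, by
        rw [Finset.mem_insert]
        by_cases e : cjG (q : G) L = L
        · exact Or.inl e
        · exact Or.inr ((Set.Finite.mem_toFinset _).mpr ⟨hcjc hL, e⟩)⟩) (fun q r hqr => Subtype.ext (by
          have h1 := Subgroup.mem_subgroupOf.mp (QuotientGroup.leftRel_apply.mp hqr)
          push_cast at h1
          show cjG (q : G) L = cjG (r : G) L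
          conv_lhs => rw [← h1.2]
          rw [hcjcomp, mul_inv_cancel_left]))
      have hφ : Function.Injective φ := by
        intro c d
        induction c using QuotientGroup.induction_on with
        | _ q =>
          induction d using QuotientGroup.induction_on with
          | _ r =>
            intro e
            refine QuotientGroup.eq.mpr (Subgroup.mem_subgroupOf.mpr ⟨mul_mem (inv_mem q.2) r.2, ?_⟩)
            have e' : cjG (q : G) L = cjG (r : G) L := congrArg Subtype.val e
            push_cast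
            rw [← hcjcomp, ← e', hcjcomp, inv_mul_cancel, hcj1]
      rw [Subgroup.index_eq_card]
      refine (Nat.card_le_card_of_injective φ hφ).trans ?_
      rw [Nat.card_eq_fintype_card, Fintype.card_coe]
      exact Finset.card_insert_le _ _
    have hEle : Nat.card E ≤ 2 * (Sall.card + 1) := by
      have h1 := (QL.subgroupOf Q).card_mul_index
      rw [hEc, ← h1, mul_assoc] at hcQ
      have h2 := Nat.eq_of_mul_eq_mul_left Nat.card_pos hcQ
      omega
    have h4pow : 4 ^ Sall.card ≤ Nat.card R ^ Sall.card := Nat.pow_le_pow_left h4R _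
    have hgrow : ∀ n, 2 ≤ n → 2 * (n + 1) < 4 ^ n := by
      intro n hn
      induction n, hn using Nat.le_induction with
      | base => norm_num
      | succ n _ ih => rw [pow_succ]; omega
    have := hgrow _ hk2
    omega
  have hbK : b ∈ cjG u L := (sSup_le fun J hJ => ((htwo J hJ.1).resolve_left hJ.2).le :
    sSup {J | IsComponent J ∧ J ≠ L} ≤ cjG u L) hb'
  have hd : ∀ w ∈ L, w ∈ cjG u L → w = 1 := fun w hw hw' => hdisj {cjG u L} hL (by rintro J rfl; exact hcjc hL)
    (fun e => hne' (Set.mem_singleton_iff.mp e).symm) w hw (mem_sSup_of (Set.mem_singleton _) hw')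
  have hc12 : ∀ x ∈ L, ∀ y ∈ cjG u L, x * y = y * x := fun x hx y hy => hcomm {cjG u L} hL
    (by rintro J rfl; exact hcjc hL) (fun e => hne' (Set.mem_singleton_iff.mp e).symm) x hx y (mem_sSup_of (Set.mem_singleton _) hy)
  have hback : ∀ y ∈ cjG u L, u * y * u⁻¹ ∈ L := by
    intro y hy
    have hmem : u * y * u⁻¹ ∈ cjG u (cjG u L) := hcjmem hy
    rcases htwo _ (hcjc (g := u) (hcjc (g := u) hL)) with e | e
    · rwa [e] at hmem
    · exfalso
      apply hne'
      have := congrArg (cjG u⁻¹) e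
      rwa [hcjcomp, inv_mul_cancel, hcj1, hcjcomp, inv_mul_cancel, hcj1] at this
  have hu : b = u * a * u⁻¹ := by
    have h1 : a * b = (u * b * u⁻¹) * (u * a * u⁻¹) := by
      rw [show u * b * u⁻¹ * (u * a * u⁻¹) = u * (b * a) * u⁻¹ by group, ← hab, ← hz, h.comm u huQ, mul_inv_cancel_right]
    have h2 : (u * b * u⁻¹)⁻¹ * a = (u * a * u⁻¹) * b⁻¹ := by
      rw [eq_mul_inv_iff_mul_eq, mul_assoc, h1, inv_mul_cancel_left]
    have h3 := hd _ (mul_mem (inv_mem (hback b hbK)) haL) (h2 ▸ mul_mem (hcjmem haL) (inv_mem hbK))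
    rw [h3] at h2
    exact (mul_inv_eq_one.mp h2.symm).symm
  have hLsup : L ⊔ cjG u L = M := le_antisymm (sup_le (hcompM hL) (hcompM (hcjc hL)))
    (hMl ▸ sSup_le fun J hJ => (htwo J hJ).elim (fun e => e ▸ le_sup_left) (fun e => e ▸ le_sup_right))
  refine ⟨hMl.trans hFstar.symm, L, u, huQ, (hKsimple hL).1, (hKsimple hL).2,
    (Subgroup.eq_bot_iff_forall _).mpr (fun w hw => hd w hw.1 hw.2), hc12, hLsup, a, haL, hz.trans (by rw [hu]),
    ⟨RS, ?_, ?_⟩, ?_⟩
  · rw [hRS]
    ext x
    rw [Subgroup.mem_subgroupOf, Subgroup.mem_subgroupOf, Subgroup.mem_centralizer_singleton_iff]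
    refine ⟨fun hx => hxa x hx, fun hx => memR.mpr ⟨x.2, ?_⟩⟩
    rw [hz]
    exact (Commute.mul_right hx (hc12 x x.2 b hbK)).eq
  · let aR : (RS : Subgroup L) := ⟨⟨a, haL⟩, Subgroup.mem_subgroupOf.mpr haR⟩
    have hsqR : ∀ r : (RS : Subgroup L), r * r = 1 ∨ r * r = aR := fun r =>
      (hsq _ (Subgroup.mem_subgroupOf.mp r.2)).1.imp (fun e => Subtype.ext (Subtype.ext e))
        (fun e => Subtype.ext (Subtype.ext e))
    have hmem : ∀ r : (RS : Subgroup L), r * r ∈ Subgroup.zpowers aR := fun r =>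
      (hsqR r).elim (fun e => e ▸ one_mem _) (fun e => e ▸ Subgroup.mem_zpowers _)
    have hle : frattini (RS : Subgroup L) ≤ Subgroup.zpowers aR :=
      CfsgLib.RankFrattini.frattini_le_of_elementary RS.isPGroup' _ (fun p q => by
        rw [commutatorElement_def, show p * q * p⁻¹ * q⁻¹ = (p * p) * ((p⁻¹ * q) * (p⁻¹ * q)) * (q⁻¹ * q⁻¹) by group]
        exact mul_mem (mul_mem (hmem _) (hmem _)) (hmem _)) (fun p => by rw [sq]; exact hmem p)
    refine (Subgroup.map_mono hle).trans ?_
    rw [MonoidHom.map_zpowers]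
    exact le_rfl
  · intro hQeq
    set C := Subgroup.centralizer ({z} : Set G)
    have hW : IsPGroup 2 ((M.subgroupOf C) : Subgroup C) := fun w => ⟨2, Subtype.ext (Subtype.ext (by
      show ((w : C) : G) ^ (2 ^ 2) = 1
      have hwM : ((w : C) : G) ∈ L ⊔ cjG u L := hLsup ▸ w.2
      obtain ⟨l, hl, l', hl', hww⟩ := CfsgLib.Comp.mem_sup_of_commutator_eq_bot
        (Subgroup.commutator_eq_bot_iff_le_centralizer.mpr fun x hx =>
          Subgroup.mem_centralizer_iff.mpr fun y hy => (hc12 x hx y hy).symm) hwM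
      have hwz : (l * l') * z = z * (l * l') := hww ▸ Subgroup.mem_centralizer_singleton_iff.mp (w : C).2
      have hll : l * l' = l' * l := hc12 l hl l' hl'
      have hdd : (l * a)⁻¹ * (a * l) = 1 := by
        refine hd _ (mul_mem (inv_mem (mul_mem hl haL)) (mul_mem haL hl)) ?_
        have h1 : (l * a) * (l' * b) = (a * l) * (b * l') := by
          calc (l * a) * (l' * b) = l * (a * l') * b := by group
            _ = l * (l' * a) * b := by rw [hc12 a haL l' hl']
            _ = (l * l') * z := by rw [hz]; group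
            _ = z * (l * l') := hwz
            _ = a * (b * l) * l' := by rw [hz]; group
            _ = a * (l * b) * l' := by rw [hc12 l hl b hbK]
            _ = _ := by group
        have h2 : (l * a)⁻¹ * (a * l) = (l' * b) * (b * l')⁻¹ := by
          rw [eq_mul_inv_iff_mul_eq, mul_assoc, ← h1, inv_mul_cancel_left]
        rw [h2]
        exact mul_mem (mul_mem hl' hbK) (inv_mem (mul_mem hbK hl'))
      have hla : l * a = a * l := inv_mul_eq_one.mp hdd
      have hlz : l * z = z * l := by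
        rw [hz]; exact (Commute.mul_right hla (hc12 l hl b hbK)).eq
      have hlz' : l' * z = z * l' := by
        have : l' = l⁻¹ * (l * l') := by group
        rw [this]
        exact (Commute.mul_left (Commute.inv_left hlz) hwz).eq
      have hl'R : u * l' * u⁻¹ ∈ R := memR.mpr ⟨hback l' hl', by
        calc u * l' * u⁻¹ * z = u * l' * (u⁻¹ * z) := by group
          _ = u * l' * (z * u⁻¹) := by rw [h.comm _ (inv_mem huQ)]
          _ = u * (l' * z) * u⁻¹ := by group
          _ = u * (z * l') * u⁻¹ := by rw [hlz']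
          _ = (u * z) * l' * u⁻¹ := by group
          _ = z * (u * l' * u⁻¹) := by rw [h.comm u huQ]; group⟩
      have p4 : ∀ x ∈ R, x ^ (2 ^ 2) = 1 := fun x hx => by
        rw [show 2 ^ 2 = 2 * 2 from rfl, pow_mul, sq, sq]
        rcases (hsq x hx).1 with e | e <;> rw [e]
        · rw [one_mul]
        · exact ha2
      have e4 : l' ^ (2 ^ 2) = 1 := by
        have := p4 _ hl'R
        rw [conj_pow] at this
        exact conj_eq_one_iff.mp this
      rw [hww, (show Commute l l' from hll).mul_pow, p4 l (memR.mpr ⟨hl, hlz⟩), e4, one_mul]))⟩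
    have hWle := CfsgLib.le_pCore (N := M.subgroupOf C) hW
    have hRQ : ∀ x ∈ R, x ∈ Q := fun x hx => by
      rw [hQeq]
      exact ⟨⟨x, (memR.mp hx).2 |> Subgroup.mem_centralizer_singleton_iff.mpr⟩,
        hWle (Subgroup.mem_subgroupOf.mpr (hcompM hL (memR.mp hx).1)), rfl⟩
    have hsmall : ∀ x ∈ R, x = 1 ∨ x = a := fun x hx => by
      obtain ⟨hxL, -⟩ := memR.mp hx
      rcases h.conj_cases huQ (hRQ x hx) with e | e
      · exact Or.inl (hd x hxL (e ▸ hcjmem hxL))
      · right
        have h1 : x * a = u * x * u⁻¹ * b⁻¹ := by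
          rw [e, hz]; group
        have h2 := hd _ (mul_mem hxL haL) (h1 ▸ mul_mem (hcjmem hxL) (inv_mem hbK))
        exact (mul_eq_one_iff_eq_inv.mp h2).trans (inv_eq_of_mul_eq_one_right ha2)
    have hs : Function.Surjective (fun b : Bool => (if b then ⟨a, haR⟩ else 1 : R)) := fun c => by
      rcases hsmall c c.2 with e | e
      · exact ⟨false, Subtype.ext e.symm⟩
      · exact ⟨true, Subtype.ext e.symm⟩
    have := Nat.card_le_card_of_surjective _ hs
    simp at this
    omega

omit hb in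
theorem large_structure (Q : Subgroup G) (hQ : Cfsg.IsLargeExtraspecial Q) (z : G)
    (hz : ((Subgroup.center ↥Q).map Q.subtype) = Subgroup.zpowers z) : Big Q z := by
  obtain ⟨w, h, hmem⟩ := ES.of_large hQ.1 hQ.2.1 hQ.2.2.1
  have hzw : z = w := by
    rcases (hmem z).mp (hz ▸ Subgroup.mem_zpowers z) with e | e
    · exfalso
      have := (hmem w).mpr (Or.inr rfl)
      rw [hz, e, Subgroup.zpowers_one_eq_bot, Subgroup.mem_bot] at this
      exact h.ne this
    · exact e
  exact ⟨hzw ▸ h, hQ.2.2.2⟩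

end CfsgLargeExtra
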